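import Mathlib
import Cfsg.Agent.Lib.MinIdx.Basic
import Cfsg.Agent.Lib.RootMax.Root

/-!
Root groups of a pseudo-quadratic space acting on a finite set: the stabiliser data `A`, `Z` of a
point, their annihilators `D`, `E`, and the orbit size formula.
-/

set_option autoImplicit false
set_option linter.unusedSectionVars false

namespace CfsgLib.MinIdx

open CfsgLib.Forms CfsgLib.RootMax Module

universe u v

variable {F : Type u} [Field F] {σ : F →+* F} {V : Type v} [AddCommGroup V] [Module F V]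

/-- A group of isometries fixing `R` pointwise and containing all root maps orthogonal to `R`. -/
structure Ctx (P : PQ σ V) where
  /-- the fixed subspace -/
  R : Submodule F V
  /-- the group -/
  K : Subgroup (V ≃ₗ[F] V)
  nondeg : P.Nondeg
  le : K ≤ P.isom
  fix : ∀ g ∈ K, ∀ r ∈ R, g r = r
  root : ∀ x a c, P.Sing x → x ∈ P.perp R → a ∈ P.perp R → P.B x a = 0 →
    c - σ (P.N a) ∈ P.Λ → Rt P K x a c

namespace Ctx

variable {P : PQ σ V} (C : Ctx P)

/-- Singular vectors orthogonal to `R`. -/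
def Pt (x : V) : Prop := P.Sing x ∧ x ∈ P.perp C.R

/-- Valid root data. -/
def Val (x a : V) (c : F) : Prop := a ∈ P.perp C.R ∧ P.B x a = 0 ∧ c - σ (P.N a) ∈ P.Λ

open _root_.Classical in
/-- The root element with the given data. -/
noncomputable def el (x a : V) (c : F) : C.K :=
  if h : C.Pt x ∧ C.Val x a c then
    ⟨(C.root x a c h.1.1 h.1.2 h.2.1 h.2.2.1 h.2.2.2).choose,
      (C.root x a c h.1.1 h.1.2 h.2.1 h.2.2.1 h.2.2.2).choose_spec.1⟩
  else 1

variable {C}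

theorem el_apply {x a : V} {c : F} (hx : C.Pt x) (h : C.Val x a c) (v : V) :
    (C.el x a c).1 v = rt P x a c v := by
  rw [el, dif_pos ⟨hx, h⟩]
  exact (C.root x a c hx.1 hx.2 h.1 h.2.1 h.2.2).choose_spec.2 v

theorem ext' {g h : C.K} (H : ∀ u, g.1 u = h.1 u) : g = h := Subtype.ext (LinearEquiv.ext H)

theorem mul_apply' (g h : C.K) (u : V) : (g * h).1 u = g.1 (h.1 u) := rfl

theorem inv_apply' (g : C.K) (u : V) : (g⁻¹).1 (g.1 u) = u := g.1.symm_apply_apply u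

theorem apply_inv' (g : C.K) (u : V) : g.1 ((g⁻¹).1 u) = u := g.1.apply_symm_apply u

theorem inv_apply_eq' {g : C.K} {u v : V} (h : g.1 u = v) : (g⁻¹).1 v = u := by
  rw [← h, inv_apply']

theorem B_map (g : C.K) (u v : V) : P.B (g.1 u) (g.1 v) = P.B u v := (C.le g.2).B_eq u v

theorem N_map (g : C.K) (u : V) : P.N (g.1 u) - P.N u ∈ P.Λ := (C.le g.2).N_eq u

theorem sing_map (g : C.K) {u : V} : P.Sing (g.1 u) ↔ P.Sing u := (C.le g.2).sing

theorem perp_map (g : C.K) {u : V} (h : u ∈ P.perp C.R) : g.1 u ∈ P.perp C.R := fun r hr => by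
  rw [← C.fix g.1 g.2 r hr, B_map, h r hr]

theorem B_map_R (g : C.K) {r : V} (hr : r ∈ C.R) (u : V) : P.B r (g.1 u) = P.B r u := by
  rw [← B_map g r u, C.fix g.1 g.2 r hr]

theorem Pt.map {x : V} (h : C.Pt x) (g : C.K) : C.Pt (g.1 x) :=
  ⟨(sing_map g).2 h.1, perp_map g h.2⟩

theorem Pt.smul {x : V} (h : C.Pt x) (t : F) : C.Pt (t • x) :=
  ⟨h.1.smul t, Submodule.smul_mem _ _ h.2⟩

theorem Pt.add {x y : V} (h : C.Pt x) (h' : C.Pt y) (hxy : P.B x y = 0) : C.Pt (x + y) :=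
  ⟨h.1.add h'.1 hxy, Submodule.add_mem _ h.2 h'.2⟩

theorem Pt.self_eq {x : V} (h : C.Pt x) : P.B x x = 0 := h.1.self_eq

theorem Val.map {x a : V} {c : F} (h : C.Val x a c) (g : C.K) : C.Val (g.1 x) (g.1 a) c := by
  refine ⟨perp_map g h.1, by rw [B_map, h.2.1], ?_⟩
  have h2 := σ_mem P (N_map g a)
  simp only [map_sub] at h2
  convert P.Λ.sub_mem h.2.2 h2 using 1
  ring

theorem val_self {x a : V} (h1 : a ∈ P.perp C.R) (h2 : P.B x a = 0) : C.Val x a (σ (P.N a)) :=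
  ⟨h1, h2, by simp⟩

theorem val_zero_iff {x : V} {c : F} : C.Val x 0 c ↔ c ∈ P.Λ := by
  have h := σ_mem P P.sing_zero
  constructor
  · intro h1; simpa using P.Λ.add_mem h1.2.2 h
  · intro h1; exact ⟨Submodule.zero_mem _, by simp, P.Λ.sub_mem h1 h⟩

theorem val_of_sing {x a : V} {c : F} (h1 : C.Pt a) (h2 : P.B x a = 0) (hc : c ∈ P.Λ) :
    C.Val x a c := ⟨h1.2, h2, P.Λ.sub_mem hc (σ_mem P h1.1)⟩

theorem Val.add {x a a' : V} {c c' : F} (h : C.Val x a c) (h' : C.Val x a' c') :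
    C.Val x (a + a') (c + c' + P.ε * P.B a a') := by
  refine ⟨Submodule.add_mem _ h.1 h'.1, by rw [P.B_add_right, h.2.1, h'.2.1, add_zero], ?_⟩
  have h2 := σ_mem P (P.N_add a a')
  have h3 := ε_sub_σ_mem P (P.B a a')
  simp only [map_sub] at h2
  convert P.Λ.sub_mem (P.Λ.add_mem (P.Λ.add_mem h.2.2 h'.2.2) h3) h2 using 1
  ring

theorem Val.neg {x a : V} {c : F} (h : C.Val x a c) : C.Val x (-a) (P.ε * P.B a a - c) := by
  refine ⟨Submodule.neg_mem _ h.1, by simp [h.2.1], ?_⟩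
  have h2 := σ_mem P (N_neg P a)
  have h3 := ε_sub_σ_mem P (P.N a)
  simp only [map_sub] at h2
  rw [P.self]
  convert P.Λ.sub_mem (P.Λ.sub_mem h3 h.2.2) h2 using 1
  linear_combination σ (P.N a) * P.εε

theorem Val.sub_mem {x a : V} {c c' : F} (h : C.Val x a c) (h' : C.Val x a c') : c - c' ∈ P.Λ := by
  convert P.Λ.sub_mem h.2.2 h'.2.2 using 1
  ring

theorem Val.add_mem {x a : V} {c d : F} (h : C.Val x a c) (hd : d ∈ P.Λ) : C.Val x a (c + d) :=
  ⟨h.1, h.2.1, by convert P.Λ.add_mem h.2.2 hd using 1; ring⟩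

theorem Val.smul {x a : V} {c : F} (h : C.Val x a c) (t : F) :
    C.Val x (σ t • a) (σ t * t * c) := by
  refine ⟨Submodule.smul_mem _ _ h.1, by rw [P.B_smul_right, h.2.1, mul_zero], ?_⟩
  have h2 := σ_mem P (P.N_smul (σ t) a)
  simp only [map_sub, map_mul, P.σσ] at h2
  convert P.Λ.sub_mem (P.Λ_smul t _ h.2.2) h2 using 1
  ring

theorem Val.of_smul {x a : V} {c t : F} (ht : t ≠ 0) (h : C.Val (t • x) a c) : C.Val x a c :=
  ⟨h.1, by
    have := h.2.1
    rw [P.B_smul_left] at this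
    exact (mul_eq_zero.1 this).resolve_left (by simpa using ht), h.2.2⟩

theorem Val.smul_left {x a : V} {c : F} (h : C.Val x a c) (t : F) : C.Val (t • x) a c :=
  ⟨h.1, by rw [P.B_smul_left, h.2.1, mul_zero], h.2.2⟩

theorem el_of_not {x : V} (hx : ¬ C.Pt x) (a : V) (c : F) : C.el x a c = 1 := by
  rw [el, dif_neg fun h => hx h.1]

theorem el_mul {x a a' : V} {c c' : F} (h : C.Val x a c) (h' : C.Val x a' c') :
    C.el x a c * C.el x a' c' = C.el x (a + a') (c + c' + P.ε * P.B a a') := by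
  by_cases hx : C.Pt x
  · exact ext' fun v => by
      rw [mul_apply', el_apply hx h, el_apply hx h', el_apply hx (h.add h'),
        rt_rt P hx.self_eq h.2.1 h'.2.1]
  · simp [el_of_not hx]

theorem el_zero (x : V) : C.el x 0 0 = 1 := by
  by_cases hx : C.Pt x
  · exact ext' fun v => by
      rw [el_apply hx (val_zero_iff.2 P.Λ.zero_mem)]; simp [rt_def]
  · exact el_of_not hx _ _

theorem el_inv {x a : V} {c : F} (h : C.Val x a c) :
    (C.el x a c)⁻¹ = C.el x (-a) (P.ε * P.B a a - c) := by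
  rw [inv_eq_iff_mul_eq_one, el_mul h h.neg, ← el_zero x]
  congr 1 <;> simp

theorem el_conj (g : C.K) {x a : V} {c : F} (hx : C.Pt x) (h : C.Val x a c) :
    g * C.el x a c * g⁻¹ = C.el (g.1 x) (g.1 a) c := ext' fun v => by
  obtain ⟨v, rfl⟩ := g.1.surjective v
  rw [mul_apply', mul_apply', inv_apply', el_apply hx h, el_apply (hx.map g) (h.map g)]
  simp only [rt_def, map_add, map_sub, map_smul, B_map]

theorem el_smul_left {x a : V} {c : F} (hx : C.Pt x) (h : C.Val x a c) (t : F) :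
    C.el (t • x) a c = C.el x (σ t • a) (σ t * t * c) := ext' fun v => by
  rw [el_apply (hx.smul t) (h.smul_left t), el_apply hx (h.smul t)]
  simp only [rt_def, P.B_smul_left, P.σσ]
  module

theorem el_apply_of_orth {x a : V} {c : F} (hx : C.Pt x) (h : C.Val x a c) {v : V}
    (h1 : P.B x v = 0) (h2 : P.B a v = 0) : (C.el x a c).1 v = v := by
  rw [el_apply hx h, rt_of_orth P c h1 h2]

theorem el_apply_self {x a : V} {c : F} (hx : C.Pt x) (h : C.Val x a c) :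
    (C.el x a c).1 x = x := el_apply_of_orth hx h hx.self_eq (P.B_eq_zero_comm.1 h.2.1)

theorem val_smul_self {x : V} (hx : C.Pt x) (t : F) : C.Val x (t • x) (σ t - P.ε * t) :=
  val_of_sing (hx.smul t) (by rw [P.B_smul_right, hx.self_eq, mul_zero])
    (by simpa using P.Λ.neg_mem (ε_sub_σ_mem P t))

theorem el_smul_self {x : V} (hx : C.Pt x) (t : F) : C.el x (t • x) (σ t - P.ε * t) = 1 :=
  ext' fun v => by
    rw [el_apply hx (val_smul_self hx t)]
    simp only [rt_def, P.B_smul_left]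
    change _ = v
    module

/-- The root element of two orthogonal points lies in both root groups. -/
theorem el_swap {x y : V} (hx : C.Pt x) (hy : C.Pt y) (h : P.B x y = 0) :
    C.el x y 0 = C.el y (-P.ε • x) 0 := ext' fun v => by
  rw [el_apply hx (val_of_sing hy h P.Λ.zero_mem), el_apply hy (val_of_sing (hx.smul _)
    (by rw [P.B_smul_right, P.B_eq_zero_comm.1 h, mul_zero]) P.Λ.zero_mem)]
  simp only [rt_def, P.B_smul_left, map_neg, P.σε]
  match_scalars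
  · ring
  · linear_combination (-P.B y v) * P.εε
  · ring

variable (C) in
/-- The parameter group of the root group of `x`. -/
def Heis (x : V) : Type (max u v) := {p : V × F // C.Val x p.1 p.2}

instance (x : V) : Group (C.Heis x) where
  mul p q := ⟨(p.1.1 + q.1.1, p.1.2 + q.1.2 + P.ε * P.B p.1.1 q.1.1), p.2.add q.2⟩
  one := ⟨(0, 0), val_zero_iff.2 P.Λ.zero_mem⟩
  inv p := ⟨(-p.1.1, P.ε * P.B p.1.1 p.1.1 - p.1.2), p.2.neg⟩
  mul_assoc p q r := Subtype.ext (Prod.ext (add_assoc _ _ _) (by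
    change p.1.2 + q.1.2 + P.ε * P.B p.1.1 q.1.1 + r.1.2 + P.ε * P.B (p.1.1 + q.1.1) r.1.1 =
      p.1.2 + (q.1.2 + r.1.2 + P.ε * P.B q.1.1 r.1.1) + P.ε * P.B p.1.1 (q.1.1 + r.1.1)
    rw [P.B_add_left, P.B_add_right]; ring))
  one_mul p := Subtype.ext (Prod.ext (zero_add _) (by
    change 0 + p.1.2 + P.ε * P.B 0 p.1.1 = p.1.2
    simp))
  mul_one p := Subtype.ext (Prod.ext (add_zero _) (by
    change p.1.2 + 0 + P.ε * P.B p.1.1 0 = p.1.2
    simp))
  inv_mul_cancel p := Subtype.ext (Prod.ext (neg_add_cancel _) (by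
    change P.ε * P.B p.1.1 p.1.1 - p.1.2 + p.1.2 + P.ε * P.B (-p.1.1) p.1.1 = 0
    simp))

variable (C) in
/-- The root group of `x` as a homomorphic image. -/
noncomputable def heisHom (x : V) : C.Heis x →* C.K :=
  MonoidHom.mk' (fun p => C.el x p.1.1 p.1.2) fun p q => (el_mul p.2 q.2).symm

theorem mem_perp_sup {x a : V} :
    a ∈ P.perp (C.R ⊔ Submodule.span F {x}) ↔ a ∈ P.perp C.R ∧ P.B x a = 0 := by
  rw [P.perp_sup, Submodule.mem_inf, P.mem_perp_span_singleton]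

theorem card_heis (x : V) :
    Nat.card (C.Heis x) = Nat.card (P.perp (C.R ⊔ Submodule.span F {x})) * Nat.card P.Λ := by
  rw [← Nat.card_prod]
  refine Nat.card_congr
    { toFun := fun p => (⟨p.1.1, ?_⟩, ⟨p.1.2 - σ (P.N p.1.1), p.2.2.2⟩)
      invFun := fun q => ⟨(q.1, q.2 + σ (P.N q.1)), ?_⟩
      left_inv := fun p => Subtype.ext (Prod.ext rfl (by simp))
      right_inv := fun q => Prod.ext rfl (Subtype.ext (by simp)) }
  · exact mem_perp_sup.2 ⟨p.2.1, p.2.2.1⟩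
  · have := mem_perp_sup.1 q.1.2
    exact ⟨this.1, this.2, by simp⟩

variable {Ω : Type*} [MulAction C.K Ω]

variable (C Ω) in
/-- The orbits of the root group of `x`. -/
noncomputable def rel (x : V) : Setoid Ω := homRel (C.heisHom x) Ω

theorem rel_iff {x : V} {a b : Ω} :
    C.rel Ω x a b ↔ ∃ u c, C.Val x u c ∧ C.el x u c • b = a :=
  ⟨fun ⟨p, hp⟩ => ⟨_, _, p.2, hp⟩, fun ⟨u, c, h, h'⟩ => ⟨⟨(u, c), h⟩, h'⟩⟩

theorem rel_el {x u : V} {c : F} (h : C.Val x u c) (ω : Ω) : C.rel Ω x (C.el x u c • ω) ω :=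
  rel_iff.2 ⟨u, c, h, rfl⟩

variable (C) in
/-- The directions of the root elements fixing `ω`. -/
def A (x : V) (ω : Ω) : AddSubgroup V where
  carrier := {a | ∃ c, C.Val x a c ∧ C.el x a c • ω = ω}
  add_mem' := by
    rintro a b ⟨c, h1, h2⟩ ⟨d, h3, h4⟩
    exact ⟨_, h1.add h3, by rw [← el_mul h1 h3, mul_smul, h4, h2]⟩
  zero_mem' := ⟨0, val_zero_iff.2 P.Λ.zero_mem, by rw [el_zero, one_smul]⟩
  neg_mem' := by
    rintro a ⟨c, h1, h2⟩
    exact ⟨_, h1.neg, by rw [← el_inv h1, inv_smul_eq_iff, h2]⟩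

theorem mem_A {x a : V} {ω : Ω} : a ∈ C.A x ω ↔ ∃ c, C.Val x a c ∧ C.el x a c • ω = ω := Iff.rfl

theorem el_add_zero (x : V) {c d : F} (hc : c ∈ P.Λ) (hd : d ∈ P.Λ) :
    C.el x 0 (c + d) = C.el x 0 c * C.el x 0 d := by
  rw [el_mul (val_zero_iff.2 hc) (val_zero_iff.2 hd)]
  simp

variable (C) in
/-- The transvections with centre `x`. -/
noncomputable def zfam (x : V) : Fam F C.K where
  X := P.Λ
  t := C.el x 0
  add _ hc _ hd := el_add_zero x hc hd

variable (C) in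
/-- The parameters of the transvections fixing `ω`. -/
noncomputable def Z (x : V) (ω : Ω) : AddSubgroup F := (C.zfam x).stab ω

theorem mem_Z {x : V} {c : F} {ω : Ω} : c ∈ C.Z x ω ↔ c ∈ P.Λ ∧ C.el x 0 c • ω = ω := Iff.rfl

theorem smul_self_mem_A {x : V} (hx : C.Pt x) (ω : Ω) (t : F) : t • x ∈ C.A x ω :=
  ⟨_, val_smul_self hx t, by rw [el_smul_self hx, one_smul]⟩

theorem el_smul_of_mem_A {x a : V} {ω : Ω} (hZ : ∀ c ∈ P.Λ, c ∈ C.Z x ω)
    (ha : a ∈ C.A x ω) {c : F} (hc : C.Val x a c) : C.el x a c • ω = ω := by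
  obtain ⟨d, h1, h2⟩ := ha
  have h3 := el_mul h1 (val_zero_iff.2 (hc.sub_mem h1))
  simp only [add_zero, map_zero, mul_zero, add_sub_cancel] at h3
  rw [← h3, mul_smul, (mem_Z.1 (hZ _ (hc.sub_mem h1))).2, h2]

theorem A_conj (g : C.K) {x a : V} {ω : Ω} (hx : C.Pt x) (h : a ∈ C.A x ω) :
    g.1 a ∈ C.A (g.1 x) (g • ω) :=
  let ⟨c, h1, h2⟩ := h
  ⟨c, h1.map g, by rw [← el_conj g hx h1, mul_smul, mul_smul, inv_smul_smul, h2]⟩

theorem Z_conj (g : C.K) {x : V} {c : F} {ω : Ω} (hx : C.Pt x) (h : c ∈ C.Z x ω) :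
    c ∈ C.Z (g.1 x) (g • ω) := mem_Z.2 ⟨h.1, by
  have := el_conj g hx (val_zero_iff.2 h.1)
  rw [map_zero] at this
  rw [← this, mul_smul, mul_smul, inv_smul_smul, (mem_Z.1 h).2]⟩

theorem A_smul {x a : V} {ω : Ω} (hx : C.Pt x) {t : F} (ht : t ≠ 0) (h : a ∈ C.A (t • x) ω) :
    σ t • a ∈ C.A x ω :=
  let ⟨_, h1, h2⟩ := h
  ⟨_, (h1.of_smul ht).smul t, by rw [← el_smul_left hx (h1.of_smul ht), h2]⟩

theorem Z_smul {x : V} {c : F} {ω : Ω} (hx : C.Pt x) {t : F} (h : c ∈ C.Z (t • x) ω) :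
    σ t * t * c ∈ C.Z x ω := mem_Z.2 ⟨P.Λ_smul t _ h.1, by
  have := el_smul_left hx (val_zero_iff.2 h.1) t
  rw [smul_zero] at this
  rw [← this, (mem_Z.1 h).2]⟩

theorem rel_conj (g : C.K) {x : V} (hx : C.Pt x) {a b : Ω} (h : C.rel Ω x a b) :
    C.rel Ω (g.1 x) (g • a) (g • b) := by
  obtain ⟨u, c, h1, rfl⟩ := rel_iff.1 h
  exact rel_iff.2 ⟨_, c, h1.map g, by rw [← el_conj g hx h1, mul_smul, mul_smul, inv_smul_smul]⟩

theorem rel_of_smul {x : V} (hx : C.Pt x) {t : F} (ht : t ≠ 0) {a b : Ω}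
    (h : C.rel Ω (t • x) a b) : C.rel Ω x a b := by
  obtain ⟨u, c, h1, rfl⟩ := rel_iff.1 h
  rw [el_smul_left hx (h1.of_smul ht)]
  exact rel_el ((h1.of_smul ht).smul t) b

theorem rel_smul {g : C.K} {x : V} (hx : C.Pt x) {t : F} (ht : t ≠ 0) (hg : g.1 x = t • x)
    {a b : Ω} (h : C.rel Ω x a b) : C.rel Ω x (g • a) (g • b) :=
  rel_of_smul hx ht (hg ▸ rel_conj g hx h)

theorem rel_smul_iff {g : C.K} {x : V} (hx : C.Pt x) {t : F} (ht : t ≠ 0) (hg : g.1 x = t • x)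
    (a b : Ω) : C.rel Ω x a b ↔ C.rel Ω x (g • a) (g • b) :=
  ⟨rel_smul hx ht hg, fun h => by
    have := rel_smul (g := g⁻¹) hx (inv_ne_zero ht) (inv_apply_eq' (by
      rw [map_smul, hg, smul_smul, inv_mul_cancel₀ ht, one_smul])) h
    rwa [inv_smul_smul, inv_smul_smul] at this⟩

theorem rel_fix {g : C.K} {x : V} (hx : C.Pt x) (hg : g.1 x = x)
    (a b : Ω) : C.rel Ω x a b ↔ C.rel Ω x (g • a) (g • b) :=
  rel_smul_iff hx one_ne_zero (by rw [hg, one_smul]) a b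

theorem Z_congr {x : V} (hx : C.Pt x) {a b : Ω} (h : C.rel Ω x a b) : C.Z x a = C.Z x b := by
  have key : ∀ a b : Ω, C.rel Ω x a b → C.Z x b ≤ C.Z x a := by
    intro a b h c hc
    obtain ⟨u, d, h1, rfl⟩ := rel_iff.1 h
    have := Z_conj (C.el x u d) hx hc
    rwa [el_apply_self hx h1] at this
  exact le_antisymm (key _ _ ((C.rel Ω x).symm h)) (key _ _ h)

theorem A_congr {x : V} (hx : C.Pt x) {a b : Ω} (h : C.rel Ω x a b) : C.A x a = C.A x b := by
  have key : ∀ a b : Ω, C.rel Ω x a b → C.A x b ≤ C.A x a := by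
    intro a b h v hv
    obtain ⟨u, d, h1, rfl⟩ := rel_iff.1 h
    have h2 := A_conj (C.el x u d) hx hv
    obtain ⟨c, h3, -⟩ := hv
    rw [el_apply_self hx h1, el_apply hx h1, rt_of_orth_left P _ _ h3.2.1] at h2
    simpa using (C.A x _).sub_mem h2 (smul_self_mem_A hx _ (P.B u v))
  exact le_antisymm (key _ _ ((C.rel Ω x).symm h)) (key _ _ h)

theorem card_stab (x : V) (ω : Ω) :
    Nat.card ((MulAction.stabilizer C.K ω).comap (C.heisHom x))
      = Nat.card (C.A x ω) * Nat.card (C.Z x ω) := by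
  let S := (MulAction.stabilizer C.K ω).comap (C.heisHom x)
  let π : S →* Multiplicative (C.A x ω) :=
    MonoidHom.mk' (fun p => Multiplicative.ofAdd ⟨p.1.1.1, p.1.1.2, p.1.2, p.2⟩)
      fun _ _ => rfl
  have h1 : Function.Surjective π := by
    rintro ⟨a, c, h1, h2⟩
    exact ⟨⟨⟨(a, c), h1⟩, h2⟩, rfl⟩
  have h2 := π.ker.index_mul_card
  rw [Subgroup.index_ker, MonoidHom.range_eq_top.2 h1, Subgroup.card_top] at h2
  rw [← h2]
  congr 1
  refine Nat.card_congr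
    { toFun := fun p => ⟨p.1.1.1.2, ?_⟩
      invFun := fun c => ⟨⟨⟨(0, c.1), val_zero_iff.2 c.2.1⟩, c.2.2⟩, rfl⟩
      left_inv := fun p => Subtype.ext (Subtype.ext (Subtype.ext (Prod.ext ?_ rfl)))
      right_inv := fun c => rfl }
  · have h3 : p.1.1.1.1 = 0 :=
      congrArg (fun z => (Multiplicative.toAdd z).1) (MonoidHom.mem_ker.1 p.2)
    have h4 : C.el x p.1.1.1.1 p.1.1.1.2 • ω = ω := p.1.2
    rw [h3] at h4
    exact mem_Z.2 ⟨val_zero_iff.1 (h3 ▸ p.1.1.2), h4⟩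
  · exact (congrArg (fun z => (Multiplicative.toAdd z).1) (MonoidHom.mem_ker.1 p.2)).symm

variable (P) in
/-- The form as a biadditive pairing. -/
def _root_.CfsgLib.MinIdx.pairB : V →+ V →+ F where
  toFun a := (P.B a).toAddMonoidHom
  map_zero' := by ext; simp
  map_add' a b := by ext; simp

theorem _root_.CfsgLib.MinIdx.pairB_apply (a v : V) : pairB P a v = P.B a v := rfl

variable (F) in
/-- Multiplication as a biadditive pairing. -/
def _root_.CfsgLib.MinIdx.pairM : F →+ F →+ F := AddMonoidHom.mul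

theorem _root_.CfsgLib.MinIdx.pairM_apply (a b : F) : pairM F a b = a * b := rfl

variable [Finite F]

theorem pairB_nondeg (C : Ctx P) (a : V) (h : ∀ v, pairB P a v ∈ κ F) : a = 0 :=
  C.nondeg a fun v => eq_zero_of_forall_mul_mem_κ fun t => by
    simpa [pairB_apply] using h (t • v)

theorem pairB_nondeg' (C : Ctx P) (v : V) (h : ∀ a, pairB P a v ∈ κ F) : v = 0 :=
  C.nondeg.right v fun a => eq_zero_of_forall_mul_mem_κ fun t => by
    have := h (σ t • a)
    rwa [pairB_apply, P.B_smul_left, P.σσ] at this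

theorem mul_nondeg (a : F) (h : ∀ v, pairM F a v ∈ κ F) : a = 0 :=
  eq_zero_of_forall_mul_mem_κ fun t => by simpa [pairM_apply, mul_comm] using h t

theorem mul_nondeg' (a : F) (h : ∀ v, pairM F v a ∈ κ F) : a = 0 :=
  eq_zero_of_forall_mul_mem_κ fun t => h t

variable (C) in
/-- The annihilator of `A x ω`. -/
def D (x : V) (ω : Ω) : AddSubgroup V := perp (pairB P) (C.A x ω)

variable (C) in
/-- The annihilator of `Z x ω`. -/
noncomputable def E (x : V) (ω : Ω) : AddSubgroup F := perp (pairM F) (C.Z x ω)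

theorem mem_D {x v : V} {ω : Ω} : v ∈ C.D x ω ↔ ∀ a ∈ C.A x ω, P.B a v ∈ κ F := Iff.rfl

theorem mem_E {x : V} {t : F} {ω : Ω} : t ∈ C.E x ω ↔ ∀ c ∈ C.Z x ω, c * t ∈ κ F := Iff.rfl

theorem D_congr {x : V} (hx : C.Pt x) {a b : Ω} (h : C.rel Ω x a b) : C.D x a = C.D x b := by
  unfold D; rw [A_congr hx h]

theorem E_congr {x : V} (hx : C.Pt x) {a b : Ω} (h : C.rel Ω x a b) : C.E x a = C.E x b := by
  unfold E; rw [Z_congr hx h]

theorem D_conj (g : C.K) {x v : V} {ω : Ω} (hx : C.Pt x) (h : v ∈ C.D x ω) :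
    g.1 v ∈ C.D (g.1 x) (g • ω) := mem_D.2 fun a ha => by
  have h1 := A_conj g⁻¹ (hx.map g) ha
  rw [inv_apply', inv_smul_smul] at h1
  have h2 := mem_D.1 h _ h1
  rwa [← B_map g, apply_inv'] at h2

theorem E_conj (g : C.K) {x : V} {t : F} {ω : Ω} (hx : C.Pt x) (h : t ∈ C.E x ω) :
    t ∈ C.E (g.1 x) (g • ω) := mem_E.2 fun c hc => by
  have h1 := Z_conj g⁻¹ (hx.map g) hc
  rw [inv_apply', inv_smul_smul] at h1
  exact mem_E.1 h _ h1

theorem D_smul {x v : V} {ω : Ω} (hx : C.Pt x) {t : F} (ht : t ≠ 0) (h : v ∈ C.D x ω) :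
    t • v ∈ C.D (t • x) ω := mem_D.2 fun a ha => by
  have := mem_D.1 h _ (A_smul hx ht ha)
  rwa [P.B_smul_left, P.σσ, ← P.B_smul_right] at this

theorem E_smul {x : V} {s : F} {ω : Ω} (hx : C.Pt x) (t : F) (h : s ∈ C.E x ω) :
    σ t * t * s ∈ C.E (t • x) ω := mem_E.2 fun c hc => by
  have := mem_E.1 h _ (Z_smul hx hc)
  convert this using 1
  ring

theorem D_fix {g : C.K} {x v : V} {ω : Ω} (hx : C.Pt x) (hg : g.1 x = x) (h : v ∈ C.D x ω) :
    g.1 v ∈ C.D x (g • ω) := hg ▸ D_conj g hx (hg.symm ▸ h)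

theorem E_fix {g : C.K} {x : V} {s : F} {ω : Ω} (hx : C.Pt x) (hg : g.1 x = x)
    (h : s ∈ C.E x ω) : s ∈ C.E x (g • ω) := by
  have := E_conj g hx h
  rwa [hg] at this

theorem D_twist {g : C.K} {x v : V} {ω : Ω} (hx : C.Pt x) {t : F} (ht : t ≠ 0)
    (hg : g.1 x = t⁻¹ • x) (h : v ∈ C.D x ω) : t • g.1 v ∈ C.D x (g • ω) := by
  have := D_smul (hx.map g) ht (D_conj g hx h)
  rwa [hg, smul_smul, mul_inv_cancel₀ ht, one_smul] at this

theorem E_twist {g : C.K} {x : V} {s : F} {ω : Ω} (hx : C.Pt x) {t : F} (ht : t ≠ 0)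
    (hg : g.1 x = t⁻¹ • x) (h : s ∈ C.E x ω) : σ t * t * s ∈ C.E x (g • ω) := by
  have := E_smul (hx.map g) t (E_conj g hx h)
  rwa [hg, smul_smul, mul_inv_cancel₀ ht, one_smul] at this

theorem D_orth {x v : V} {ω : Ω} (hx : C.Pt x) (h : v ∈ C.D x ω) : P.B x v = 0 :=
  eq_zero_of_forall_mul_mem_κ fun t => by
    have := mem_D.1 h _ (smul_self_mem_A hx ω (σ t))
    rwa [P.B_smul_left, P.σσ] at this

theorem mem_D_of_mem {x v : V} (ω : Ω) (h : v ∈ C.R ⊔ Submodule.span F {x}) : v ∈ C.D x ω :=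
  mem_D.2 fun a ⟨c, h1, _⟩ => by
    obtain ⟨r, hr, y, hy, rfl⟩ := Submodule.mem_sup.1 h
    obtain ⟨t, rfl⟩ := Submodule.mem_span_singleton.1 hy
    rw [P.B_add_right, P.B_smul_right, P.B_eq_zero_comm.1 h1.2.1, P.B_eq_zero_comm.1 (h1.1 r hr)]
    simp

theorem smul_mem_D (x : V) (ω : Ω) (t : F) : t • x ∈ C.D x ω :=
  mem_D_of_mem ω (Submodule.mem_sup_right (Submodule.mem_span_singleton.2 ⟨t, rfl⟩))

theorem R_mem_D (x : V) (ω : Ω) {r : V} (hr : r ∈ C.R) : r ∈ C.D x ω :=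
  mem_D_of_mem ω (Submodule.mem_sup_left hr)

theorem mem_E_of_perp (x : V) (ω : Ω) {t : F} (ht : t ∈ perp (pairM F) P.Λ) :
    t ∈ C.E x ω := mem_E.2 fun c hc => ht c hc.1

variable [FiniteDimensional F V]

theorem finite_V (_ : Ctx P) : Finite V := Module.finite_of_finite F

theorem finite_K : Finite C.K := by
  have := C.finite_V
  exact Finite.of_injective (fun g : C.K => (g.1 : V → V)) fun g h hgh =>
    ext' fun u => congrFun hgh u

theorem mem_A_of_D {x a : V} {ω : Ω} (h : ∀ v ∈ C.D x ω, P.B a v ∈ κ F) : a ∈ C.A x ω :=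
  have := C.finite_V
  mem_of_forall_perp (pairB P) C.pairB_nondeg C.pairB_nondeg' h

theorem mem_A_of_orth {x a : V} {ω : Ω} (h : ∀ v ∈ C.D x ω, P.B a v = 0) : a ∈ C.A x ω :=
  mem_A_of_D fun v hv => by rw [h v hv]; exact (κ F).zero_mem

theorem mem_Z_of_E {x : V} {c : F} {ω : Ω} (h : ∀ t ∈ C.E x ω, c * t ∈ κ F) : c ∈ C.Z x ω :=
  mem_of_forall_perp (pairM F) mul_nondeg mul_nondeg' h

theorem card_A_mul_D (x : V) (ω : Ω) :
    Nat.card (C.A x ω) * Nat.card (C.D x ω) = Nat.card F ^ finrank F V := by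
  have := C.finite_V
  rw [← Module.natCard_eq_pow_finrank]
  exact card_mul_card_perp (pairB P) C.pairB_nondeg _

theorem card_Z_mul_E (x : V) (ω : Ω) :
    Nat.card (C.Z x ω) * Nat.card (C.E x ω) = Nat.card F :=
  card_mul_card_perp (pairM F) mul_nondeg _

/-- The orbit size formula. -/
theorem card_D_mul_E (x : V) (ω : Ω) :
    Nat.card (C.D x ω) * Nat.card (C.E x ω) * Nat.card P.Λ =
      Nat.card F ^ (finrank F (C.R ⊔ Submodule.span F {x} : Submodule F V) + 1) *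
        {ω' | C.rel Ω x ω' ω}.ncard := by
  have := C.finite_V
  have h1 := ncard_homRel_mul (C.heisHom x) ω
  rw [card_stab, card_heis, Module.natCard_eq_pow_finrank (K := F) (V := P.perp _)] at h1
  have h2 := card_A_mul_D (C := C) x ω
  have h3 := card_Z_mul_E (C := C) x ω
  rw [← P.finrank_perp C.nondeg (C.R ⊔ Submodule.span F {x})] at h2
  have h5 : 0 < Nat.card (C.A x ω) * Nat.card (C.Z x ω) := Nat.mul_pos Nat.card_pos Nat.card_pos
  apply Nat.eq_of_mul_eq_mul_left h5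
  change _ = _ * (_ * {ω' | homRel (C.heisHom x) Ω ω' ω}.ncard)
  calc _ = (Nat.card (C.A x ω) * Nat.card (C.D x ω)) * (Nat.card (C.Z x ω) * Nat.card (C.E x ω))
        * Nat.card P.Λ := by ring
    _ = _ := by
      rw [h2, h3, pow_add, pow_succ, mul_assoc, mul_assoc, mul_comm (Nat.card F), ← mul_assoc
        (Nat.card F ^ finrank F (P.perp _)), ← h1]
      ring

end Ctx

end CfsgLib.MinIdx
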