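import Mathlib
import Cfsg.Agent.Lib.MinIdx.PBase

/-!
The geometric step: if every singular point is of full, line or regular type, the point
stabiliser fixes a one-dimensional subspace (modulo the fixed subspace).
-/

set_option autoImplicit false
set_option linter.unusedSectionVars false

namespace CfsgLib.MinIdx

open CfsgLib.Forms CfsgLib.RootMax Module Submodule

universe u v

variable {F : Type u} [Field F] {σ : F →+* F} {V : Type v} [AddCommGroup V] [Module F V]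
  [FiniteDimensional F V] {P : PQ σ V}

/-- Singular vectors span `T^⊥` as soon as one of them lies outside `T`. -/
theorem exists_sing_not_orth (hP : P.Nondeg) {T : Submodule F V} {z : V} (hz : P.Sing z)
    (hzT : z ∈ P.perp T) (hz' : z ∉ T) {u : V} (hu : u ∉ T) :
    ∃ y, P.Sing y ∧ y ∈ P.perp T ∧ P.B y u ≠ 0 := by
  by_contra h
  push Not at h
  obtain ⟨z', h1, h2, h3⟩ := P.exists_partner hP T hz hz' (P.mem_perp'.1 hzT)
  have h3' : z' ∈ P.perp T := P.mem_perp'.2 h3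
  have h4 : P.B z z' ≠ 0 := fun h0 => by
    rw [P.B_eq_zero_comm.1 h0] at h2; exact zero_ne_one h2
  apply hu
  rw [← P.perp_perp hP T]
  intro a ha
  set a₁ := a - (P.B z a / P.B z z') • z' with ha₁
  have h5 : P.B a₁ z = 0 := P.B_eq_zero_comm.1 (by
    rw [ha₁, P.B_sub_right, P.B_smul_right, div_mul_cancel₀ _ h4, sub_self])
  have h6 : a₁ ∈ P.perp T := sub_mem ha (smul_mem _ _ h3')
  have h7 := h _ (sing_add_smul (u := z' + a₁) hz (by rw [P.B_add_left, h2, h5]; simp))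
    (add_mem (add_mem h3' h6) (smul_mem _ _ hzT))
  rw [P.B_add_left, P.B_add_left, P.B_smul_left, h z hz hzT, h z' h1 h3', ha₁, P.B_sub_left,
    P.B_smul_left, h z' h1 h3'] at h7
  simpa using h7

theorem exists_mem_notMem {W W' : Submodule F V} (h : finrank F W' < finrank F W) :
    ∃ b ∈ W, b ∉ W' := by
  by_contra h'
  push Not at h'
  exact absurd (Submodule.finrank_mono (show W ≤ W' from h')) (by omega)

theorem finrank_span_le (s : Finset V) : finrank F (span F (s : Set V)) ≤ s.card :=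
  finrank_span_finset_le_card s

theorem finrank_one_le (x : V) : finrank F (span F {x}) ≤ 1 := by
  have := finrank_span_le (F := F) {x}
  rwa [Finset.coe_singleton, Finset.card_singleton] at this

theorem finrank_two_le (x y : V) : finrank F (span F {x, y}) ≤ 2 := by
  classical
  have := finrank_span_le (F := F) {x, y}
  rw [Finset.coe_pair] at this
  exact this.trans Finset.card_le_two

theorem finrank_three_le (x y z : V) : finrank F (span F {x, y, z}) ≤ 3 := by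
  classical
  have := finrank_span_le (F := F) {x, y, z}
  rw [Finset.coe_insert, Finset.coe_pair] at this
  exact this.trans Finset.card_le_three

theorem finrank_four_le (x y z w : V) : finrank F (span F {x, y, z, w}) ≤ 4 := by
  classical
  have := finrank_span_le (F := F) {x, y, z, w}
  rw [Finset.coe_insert, Finset.coe_insert, Finset.coe_pair] at this
  exact this.trans Finset.card_le_four

theorem finrank_sup_le (W W' : Submodule F V) :
    finrank F (W ⊔ W' : Submodule F V) ≤ finrank F W + finrank F W' :=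
  Submodule.finrank_add_le_finrank_add_finrank W W'

omit [FiniteDimensional F V] in
theorem mem_sup_one {R : Submodule F V} {x v : V} :
    v ∈ R ⊔ span F {x} ↔ ∃ r ∈ R, ∃ a : F, v = r + a • x := by
  rw [mem_sup]
  constructor
  · rintro ⟨r, hr, y, hy, rfl⟩
    obtain ⟨a, rfl⟩ := mem_span_singleton.1 hy
    exact ⟨r, hr, a, rfl⟩
  · rintro ⟨r, hr, a, rfl⟩
    exact ⟨r, hr, _, mem_span_singleton.2 ⟨a, rfl⟩, rfl⟩

omit [FiniteDimensional F V] in
theorem mem_sup_two {R : Submodule F V} {x y v : V} :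
    v ∈ R ⊔ span F {x, y} ↔ ∃ r ∈ R, ∃ a b : F, v = r + a • x + b • y := by
  rw [mem_sup]
  constructor
  · rintro ⟨r, hr, z, hz, rfl⟩
    obtain ⟨a, b, rfl⟩ := mem_span_pair.1 hz
    exact ⟨r, hr, a, b, (add_assoc _ _ _).symm⟩
  · rintro ⟨r, hr, a, b, rfl⟩
    exact ⟨r, hr, _, mem_span_pair.2 ⟨a, b, rfl⟩, (add_assoc _ _ _).symm⟩

omit [FiniteDimensional F V] in
theorem mem_sup_three {R : Submodule F V} {x y z v : V} :
    v ∈ R ⊔ span F {x, y, z} ↔ ∃ r ∈ R, ∃ a b c : F, v = r + a • x + b • y + c • z := by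
  rw [mem_sup]
  constructor
  · rintro ⟨r, hr, u, hu, rfl⟩
    obtain ⟨a, b, c, rfl⟩ := mem_span_triple.1 hu
    exact ⟨r, hr, a, b, c, by abel⟩
  · rintro ⟨r, hr, a, b, c, rfl⟩
    exact ⟨r, hr, _, mem_span_triple.2 ⟨a, b, c, rfl⟩, by abel⟩

omit [FiniteDimensional F V] in
theorem mem_perp_one {R : Submodule F V} {x a : V} :
    a ∈ P.perp (R ⊔ span F {x}) ↔ a ∈ P.perp R ∧ P.B x a = 0 := by
  rw [P.perp_sup, mem_inf, P.mem_perp_span_singleton]

omit [FiniteDimensional F V] in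
theorem mem_perp_two {R : Submodule F V} {x y a : V} :
    a ∈ P.perp (R ⊔ span F {x, y}) ↔ a ∈ P.perp R ∧ P.B x a = 0 ∧ P.B y a = 0 := by
  rw [P.perp_sup, mem_inf, P.mem_perp_span]; simp

omit [FiniteDimensional F V] in
theorem mem_perp_three {R : Submodule F V} {x y z a : V} :
    a ∈ P.perp (R ⊔ span F {x, y, z}) ↔
      a ∈ P.perp R ∧ P.B x a = 0 ∧ P.B y a = 0 ∧ P.B z a = 0 := by
  rw [P.perp_sup, mem_inf, P.mem_perp_span]; simp

namespace Ctx

variable {C : Ctx P} {Ω : Type*} [MulAction C.K Ω]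

theorem B_R {x r : V} (hx : x ∈ P.perp C.R) (hr : r ∈ C.R) : P.B x r = 0 :=
  P.B_eq_zero_comm.1 (hx r hr)

theorem mem_span_of_el_eq_one {x a : V} {c : F} (hx : C.Pt x) (hx0 : x ≠ 0) (h : C.Val x a c)
    (h1 : C.el x a c = 1) : a ∈ span F {x} := by
  obtain ⟨v, hv⟩ : ∃ v, P.B x v ≠ 0 := by
    by_contra h'
    push Not at h'
    exact hx0 (C.nondeg x h')
  have h2 := el_apply hx h v
  rw [h1, rt_def] at h2
  have h3 : (P.ε * P.B x v) • a = (P.B a v - c * P.B x v) • x := by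
    have h4 : v = v + (P.B a v - c * P.B x v) • x - (P.ε * P.B x v) • a := h2
    linear_combination (norm := module) h4
  exact (smul_mem_iff _ (mul_ne_zero P.ε_ne hv)).1 (mem_span_singleton.2 ⟨_, h3.symm⟩)

theorem eq_zero_of_el_eq_one {x : V} {c : F} (hx : C.Pt x) (hx0 : x ≠ 0) (h : c ∈ P.Λ)
    (h1 : C.el x 0 c = 1) : c = 0 := by
  obtain ⟨v, hv⟩ : ∃ v, P.B x v ≠ 0 := by
    by_contra h'
    push Not at h'
    exact hx0 (C.nondeg x h')
  have h2 := el_apply hx (val_zero_iff.2 h) v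
  rw [h1, rt_def] at h2
  have h4 : v = v + (P.B 0 v - c * P.B x v) • x - (P.ε * P.B x v) • (0 : V) := h2
  simpa [hv, hx0] using h4

variable (C) in
/-- Full type: the whole root group fixes `ω`. -/
def TyF (x : V) (ω : Ω) : Prop := ∀ a c, C.Val x a c → C.el x a c • ω = ω

variable (C) in
/-- Regular type: no nontrivial root element fixes `ω`. -/
def TyT (x : V) (ω : Ω) : Prop := ∀ a c, C.Val x a c → C.el x a c • ω = ω → C.el x a c = 1

variable (C) in
/-- Line type. -/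
def TyL (x : V) (ω : Ω) (w : V) : Prop :=
  P.B x w = 0 ∧ w ∉ C.R ⊔ span F {x} ∧ (∀ a c, C.Val x a c → P.B w a = 0 → C.el x a c • ω = ω) ∧
    ∀ g : C.K, g • ω = ω → g.1 x = x → g.1 w ∈ C.R ⊔ span F {x, w}

theorem TyT.map {x : V} {ω : Ω} (h : C.TyT x ω) (hx : C.Pt x) (g : C.K) :
    C.TyT (g.1 x) (g • ω) := by
  intro a c h1 h2
  have h3 := h1.map g⁻¹
  have h4 := el_conj g⁻¹ (hx.map g) h1
  rw [inv_apply'] at h3 h4
  have h5 := h _ _ h3 (by rw [← h4, inv_inv, mul_smul, mul_smul, h2, inv_smul_smul])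
  rw [← h4, inv_inv, mul_assoc, inv_mul_eq_one] at h5
  exact mul_right_cancel (h5.symm.trans (one_mul g).symm)

theorem TyF.map {x : V} {ω : Ω} (h : C.TyF x ω) (hx : C.Pt x) (g : C.K) :
    C.TyF (g.1 x) (g • ω) := by
  intro a c h1
  have h3 := h1.map g⁻¹
  have h4 := el_conj g⁻¹ (hx.map g) h1
  rw [inv_apply'] at h3 h4
  have h5 := h _ _ h3
  rwa [← h4, inv_inv, mul_smul, mul_smul, inv_smul_eq_iff] at h5

theorem TyT.smul {x : V} {ω : Ω} (h : C.TyT x ω) (hx : C.Pt x) {t : F} (ht : t ≠ 0) :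
    C.TyT (t • x) ω := by
  intro a c h1 h2
  rw [el_smul_left hx (h1.of_smul ht)] at h2 ⊢
  exact h _ _ ((h1.of_smul ht).smul t) h2

theorem TyF.smul {x : V} {ω : Ω} (h : C.TyF x ω) (hx : C.Pt x) {t : F} (ht : t ≠ 0) :
    C.TyF (t • x) ω := by
  intro a c h1
  rw [el_smul_left hx (h1.of_smul ht)]
  exact h _ _ ((h1.of_smul ht).smul t)

theorem TyT.of_map {x : V} {ω : Ω} (hx : C.Pt x) {g : C.K} (hg : g • ω = ω)
    (h : C.TyT (g.1 x) ω) : C.TyT x ω := by
  have := h.map (hx.map g) g⁻¹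
  rwa [inv_apply', inv_smul_eq_iff.2 hg.symm] at this

theorem TyT.of_smul {x : V} {ω : Ω} (hx : C.Pt x) {t : F} (ht : t ≠ 0) (h : C.TyT (t • x) ω) :
    C.TyT x ω := by
  have := h.smul (hx.smul t) (inv_ne_zero ht)
  rwa [smul_smul, inv_mul_cancel₀ ht, one_smul] at this

theorem tyF_zero (ω : Ω) : C.TyF 0 ω := fun a c h => by
  have : C.el 0 a c = 1 := ext' fun v => by
    rw [el_apply ⟨P.sing_zero, zero_mem _⟩ h]; simp [rt_def]
  rw [this, one_smul]

theorem not_tyT {y z : V} {ω : Ω} (hy : C.Pt y) (hy0 : y ≠ 0) (hz : C.Pt z) (hyz : P.B y z = 0)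
    (hzy : z ∉ span F {y}) (h : C.el y z 0 • ω = ω) : ¬ C.TyT z ω := by
  intro hT
  apply hzy
  refine mem_span_of_el_eq_one hy hy0 (val_of_sing hz hyz P.Λ.zero_mem) ?_
  rw [el_swap hy hz hyz] at h ⊢
  exact hT _ _ (val_of_sing (hy.smul _)
    (by rw [P.B_smul_right, P.B_eq_zero_comm.1 hyz, mul_zero]) P.Λ.zero_mem) h

/-- Moving a point to another one with the same product with the centre. -/
theorem exists_el_map {e x y : V} (he : C.Pt e) (hx : C.Pt x) (hy : C.Pt y) (h0 : P.B e x ≠ 0)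
    (h : P.B e y = P.B e x) :
    ∃ t c : F, C.Val e (t • (x - y)) c ∧ (C.el e (t • (x - y)) c).1 x = y := by
  obtain ⟨c, hc, hc'⟩ := opp_data hx.1 hy.1 h0 rfl
  have hv : C.Val e ((P.ε * (P.B e x)⁻¹) • (x - y)) c := ⟨smul_mem _ _ (sub_mem hx.2 hy.2),
    by rw [P.B_smul_right, P.B_sub_right, h, sub_self, mul_zero], hc⟩
  exact ⟨_, c, hv, by rw [el_apply he hv, hc']⟩

theorem TyF.opp {e f y : V} {ω : Ω} (he : C.Pt e) (hf : C.Pt f) (hy : C.Pt y)
    (hF : C.TyF e ω) (hef : P.B e f ≠ 0) (hey : P.B e y ≠ 0) :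
    ∃ (t : F) (g : C.K), t ≠ 0 ∧ g • ω = ω ∧ g.1 (t • f) = y := by
  obtain ⟨t, c, h1, h2⟩ := exists_el_map he (hf.smul (P.B e y / P.B e f)) hy
    (by rw [P.B_smul_right, div_mul_cancel₀ _ hef]; exact hey)
    (by rw [P.B_smul_right, div_mul_cancel₀ _ hef])
  exact ⟨_, _, div_ne_zero hey hef, hF _ _ h1, h2⟩

theorem tyF_of_two {e f : V} {ω : Ω} (he : C.Pt e) (hf : C.Pt f) (hFe : C.TyF e ω)
    (hFf : C.TyF f ω) (hef : P.B e f ≠ 0)
    (hR : ∀ x, C.Pt x → x ≠ 0 → ∃ y, C.Pt y ∧ P.B y x ≠ 0) {x : V} (hx : C.Pt x) :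
    C.TyF x ω := by
  have opp : ∀ e f y : V, C.Pt e → C.Pt f → C.Pt y → C.TyF e ω → C.TyF f ω → P.B e f ≠ 0 →
      P.B e y ≠ 0 → C.TyF y ω := by
    intro e f y he hf hy h1 h2 h3 h4
    obtain ⟨t, g, ht, hg, h5⟩ := h1.opp he hf hy h3 h4
    have := (h2.smul hf ht).map (hf.smul t) g
    rwa [h5, hg] at this
  have hfe : P.B f e ≠ 0 := fun h => hef (P.B_eq_zero_comm.1 h)
  by_cases h1 : P.B e x = 0
  swap
  · exact opp e f x he hf hx hFe hFf hef h1
  by_cases h2 : P.B f x = 0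
  swap
  · exact opp f e x hf he hx hFf hFe hfe h2
  by_cases hx0 : x = 0
  · rw [hx0]; exact tyF_zero ω
  obtain ⟨y, hy, hyx⟩ := hR x hx hx0
  obtain ⟨u, hu, hue, hux⟩ : ∃ u, u ∈ P.perp C.R ∧ P.B u e ≠ 0 ∧ P.B u x ≠ 0 := by
    by_cases h3 : P.B y e = 0
    · exact ⟨y + f, add_mem hy.2 hf.2, by rwa [P.B_add_left, h3, zero_add],
        by rwa [P.B_add_left, h2, add_zero]⟩
    · exact ⟨y, hy.2, h3, hyx⟩
  have hs : C.Pt (u + (-(P.N u / P.B u e)) • e) :=
    ⟨sing_add_smul he.1 hue, add_mem hu (smul_mem _ _ he.2)⟩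
  have h3 : P.B (u + (-(P.N u / P.B u e)) • e) e ≠ 0 := by
    rwa [P.B_add_left, P.B_smul_left, he.self_eq, mul_zero, add_zero]
  have h4 : P.B (u + (-(P.N u / P.B u e)) • e) x ≠ 0 := by
    rwa [P.B_add_left, P.B_smul_left, h1, mul_zero, add_zero]
  exact opp _ e x hs he hx (opp e f _ he hf hs hFe hFf hef fun h => h3 (P.B_eq_zero_comm.1 h))
    hFe h3 h4

/-- A root element of `x` fixing `ω` and a point `y` of line type has a restricted direction. -/
theorem TyL.mem_of_fix {y w x b : V} {c : F} {ω : Ω} (hL : C.TyL y ω w) (hx : C.Pt x)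
    (hxy : P.B x y = 0) (hxw : P.B x w ≠ 0) (hb : C.Val x b c) (hby : P.B b y = 0)
    (h : C.el x b c • ω = ω) : b ∈ C.R ⊔ span F {x, y} := by
  obtain ⟨r, hr, s, t, h1⟩ := mem_sup_two.1 (hL.2.2.2 _ h (el_apply_of_orth hx hb hxy hby))
  rw [el_apply hx hb, rt_def] at h1
  have h2 := congrArg (P.B x) h1
  simp only [map_add, map_sub, map_smul, hx.self_eq, hb.2.1, hxy, B_R hx.2 hr, smul_eq_mul,
    mul_zero, add_zero, sub_zero, zero_add] at h2
  have h3 : t = 1 := by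
    have : (t - 1) * P.B x w = 0 := by linear_combination -h2
    exact sub_eq_zero.1 ((mul_eq_zero.1 this).resolve_right hxw)
  rw [h3] at h1
  refine (smul_mem_iff _ (mul_ne_zero P.ε_ne hxw)).1 (mem_sup_two.2 ⟨-r, neg_mem hr,
    P.B b w - c * P.B x w, -s, ?_⟩)
  linear_combination (norm := module) -h1

theorem TyL.tyT {y w x : V} {ω : Ω} (hL : C.TyL y ω w) (hx : C.Pt x)
    (hxy : P.B x y = 0) (hxw : P.B x w ≠ 0)
    (hG : (C.R = ⊥ ∧ P.Λ ≠ ⊥) ∨ 5 + 2 * finrank F C.R < finrank F V)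
    (ty : C.TyF x ω ∨ C.TyT x ω ∨ ∃ w', C.TyL x ω w') : C.TyT x ω := by
  by_contra hT
  obtain ⟨w', hw'⟩ : ∃ w', ∀ a c, C.Val x a c → P.B w' a = 0 → C.el x a c • ω = ω := by
    rcases ty with h | h | ⟨w', h⟩
    · exact ⟨0, fun a c h1 _ => h a c h1⟩
    · exact absurd h hT
    · exact ⟨w', h.2.2.1⟩
  rcases hG with ⟨hR, hΛ⟩ | hd
  · obtain ⟨⟨c, hc⟩, hc0⟩ := AddSubgroup.ne_bot_iff_exists_ne_zero.1 hΛ
    have hc0' : c ≠ 0 := fun h => hc0 (Subtype.ext h)
    have hv : C.Val x 0 c := val_zero_iff.2 hc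
    obtain ⟨r, hr, s, t, h1⟩ := mem_sup_two.1
      (hL.2.2.2 _ (hw' _ _ hv (by simp)) (el_apply_of_orth hx hv hxy (by simp)))
    rw [hR, mem_bot] at hr
    rw [el_apply hx hv, rt_def, hr] at h1
    have h2 := congrArg (P.B x) h1
    simp only [map_add, map_sub, map_smul, hx.self_eq, hxy, smul_eq_mul, map_zero,
      mul_zero, add_zero, sub_zero, zero_add] at h2
    have h3 : t = 1 := by
      have : (t - 1) * P.B x w = 0 := by linear_combination -h2
      exact sub_eq_zero.1 ((mul_eq_zero.1 this).resolve_right hxw)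
    have h4 : (-(c * P.B x w)) • x = s • y := by
      rw [h3] at h1
      simp only [map_zero, LinearMap.zero_apply, smul_zero] at h1
      linear_combination (norm := module) h1
    have h5 := congrArg (fun v => P.B v w) h4
    simp only [P.B_smul_left, hL.1, mul_zero] at h5
    simp [hc0', hxw] at h5
  · obtain ⟨b, hb, hb'⟩ := exists_mem_notMem (W := P.perp (C.R ⊔ span F {x, y, w'}))
      (W' := C.R ⊔ span F {x, y}) (by
        have h1 := P.finrank_perp C.nondeg (C.R ⊔ span F {x, y, w'})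
        have h2 := finrank_sup_le C.R (span F {x, y, w'})
        have h3 := finrank_sup_le C.R (span F {x, y})
        have h4 := finrank_three_le (F := F) x y w'
        have h5 := finrank_two_le (F := F) x y
        omega)
    obtain ⟨h1, h2, h3, h4⟩ := mem_perp_three.1 hb
    exact hb' (hL.mem_of_fix hx hxy hxw (val_self h1 h2) (P.B_eq_zero_comm.1 h3)
      (hw' _ _ (val_self h1 h2) h4))

theorem geo (ω : Ω)
    (hS : ∀ y, ∃ z, P.Sing z ∧ z ∈ P.perp (C.R ⊔ span F {y}) ∧ z ∉ C.R ⊔ span F {y})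
    (hG : (C.R = ⊥ ∧ P.Λ ≠ ⊥) ∨ 5 + 2 * finrank F C.R < finrank F V)
    (hRan : ∀ x, P.Sing x → x ∈ C.R → x = 0)
    (ty : ∀ x, C.Pt x → x ≠ 0 → C.TyF x ω ∨ C.TyT x ω ∨ ∃ w, C.TyL x ω w)
    (hcorr : ∀ x y y', C.Pt x → x ≠ 0 → C.TyT x ω → C.Pt y → C.Pt y' → P.B x y = 0 →
      P.B x y' = 0 → y ∉ C.R ⊔ span F {x} → y' ∉ C.R ⊔ span F {x} →
      ∃ (g : C.K) (t : F), g • ω = ω ∧ g.1 y = y' + t • x)
    (hnF : ∃ x, C.Pt x ∧ ¬ C.TyF x ω) (hnT : ∃ x, C.Pt x ∧ x ≠ 0 ∧ ¬ C.TyT x ω) :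
    ∃ v, v ∉ C.R ∧ ∀ g : C.K, g • ω = ω → g.1 v ∈ C.R ⊔ span F {v} := by
  have S : ∀ y u, u ∉ C.R ⊔ span F {y} → ∃ x, C.Pt x ∧ P.B y x = 0 ∧ P.B x u ≠ 0 := by
    intro y u hu
    obtain ⟨z, h1, h2, h3⟩ := hS y
    obtain ⟨x, h4, h5, h6⟩ := exists_sing_not_orth C.nondeg h1 h2 h3 hu
    exact ⟨x, ⟨h4, (mem_perp_one.1 h5).1⟩, (mem_perp_one.1 h5).2, h6⟩
  have nsp : ∀ {y z : V}, z ∉ C.R ⊔ span F {y} → z ∉ span F {y} := fun h h' => h (mem_sup_right h')
  by_cases hL : ∀ y w, C.Pt y → y ≠ 0 → ¬ C.TyL y ω w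
  · exfalso
    have hF : ∀ x, C.Pt x → x ≠ 0 → ¬ C.TyT x ω → C.TyF x ω := fun x hx hx0 hT => by
      rcases ty x hx hx0 with h | h | ⟨w, h⟩
      exacts [h, absurd h hT, absurd h (hL x w hx hx0)]
    obtain ⟨y, hy, hy0, hyT⟩ := hnT
    have hyF := hF y hy hy0 hyT
    obtain ⟨z, h1, h2, h3⟩ := hS y
    obtain ⟨z', h4, h5, h6⟩ := S y z h3
    have hz : C.Pt z := ⟨h1, (mem_perp_one.1 h2).1⟩
    have h7 := (mem_perp_one.1 h2).2
    have h8 : z' ∉ span F {y} := fun h => by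
      obtain ⟨t, rfl⟩ := mem_span_singleton.1 h
      exact h6 (by rw [P.B_smul_left, h7, mul_zero])
    obtain ⟨x, hx, hxF⟩ := hnF
    refine hxF (tyF_of_two h4 hz (hF z' h4 (fun h => h8 (h ▸ zero_mem _)) ?_)
      (hF z hz (fun h => h3 (h ▸ zero_mem _)) ?_) h6 (fun x hx hx0 => ?_) hx)
    · exact not_tyT hy hy0 h4 h5 h8 (hyF _ _ (val_of_sing h4 h5 P.Λ.zero_mem))
    · exact not_tyT hy hy0 hz h7 (nsp h3) (hyF _ _ (val_of_sing hz h7 P.Λ.zero_mem))
    · obtain ⟨u, a1, -, a2⟩ := S 0 x (by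
        rw [span_zero_singleton, sup_bot_eq]; exact fun h => hx0 (hRan x hx.1 h))
      exact ⟨u, a1, a2⟩
  push Not at hL
  obtain ⟨y, w, hy, hy0, hL⟩ := hL
  have hyT : ¬ C.TyT y ω := by
    intro hT
    rcases hG with ⟨-, hΛ⟩ | hd
    · obtain ⟨⟨c, hc⟩, hc0⟩ := AddSubgroup.ne_bot_iff_exists_ne_zero.1 hΛ
      have hv : C.Val y 0 c := val_zero_iff.2 hc
      exact hc0 (Subtype.ext (eq_zero_of_el_eq_one hy hy0 hc
        (hT _ _ hv (hL.2.2.1 _ _ hv (by simp)))))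
    · obtain ⟨b, hb, hb'⟩ := exists_mem_notMem (W := P.perp (C.R ⊔ span F {y, w}))
        (W' := span F {y}) (by
          have h1 := P.finrank_perp C.nondeg (C.R ⊔ span F {y, w})
          have h2 := finrank_sup_le C.R (span F {y, w})
          have h4 := finrank_two_le (F := F) y w
          have h5 := finrank_one_le (F := F) y
          omega)
      obtain ⟨h1, h2, h3⟩ := mem_perp_two.1 hb
      exact hb' (mem_span_of_el_eq_one hy hy0 (val_self h1 h2)
        (hT _ _ (val_self h1 h2) (hL.2.2.1 _ _ (val_self h1 h2) h3)))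
  obtain ⟨x, hx, hyx, hxw⟩ := S y w hL.2.1
  have hxy := P.B_eq_zero_comm.1 hyx
  have hx0 : x ≠ 0 := P.ne_zero_of_B_ne hxw
  have hxT := hL.tyT hx hxy hxw hG (ty x hx hx0)
  have hyx' : y ∉ C.R ⊔ span F {x} := by
    rw [mem_sup_one]
    rintro ⟨r, hr, a, h⟩
    have h1 : r = 0 := hRan r (by
      rw [eq_sub_of_add_eq h.symm, sub_eq_add_neg, ← neg_smul]
      exact hy.1.add (hx.1.smul _) (by rw [P.B_smul_right, hyx, mul_zero])) hr
    have h2 := hL.1
    rw [h, h1, zero_add] at h2 hy0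
    rw [P.B_smul_left] at h2
    have h3 : a = 0 := by simpa [hxw] using h2
    exact hy0 (by rw [h3, zero_smul])
  have N1 : ∀ p (α : F), C.Pt p → P.B x p = 0 → P.B y p ≠ 0 → ¬ C.TyT p ω → α ≠ 0 →
      C.TyT (p + α • x) ω := by
    intro p α hp hxp hyp hpT hα
    have hpx := P.B_eq_zero_comm.1 hxp
    have hp0 : p ≠ 0 := by rintro rfl; simp at hyp
    have hxp' : x ∉ span F {p} := fun h => by
      obtain ⟨t, rfl⟩ := mem_span_singleton.1 h
      rw [P.B_smul_right] at hyx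
      have : t = 0 := by simpa [hyp] using hyx
      exact hx0 (by rw [this, zero_smul])
    have hv : C.Val p x 0 := val_of_sing hx hpx P.Λ.zero_mem
    rcases ty p hp hp0 with h | h | ⟨w', h⟩
    · exact absurd hxT (not_tyT hp hp0 hx hpx hxp' (h _ _ hv))
    · exact absurd h hpT
    · have h1 : P.B x w' ≠ 0 := fun h0 =>
        not_tyT hp hp0 hx hpx hxp' (h.2.2.1 _ _ hv (P.B_eq_zero_comm.1 h0)) hxT
      have h2 : C.Pt (p + α • x) := hp.add (hx.smul α) (by rw [P.B_smul_right, hpx, mul_zero])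
      have h3 : P.B (p + α • x) w' ≠ 0 := by
        rw [P.B_add_left, P.B_smul_left, h.1, zero_add]
        exact mul_ne_zero (by simpa using hα) h1
      exact h.tyT h2 (by rw [P.B_add_left, P.B_smul_left, hp.self_eq, hxp]; simp) h3 hG
        (ty _ h2 (P.ne_zero_of_B_ne h3))
  have key : ∀ p (t : F), C.Pt p → ¬ C.TyT p ω → P.B y p ≠ 0 → P.B (w + t • y) p = 0 →
      ∀ z, C.Pt z → z ≠ 0 → P.B (w + t • y) z = 0 → ¬ C.TyT z ω := by
    intro p t hp hpT hyp hvp z hz hz0 hvz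
    by_cases hyz : P.B y z = 0
    · by_cases hzy : z ∈ span F {y}
      · obtain ⟨s, rfl⟩ := mem_span_singleton.1 hzy
        exact fun h => hyT (h.of_smul hy (by rintro rfl; simp at hz0))
      · refine not_tyT hy hy0 hz hyz hzy (hL.2.2.1 _ _ (val_of_sing hz hyz P.Λ.zero_mem) ?_)
        simpa [P.B_add_left, P.B_smul_left, hyz] using hvz
    · obtain ⟨s, c, h1, h2⟩ := exists_el_map hy (hp.smul (P.B y z / P.B y p)) hz
        (by rw [P.B_smul_right, div_mul_cancel₀ _ hyp]; exact hyz)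
        (by rw [P.B_smul_right, div_mul_cancel₀ _ hyp])
      have h3 := hL.2.2.1 _ _ h1 (by
        have h4 := h1.2.1
        rw [P.B_add_left, P.B_smul_left] at hvp hvz
        simp only [P.B_smul_right, P.B_sub_right] at h4 ⊢
        linear_combination s * (P.B y z / P.B y p) * hvp - s * hvz - σ t * h4)
      intro hT
      rw [← h2] at hT
      exact hpT ((hT.of_map (hp.smul _) h3).of_smul hp (div_ne_zero hyz hyp))
  have ext : ∀ p, P.B y p ≠ 0 → ∃ t : F, P.B (w + t • y) p = 0 := fun p hyp =>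
    ⟨σ (-(P.B w p / P.B y p)), by
      rw [P.B_add_left, P.B_smul_left, P.σσ]; field_simp; ring⟩
  obtain ⟨r, hr, hxr, hry⟩ := S x y hyx'
  have hyr : P.B y r ≠ 0 := fun h => hry (P.B_eq_zero_comm.1 h)
  have hwx : P.B w x ≠ 0 := fun h => hxw (P.B_eq_zero_comm.1 h)
  obtain ⟨g₀, t₀, hg₀, hg₀'⟩ := hcorr x y r hx hx0 hxT hy hr hxy hxr hyx' (by
    rw [mem_sup_one]
    rintro ⟨ρ, hρ, a, h⟩
    exact hyr (by rw [h, P.B_add_right, P.B_smul_right, hyx, B_R hy.2 hρ]; simp))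
  have hy2 : P.B y (g₀.1 y) ≠ 0 := by
    rwa [hg₀', P.B_add_right, P.B_smul_right, hyx, mul_zero, add_zero]
  obtain ⟨t, ht⟩ := ext _ hy2
  have hv := key _ t (hy.map g₀) (fun h => hyT (h.of_map hy hg₀)) hy2 ht
  have conv : ∀ z, C.Pt z → z ≠ 0 → ¬ C.TyT z ω → P.B (w + t • y) z = 0 := by
    intro z hz hz0 hzT
    by_contra hne
    by_cases hyz : P.B y z = 0
    · have h1 : P.B z w ≠ 0 := fun h => hne (by
        rw [P.B_add_left, P.B_smul_left, hyz, P.B_eq_zero_comm.1 h]; simp)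
      exact hzT (hL.tyT hz (P.B_eq_zero_comm.1 hyz) h1 hG (ty z hz hz0))
    obtain ⟨t', ht'⟩ := ext z hyz
    have hv' := key z t' hz hzT hyz ht'
    have htt : t ≠ t' := by rintro rfl; exact hne ht'
    have pt : ∀ s : F, C.Pt (r + s • x) := fun s =>
      hr.add (hx.smul s) (by rw [P.B_smul_right, P.B_eq_zero_comm.1 hxr, mul_zero])
    have yr : ∀ s : F, P.B y (r + s • x) ≠ 0 := fun s => by
      rwa [P.B_add_right, P.B_smul_right, hyx, mul_zero, add_zero]
    have nz : ∀ s : F, r + s • x ≠ 0 := fun s h => yr s (by rw [h, map_zero])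
    have orth : ∀ s : F, P.B (w + s • y) (r + (-(P.B (w + s • y) r / P.B w x)) • x) = 0 := by
      intro s
      rw [P.B_add_right, P.B_smul_right, P.B_add_left w _ x, P.B_smul_left, hyx]
      field_simp; ring
    have h1 := hv _ (pt _) (nz _) (orth t)
    have h2 := hv' _ (pt _) (nz _) (orth t')
    refine h2 ?_
    have h3 := N1 _ ((P.B (w + t • y) r - P.B (w + t' • y) r) / P.B w x) (pt _)
      (by rw [P.B_add_right, P.B_smul_right, hxr, hx.self_eq]; simp) (yr _) h1 (by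
        refine div_ne_zero ?_ hwx
        rw [P.B_add_left, P.B_add_left, P.B_smul_left, P.B_smul_left, add_sub_add_left_eq_sub,
          ← sub_mul, ← map_sub]
        exact mul_ne_zero ((map_ne_zero σ).2 (sub_ne_zero.2 htt)) hyr)
    convert h3 using 1
    match_scalars <;> field_simp <;> ring
  refine ⟨w + t • y, fun h => hL.2.1 (mem_sup_one.2 ⟨_, h, -t, by module⟩), fun g hg => ?_⟩
  by_contra hne
  obtain ⟨z, hz, h1, h2⟩ := S _ _ hne
  have hz0 : z ≠ 0 := P.ne_zero_of_B_ne h2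
  have h3 := conv _ (hz.map g⁻¹) (fun h => hz0 ((g⁻¹).1.map_eq_zero_iff.1 h))
    (fun h => hv z hz hz0 h1 (h.of_map hz (inv_smul_eq_iff.2 hg.symm)))
  rw [← B_map g, apply_inv'] at h3
  exact h2 (P.B_eq_zero_comm.1 h3)

end Ctx

end CfsgLib.MinIdx
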