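import Mathlib
import Cfsg.Agent.Lib.MinIdx.Geo
import Cfsg.Agent.Lib.RootMax.NDCases

/-!
Root groups of quadratic spaces acting on a finite set: Eichler elements, counting of orbits and
invariant subgroups.
-/

set_option autoImplicit false
set_option linter.unusedSectionVars false

namespace CfsgLib.MinIdx

open CfsgLib.Forms CfsgLib.RootMax Module Submodule

universe u v

section general

variable {F : Type u} [Field F] {σ : F →+* F} {V : Type v} [AddCommGroup V] [Module F V]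
  [FiniteDimensional F V] {P : PQ σ V}

theorem exists_sub_perp (hP : P.Nondeg) (U : Submodule F V) :
    ∃ Z : Submodule F V, Z ≤ P.perp U ∧ Disjoint Z U ∧
      finrank F V ≤ finrank F Z + 2 * finrank F U := by
  obtain ⟨U', hU'⟩ := U.exists_isCompl
  refine ⟨P.perp U ⊓ U', inf_le_left, hU'.symm.disjoint.mono_left inf_le_right, ?_⟩
  have h1 := Submodule.finrank_sup_add_finrank_inf_eq (P.perp U) U'
  have h2 := Submodule.finrank_add_eq_of_isCompl hU'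
  have h3 := P.finrank_perp hP U
  have h4 := Submodule.finrank_le (P.perp U ⊔ U')
  omega

theorem exists_sing_not_orth' (hP : P.Nondeg) {T : Submodule F V} {z : V} (hz : P.Sing z)
    (hzT : z ∈ P.perp T) (hz' : z ∉ T) {u : V} (hu : u ∉ T) :
    ∃ y, P.Sing y ∧ y ∈ P.perp T ∧ P.B y u ≠ 0 ∧ y ∉ T := by
  obtain ⟨y, h1, h2, h3⟩ := exists_sing_not_orth hP hz hzT hz' hu
  by_cases hy : y ∈ T
  · by_cases h4 : P.B z u = 0
    · exact ⟨y + z, h1.add hz (hzT y hy), add_mem h2 hzT, by rwa [P.B_add_left, h4, add_zero],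
        fun h => hz' (by simpa using T.sub_mem h hy)⟩
    · exact ⟨z, hz, hzT, h4, hz'⟩
  · exact ⟨y, h1, h2, h3, hy⟩

theorem exists_B_ne_of_lt (hP : P.Nondeg) {U : Submodule F V}
    (h : 2 * finrank F U < finrank F V) :
    ∃ a ∈ P.perp U, ∃ a' ∈ P.perp U, P.B a a' ≠ 0 := by
  by_contra h'
  push Not at h'
  have h1 : P.perp U ≤ U := by
    conv_rhs => rw [← P.perp_perp hP U]
    exact fun a ha b hb => h' b hb a ha
  have h2 := Submodule.finrank_mono h1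
  have h3 := P.finrank_perp hP U
  omega

theorem finrank_inf_perp_lt {S : Submodule F V} {y u : V} (hu : u ∈ S) (h : P.B y u ≠ 0) :
    finrank F (S ⊓ P.perp (span F {y}) : Submodule F V) < finrank F S :=
  Submodule.finrank_lt_finrank_of_lt (lt_of_le_of_ne inf_le_left fun h1 =>
    h ((P.mem_perp_span_singleton).1 (h1.ge hu).2))

theorem finrank_inf_perp_sup_le {S : Submodule F V} {y u : V} (hu : u ∈ S) (h : P.B y u ≠ 0) :
    finrank F (S ⊓ P.perp (span F {y}) ⊔ span F {y} : Submodule F V) ≤ finrank F S := by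
  have h1 := finrank_inf_perp_lt hu h
  have h2 := finrank_sup_le (S ⊓ P.perp (span F {y})) (span F {y})
  have h3 := finrank_one_le (F := F) y
  omega

omit [FiniteDimensional F V] in
theorem card_le_of_le [Finite V] {A : AddSubgroup V} {S : Submodule F V} (h : ∀ v ∈ A, v ∈ S) :
    Nat.card A ≤ Nat.card S :=
  Nat.card_le_card_of_injective (fun a => (⟨a.1, h _ a.2⟩ : S)) fun _ _ h =>
    Subtype.ext (congrArg Subtype.val h :)

theorem card_le_pow [Finite F] {A : AddSubgroup V} {S : Submodule F V} (h : ∀ v ∈ A, v ∈ S) :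
    Nat.card A ≤ Nat.card F ^ finrank F S := by
  have : Finite V := Module.finite_of_finite F
  rw [← Module.natCard_eq_pow_finrank]
  exact card_le_of_le h

theorem pow_le_card [Finite F] {A : AddSubgroup V} {S : Submodule F V} (h : ∀ v ∈ S, v ∈ A) :
    Nat.card F ^ finrank F S ≤ Nat.card A := by
  have : Finite V := Module.finite_of_finite F
  rw [← Module.natCard_eq_pow_finrank]
  exact Nat.card_le_card_of_injective (fun a => (⟨a.1, h _ a.2⟩ : A)) fun _ _ h =>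
    Subtype.ext (congrArg Subtype.val h :)

theorem ncard_submodule [Finite F] (S : Submodule F V) :
    (S : Set V).ncard = Nat.card F ^ finrank F S := by
  rw [← Nat.card_coe_set_eq, SetLike.coe_sort_coe, Module.natCard_eq_pow_finrank (K := F)]

theorem one_lt_q (F : Type u) [Field F] [Finite F] : 1 < Nat.card F := Finite.one_lt_card

namespace Ctx

variable {C : Ctx P} {Ω : Type*} [MulAction C.K Ω] [Finite F]

theorem card_D_twist {g : C.K} {x : V} (ω : Ω) (hx : C.Pt x) {t : F} (ht : t ≠ 0)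
    (hg : g.1 x = t⁻¹ • x) : Nat.card (C.D x (g • ω)) = Nat.card (C.D x ω) := by
  have := C.finite_V
  have key : ∀ (g : C.K) (t : F) (ω : Ω), t ≠ 0 → g.1 x = t⁻¹ • x →
      Nat.card (C.D x ω) ≤ Nat.card (C.D x (g • ω)) := fun g t ω ht hg =>
    Nat.card_le_card_of_injective (fun v => ⟨t • g.1 v.1, D_twist hx ht hg v.2⟩) fun v w h =>
      Subtype.ext (g.1.injective (smul_right_injective V ht (congrArg Subtype.val h)))
  refine le_antisymm ?_ (key g t ω ht hg)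
  have := key g⁻¹ t⁻¹ (g • ω) (inv_ne_zero ht) (inv_apply_eq' (by
    rw [inv_inv, map_smul, hg, smul_smul, mul_inv_cancel₀ ht, one_smul]))
  rwa [inv_smul_smul] at this

theorem card_D_fix {g : C.K} {x : V} (ω : Ω) (hx : C.Pt x) (hg : g.1 x = x) :
    Nat.card (C.D x (g • ω)) = Nat.card (C.D x ω) :=
  card_D_twist ω hx one_ne_zero (by rw [hg, inv_one, one_smul])

variable (C Ω) in
/-- The root group orbits whose annihilator contains `v` and has size satisfying `φ`. -/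
def ob (x : V) (φ : ℕ → Prop) (v : V) : Set (Quotient (C.rel Ω x)) :=
  objs (C.rel Ω x) (fun ω => (C.D x ω : Set V)) (fun ω => φ (Nat.card (C.D x ω))) v

theorem mk_mem_ob {x v : V} {φ : ℕ → Prop} {ω : Ω} (h1 : φ (Nat.card (C.D x ω)))
    (h2 : v ∈ C.D x ω) : Quotient.mk _ ω ∈ C.ob Ω x φ v := mk_mem_objs h1 h2

theorem mk_smul_mem_ob {x v : V} (hx : C.Pt x) {φ : ℕ → Prop} {ω : Ω}
    (h1 : φ (Nat.card (C.D x ω))) (h2 : v ∈ C.D x ω) {g : C.K} (hg : g.1 x = x)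
    (hv : g.1 v = v) : Quotient.mk _ (g • ω) ∈ C.ob Ω x φ v :=
  mk_mem_ob (by rwa [card_D_fix ω hx hg]) (hv ▸ D_fix hx hg h2)

variable [Finite Ω]

theorem ob_le {g : C.K} {x : V} (hx : C.Pt x) {t : F} (ht : t ≠ 0) (hg : g.1 x = t⁻¹ • x)
    (φ : ℕ → Prop) (v : V) : (C.ob Ω x φ v).ncard ≤ (C.ob Ω x φ (t • g.1 v)).ncard :=
  ncard_objs_le g (rel_smul_iff hx (inv_ne_zero ht) hg) fun ω h1 h2 =>
    ⟨by rwa [card_D_twist ω hx ht hg], D_twist hx ht hg h2⟩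

theorem ob_le_fix {g : C.K} {x : V} (hx : C.Pt x) (hg : g.1 x = x)
    (φ : ℕ → Prop) (v : V) : (C.ob Ω x φ v).ncard ≤ (C.ob Ω x φ (g.1 v)).ncard := by
  simpa using ob_le (Ω := Ω) hx one_ne_zero (by rw [hg, inv_one, one_smul]) φ v

theorem D_of_rel {g : C.K} {x u : V} {ω : Ω} (hx : C.Pt x) (hg : g.1 x = x)
    (h : C.rel Ω x (g • ω) ω) (hu : u ∈ C.D x ω) : g.1 u ∈ C.D x ω :=
  D_congr hx h ▸ D_fix hx hg hu

end Ctx

end general

variable {F : Type u} [Field F] {V : Type v} [AddCommGroup V] [Module F V]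
  {Q : QuadraticForm F V}

local notation "𝔅" => PQ.B (ofQuad Q)

theorem qB_comm (x y : V) : 𝔅 x y = 𝔅 y x := QuadraticMap.polar_comm _ _ _

theorem qz {x y : V} (h : 𝔅 x y = 0) : 𝔅 y x = 0 := (qB_comm y x).trans h

theorem qnz {x y : V} (h : 𝔅 x y ≠ 0) : 𝔅 y x ≠ 0 := fun h' => h (qz h')

theorem qB_smul_left (t : F) (x y : V) : 𝔅 (t • x) y = t * 𝔅 x y := (ofQuad Q).B_smul_left t x y

theorem qB_self (x : V) : 𝔅 x x = 2 * Q x := OrthE.polar_self' Q x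

theorem q_add (x y : V) : Q (x + y) = Q x + Q y + 𝔅 x y := OrthE.Q_add Q x y

theorem q_sub (x y : V) : Q (x - y) = Q x + Q y - 𝔅 x y := OrthE.Q_sub Q x y

theorem q_smul (t : F) (x : V) : Q (t • x) = t * t * Q x := OrthE.Q_smul Q t x

theorem q_sing {x : V} : (ofQuad Q).Sing x ↔ Q x = 0 := ofQuad_sing Q x

theorem q_exists_sing [Finite F] [FiniteDimensional F V] (hQ : (ofQuad Q).Nondeg)
    {U : Submodule F V} (h : 2 * finrank F U + 3 ≤ finrank F V) :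
    ∃ z, (ofQuad Q).Sing z ∧ z ∈ (ofQuad Q).perp U ∧ z ∉ U := by
  obtain ⟨Z, h1, h2, h3⟩ := exists_sub_perp hQ U
  obtain ⟨z, hz, hz0, hz'⟩ := quad_exists_sing Q (Z := Z) (by omega)
  exact ⟨z, q_sing.2 hz', h1 hz, fun h => hz0 (Submodule.disjoint_def.1 h2 z hz h)⟩

theorem q_exists_hyp [Finite F] [FiniteDimensional F V] (hQ : (ofQuad Q).Nondeg)
    {U : Submodule F V} (h : 2 * finrank F U + 3 ≤ finrank F V) :
    ∃ z z', Q z = 0 ∧ Q z' = 0 ∧ 𝔅 z' z = 1 ∧ z ∈ (ofQuad Q).perp U ∧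
      z' ∈ (ofQuad Q).perp U := by
  obtain ⟨z, h1, h2, h3⟩ := q_exists_sing hQ h
  obtain ⟨z', h4, h5, h6⟩ := (ofQuad Q).exists_partner hQ U h1 h3 ((ofQuad Q).mem_perp'.1 h2)
  exact ⟨z, z', q_sing.1 h1, q_sing.1 h4, h5, h2, (ofQuad Q).mem_perp'.2 h6⟩

namespace Ctx

variable {C : Ctx (ofQuad Q)}

theorem pt_iff {x : V} : C.Pt x ↔ Q x = 0 ∧ x ∈ (ofQuad Q).perp C.R := and_congr_left' q_sing

theorem Pt.q_eq {x : V} (h : C.Pt x) : Q x = 0 := q_sing.1 h.1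

theorem q_map (g : C.K) (u : V) : Q (g.1 u) = Q u :=
  sub_eq_zero.1 ((ofQuad_mem Q _).1 (N_map g u))

variable (C) in
/-- Valid directions for Eichler maps. -/
def Dir (x a : V) : Prop := a ∈ (ofQuad Q).perp C.R ∧ 𝔅 x a = 0

theorem Dir.val {x a : V} (h : C.Dir x a) : C.Val x a (Q a) := val_self h.1 h.2

theorem Val.dir {x a : V} {c : F} (h : C.Val x a c) : C.Dir x a := ⟨h.1, h.2.1⟩

theorem Val.q_eq {x a : V} {c : F} (h : C.Val x a c) : c = Q a :=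
  sub_eq_zero.1 ((ofQuad_mem Q _).1 h.2.2)

theorem Dir.add {x a b : V} (h : C.Dir x a) (h' : C.Dir x b) : C.Dir x (a + b) :=
  (h.val.add h'.val).dir

theorem Dir.neg {x a : V} (h : C.Dir x a) : C.Dir x (-a) := h.val.neg.dir

theorem Dir.sub {x a b : V} (h : C.Dir x a) (h' : C.Dir x b) : C.Dir x (a - b) := by
  rw [sub_eq_add_neg]; exact h.add h'.neg

theorem Dir.smul {x a : V} (h : C.Dir x a) (t : F) : C.Dir x (t • a) :=
  ⟨smul_mem _ _ h.1, by rw [map_smul, h.2, smul_zero]⟩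

theorem Dir.map {x a : V} (h : C.Dir x a) (g : C.K) : C.Dir (g.1 x) (g.1 a) := (h.val.map g).dir

theorem dir_zero (x : V) : C.Dir x 0 := ⟨zero_mem _, map_zero _⟩

theorem Pt.dir_self {x : V} (h : C.Pt x) : C.Dir x x := ⟨h.2, h.self_eq⟩

variable (C) in
/-- The Eichler element. -/
noncomputable def ρ (x a : V) : C.K := C.el x a (Q a)

theorem ρ_apply {x a : V} (hx : C.Pt x) (h : C.Dir x a) (v : V) :
    (C.ρ x a).1 v = v + (𝔅 a v - Q a * 𝔅 x v) • x - 𝔅 x v • a := by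
  rw [ρ, el_apply hx h.val, rt_def, ofQuad_ε, one_mul]

theorem ρ_apply_left {x a v : V} (hx : C.Pt x) (h : C.Dir x a) (hv : 𝔅 x v = 0) :
    (C.ρ x a).1 v = v + 𝔅 a v • x := by
  rw [ρ_apply hx h, hv]; simp

theorem ρ_fix {x a v : V} (hx : C.Pt x) (h : C.Dir x a) (hv : 𝔅 x v = 0) (hv' : 𝔅 a v = 0) :
    (C.ρ x a).1 v = v := el_apply_of_orth hx h.val hv hv'

theorem ρ_self {x a : V} (hx : C.Pt x) (h : C.Dir x a) : (C.ρ x a).1 x = x :=
  el_apply_self hx h.val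

theorem ρ_mul {x a b : V} (h : C.Dir x a) (h' : C.Dir x b) :
    C.ρ x a * C.ρ x b = C.ρ x (a + b) := by
  rw [ρ, ρ, el_mul h.val h'.val, ρ, q_add, ofQuad_ε, one_mul]

theorem ρ_zero (x : V) : C.ρ x 0 = 1 := by rw [ρ, map_zero, el_zero]

theorem ρ_neg {x a : V} (h : C.Dir x a) : C.ρ x (-a) = (C.ρ x a)⁻¹ := by
  rw [eq_inv_iff_mul_eq_one, ρ_mul h.neg h, neg_add_cancel, ρ_zero]

theorem ρ_conj (g : C.K) {x a : V} (hx : C.Pt x) (h : C.Dir x a) :
    g * C.ρ x a * g⁻¹ = C.ρ (g.1 x) (g.1 a) := by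
  rw [ρ, el_conj g hx h.val, ρ, q_map]

theorem mul_ρ (g : C.K) {x a : V} (hx : C.Pt x) (h : C.Dir x a) :
    g * C.ρ x a = C.ρ (g.1 x) (g.1 a) * g := by
  rw [← ρ_conj g hx h, inv_mul_cancel_right]

theorem ρ_smul_left {x a : V} (hx : C.Pt x) (h : C.Dir x a) (t : F) :
    C.ρ (t • x) a = C.ρ x (t • a) := by
  rw [ρ, el_smul_left hx h.val, ρ, q_smul]; rfl

theorem ρ_pow {x a : V} (h : C.Dir x a) (k : ℕ) : C.ρ x a ^ k = C.ρ x (k • a) := by
  induction k with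
  | zero => rw [pow_zero, zero_smul, ρ_zero]
  | succ k ih =>
    rw [pow_succ, ih, ρ_mul (by rw [← Nat.cast_smul_eq_nsmul F]; exact h.smul _) h, succ_nsmul]

theorem ρ_swap {x y : V} (hx : C.Pt x) (hy : C.Pt y) (h : 𝔅 x y = 0) :
    C.ρ x y = C.ρ y (-x) := by
  rw [ρ, ρ, hy.q_eq, QuadraticMap.map_neg, hx.q_eq, el_swap hx hy h, ofQuad_ε, neg_smul, one_smul]

variable {Ω : Type*} [MulAction C.K Ω]

theorem qmem_A {x a : V} {ω : Ω} : a ∈ C.A x ω ↔ C.Dir x a ∧ C.ρ x a • ω = ω :=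
  ⟨fun ⟨_, h1, h2⟩ => ⟨h1.dir, by rwa [h1.q_eq] at h2⟩, fun h => ⟨_, h.1.val, h.2⟩⟩

theorem qrel_iff {x : V} {a b : Ω} : C.rel Ω x a b ↔ ∃ u, C.Dir x u ∧ C.ρ x u • b = a :=
  rel_iff.trans ⟨fun ⟨u, _, h1, h2⟩ => ⟨u, h1.dir, by rwa [h1.q_eq] at h2⟩,
    fun ⟨u, h1, h2⟩ => ⟨u, _, h1.val, h2⟩⟩

theorem qtyF {x : V} {ω : Ω} : C.TyF x ω ↔ ∀ a, C.Dir x a → C.ρ x a • ω = ω :=
  ⟨fun h a ha => h a _ ha.val, fun h a _ ha => by rw [ha.q_eq]; exact h a ha.dir⟩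

variable (C) in
/-- The Eichler elements with centre `y` and direction in `U`. -/
noncomputable def ρfam (y : V) (U : Submodule F V) (hU : ∀ a ∈ U, C.Dir y a) : Fam V C.K where
  X := U.toAddSubgroup
  t := C.ρ y
  add a ha b hb := (ρ_mul (hU a ha) (hU b hb)).symm

variable [Finite F] [FiniteDimensional F V]

theorem qcard_D (x : V) (ω : Ω) :
    Nat.card (C.D x ω) = Nat.card F ^ finrank F (C.R ⊔ span F {x} : Submodule F V) *
      {ω' | C.rel Ω x ω' ω}.ncard := by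
  have h1 := card_D_mul_E (C := C) x ω
  have h2 := card_Z_mul_E (C := C) x ω
  have h3 : C.Z x ω = ⊥ := by
    rw [eq_bot_iff]
    exact fun c hc => (mem_Z.1 hc).1
  have h4 : (ofQuad Q).Λ = ⊥ := rfl
  rw [h3, AddSubgroup.card_bot, one_mul] at h2
  rw [h2, h4, AddSubgroup.card_bot, mul_one, pow_succ, mul_right_comm] at h1
  exact Nat.eq_of_mul_eq_mul_right Nat.card_pos h1

variable [Finite Ω]

theorem qsum_ob [Fintype V] {x : V} (hx : C.Pt x) (φ : ℕ → Prop) :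
    ∑ v, (C.ob Ω x φ v).ncard = Nat.card F ^ finrank F (C.R ⊔ span F {x} : Submodule F V) *
      {ω : Ω | φ (Nat.card (C.D x ω))}.ncard :=
  sum_objs (fun a b h => by rw [D_congr hx h]) (fun a b h h' => by rwa [← D_congr hx h])
    fun ω _ => by rw [← qcard_D, ← Nat.card_coe_set_eq]; rfl

theorem qcount_two {x : V} (hx : C.Pt x) (φ : ℕ → Prop) {T₁ T₂ : Set V} {μ₁ μ₂ : ℕ}
    (h12 : Disjoint T₁ T₂) (h1 : ∀ v ∈ T₁, μ₁ ≤ (C.ob Ω x φ v).ncard)
    (h2 : ∀ v ∈ T₂, μ₂ ≤ (C.ob Ω x φ v).ncard) :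
    μ₁ * T₁.ncard + μ₂ * T₂.ncard ≤ Nat.card F ^ finrank F (C.R ⊔ span F {x} : Submodule F V) *
      {ω : Ω | φ (Nat.card (C.D x ω))}.ncard := by
  have := C.finite_V
  have := Fintype.ofFinite V
  rw [← qsum_ob hx]
  exact two_le_sum _ h12 h1 h2

theorem qcount {x : V} (hx : C.Pt x) (φ : ℕ → Prop) {T : Set V} {μ : ℕ}
    (h1 : ∀ v ∈ T, μ ≤ (C.ob Ω x φ v).ncard) :
    μ * T.ncard ≤ Nat.card F ^ finrank F (C.R ⊔ span F {x} : Submodule F V) *
      {ω : Ω | φ (Nat.card (C.D x ω))}.ncard := by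
  simpa using qcount_two hx φ (T₂ := ∅) (μ₂ := 0) (by simp) h1 (by simp)

/-- The refined count, for orbits of size at most `δ`. -/
theorem qcount_ref {x : V} (hx : C.Pt x) (φ : ℕ → Prop) {T : Set V} {μ δ : ℕ}
    (hφ : ∀ k, φ k → k ≤ Nat.card F ^ finrank F (C.R ⊔ span F {x} : Submodule F V) * δ)
    (hT : ∀ v ∈ T, v ∉ C.R ⊔ span F {x}) (h1 : ∀ v ∈ T, μ ≤ (C.ob Ω x φ v).ncard) :
    δ * (μ * T.ncard) + Nat.card F ^ finrank F (C.R ⊔ span F {x} : Submodule F V) *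
      {ω : Ω | φ (Nat.card (C.D x ω))}.ncard ≤
      δ * (Nat.card F ^ finrank F (C.R ⊔ span F {x} : Submodule F V) *
        {ω : Ω | φ (Nat.card (C.D x ω))}.ncard) := by
  have h2 := qcount_two hx φ (T₂ := (C.R ⊔ span F {x} : Submodule F V))
    (μ₂ := (C.ob Ω x φ 0).ncard) (Set.disjoint_left.2 hT) h1 fun v hv =>
      Set.ncard_le_ncard (by
        rintro _ ⟨ω, rfl, h3, -⟩
        exact mk_mem_ob h3 (mem_D_of_mem ω hv))
  have h3 : Nat.card {ω : Ω | φ (Nat.card (C.D x ω))} ≤ δ * (C.ob Ω x φ 0).ncard := by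
    refine card_le_mul_of_fiber (fun ω => Quotient.mk (C.rel Ω x) ω.1) _ (Set.toFinite _)
      (fun ω => mk_mem_ob ω.2 (zero_mem _)) δ fun ω => ?_
    have h4 := hφ _ ω.2
    rw [qcard_D] at h4
    refine le_trans ?_ (Nat.le_of_mul_le_mul_left h4 (pow_pos Nat.card_pos _))
    exact Set.ncard_le_ncard_of_injOn Subtype.val (fun a ha => Quotient.exact ha)
      Subtype.val_injective.injOn
  rw [Nat.card_coe_set_eq] at h3
  rw [ncard_submodule] at h2
  calc _ ≤ δ * (μ * T.ncard) + Nat.card F ^ finrank F (C.R ⊔ span F {x} : Submodule F V) *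
        (δ * (C.ob Ω x φ 0).ncard) := by gcongr
    _ = δ * (μ * T.ncard + (C.ob Ω x φ 0).ncard *
        Nat.card F ^ finrank F (C.R ⊔ span F {x} : Submodule F V)) := by ring
    _ ≤ _ := by gcongr

/-- Few orbits through `v`: the Eichler elements fixing `x` and `v` fix them. -/
theorem qgood {p : ℕ} [Fact p.Prime] [CharP F p] {x v y a : V} (hx : C.Pt x) {φ : ℕ → Prop}
    {ω : Ω} (h1 : φ (Nat.card (C.D x ω))) (h2 : v ∈ C.D x ω) (hp : (C.ob Ω x φ v).ncard < p)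
    (hy : C.Pt y) (ha : C.Dir y a) (hyx : 𝔅 y x = 0) (hyv : 𝔅 y v = 0) (hax : 𝔅 a x = 0)
    (hav : 𝔅 a v = 0) : C.rel Ω x (C.ρ y a • ω) ω := by
  have hk : ∀ k : ℕ, C.Dir y (k • a) := fun k => by
    rw [← Nat.cast_smul_eq_nsmul F]; exact ha.smul _
  refine rel_of_ncard_lt_of_pow (p := p) _ ?_ (fun a b h => (rel_fix hx (ρ_fix hy ha hyx hax) a b).1 h)
    ω (fun k => ?_) hp
  · rw [ρ_pow ha, ← Nat.cast_smul_eq_nsmul F, CharP.cast_eq_zero, zero_smul, ρ_zero]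
  · rw [ρ_pow ha]
    exact mk_smul_mem_ob hx h1 h2 (ρ_fix hy (hk k) hyx (by simp [hax]))
      (ρ_fix hy (hk k) hyv (by simp [hav]))

/-- Many images of an orbit with a small annihilator. -/
theorem qimages {x v u y : V} (hx : C.Pt x) {φ : ℕ → Prop} {ω : Ω}
    (h1 : φ (Nat.card (C.D x ω))) (hv : v ∈ C.D x ω) (hu : u ∈ C.D x ω) {S : Submodule F V}
    (hS : ∀ w ∈ C.D x ω, w ∈ S) (hy : C.Pt y) (hyx : 𝔅 x y = 0) (hyv : 𝔅 v y = 0)
    (hyu : 𝔅 y u ≠ 0) :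
    Nat.card F ^ finrank F V ≤ (C.ob Ω x φ v).ncard *
      Nat.card F ^ (finrank F S + finrank F C.R + 3) := by
  have := C.finite_V
  set U : Submodule F V := (ofQuad Q).perp (C.R ⊔ span F {x, v, y}) with hU
  have hd : ∀ a ∈ U, C.Dir y a := fun a ha =>
    ⟨(mem_perp_three.1 ha).1, (mem_perp_three.1 ha).2.2.2⟩
  have fx : ∀ a ∈ U, (C.ρ y a).1 x = x := fun a ha => ρ_fix hy (hd a ha) (qz hyx)
    (qz (mem_perp_three.1 ha).2.1)
  have fv : ∀ a ∈ U, (C.ρ y a).1 v = v := fun a ha => ρ_fix hy (hd a ha) (qz hyv)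
    (qz (mem_perp_three.1 ha).2.2.1)
  have h2 := (C.ρfam y U hd).card_le_cls (s := C.rel Ω x)
    (fun a ha b c h => (rel_fix hx (fx a ha) b c).1 h) ω (S := C.ob Ω x φ v)
    fun a ha => mk_smul_mem_ob hx h1 hv (fx a ha) (fv a ha)
  have h3 := card_le_pow (A := (C.ρfam y U hd).cls (C.rel Ω x)
    (fun a ha b c h => (rel_fix hx (fx a ha) b c).1 h) ω)
    (S := S ⊓ (ofQuad Q).perp (span F {y}) ⊔ span F {y}) (by
      rintro a ⟨ha, ha'⟩
      have h4 := hS _ ((C.D x ω).sub_mem hu (D_of_rel hx (fx a ha) ha' hu))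
      rw [ρ_apply hy (hd a ha)] at h4
      refine (smul_mem_iff _ hyu).1 (mem_sup_one.2 ⟨_, ⟨h4, ?_⟩, 𝔅 a u - Q a * 𝔅 y u, by module⟩)
      rw [SetLike.mem_coe, PQ.mem_perp_span_singleton]
      simp [hy.self_eq, (hd a ha).2])
  have h4 := finrank_inf_perp_sup_le (hS u hu) hyu
  have h5 := (ofQuad Q).finrank_perp C.nondeg (C.R ⊔ span F {x, v, y})
  have h6 := finrank_sup_le C.R (span F {x, v, y})
  have h7 := finrank_three_le (F := F) x v y
  have h8 : Nat.card (C.ρfam y U hd).X = Nat.card F ^ finrank F U :=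
    Module.natCard_eq_pow_finrank (K := F) (V := U)
  have hq := (one_lt_q F).le
  rw [h8] at h2
  calc _ ≤ Nat.card F ^ (finrank F U + (finrank F C.R + 3)) :=
        Nat.pow_le_pow_right hq (by rw [hU]; omega)
    _ = Nat.card F ^ finrank F U * Nat.card F ^ (finrank F C.R + 3) := pow_add _ _ _
    _ ≤ (C.ob Ω x φ v).ncard * Nat.card F ^ finrank F S * Nat.card F ^ (finrank F C.R + 3) := by
        gcongr
        exact h2.trans (Nat.mul_le_mul_left _ (h3.trans (Nat.pow_le_pow_right hq h4)))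
    _ = _ := by ring

omit [Finite Ω] in
/-- An additive subgroup invariant under the Eichler elements fixing `T` pointwise. -/
theorem perp_le_of_inv {T : Submodule F V} (hRT : C.R ≤ T) {D : AddSubgroup V}
    (hS : ∃ z, (ofQuad Q).Sing z ∧ z ∈ (ofQuad Q).perp T ∧ z ∉ T)
    (hinv : ∀ y a, Q y = 0 → y ∈ (ofQuad Q).perp T → a ∈ (ofQuad Q).perp T → 𝔅 y a = 0 →
      ∀ u ∈ D, (C.ρ y a).1 u ∈ D)
    (hline : ∀ y, Q y = 0 → y ∈ (ofQuad Q).perp T → ∀ u ∈ D, 𝔅 y u ≠ 0 → ∀ t : F, t • y ∈ D)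
    {u : V} (hu : u ∈ D) (huT : u ∉ T) : ∀ a ∈ (ofQuad Q).perp T, a ∈ D := by
  have key : ∀ y, Q y = 0 → y ∈ (ofQuad Q).perp T → ∀ u ∈ D, 𝔅 y u ≠ 0 →
      ∀ a ∈ (ofQuad Q).perp T, 𝔅 y a = 0 → a ∈ D := by
    intro y hy hyT u hu hyu a ha hya
    have hpt : C.Pt y := pt_iff.2 ⟨hy, (ofQuad Q).perp_anti hRT hyT⟩
    have hd : C.Dir y ((𝔅 y u)⁻¹ • a) := Dir.smul ⟨(ofQuad Q).perp_anti hRT ha, hya⟩ _
    have h1 := hinv y _ hy hyT (smul_mem _ _ ha) hd.2 u hu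
    rw [ρ_apply hpt hd, smul_smul, mul_inv_cancel₀ hyu, one_smul] at h1
    exact (sub_sub_cancel _ a) ▸ D.sub_mem (D.add_mem hu (hline y hy hyT u hu hyu _)) h1
  obtain ⟨z, h1, h2, h3⟩ := hS
  obtain ⟨y, hy, hyT, hyu, hy'⟩ := exists_sing_not_orth' C.nondeg h1 h2 h3 huT
  obtain ⟨y', h4, h5, h6⟩ := (ofQuad Q).exists_partner C.nondeg T hy hy'
    ((ofQuad Q).mem_perp'.1 hyT)
  have h7 : y' ∈ (ofQuad Q).perp T := (ofQuad Q).mem_perp'.2 h6
  have h8 := hline y' (q_sing.1 h4) h7 y (by simpa using hline y (q_sing.1 hy) hyT u hu hyu 1)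
    (by rw [h5]; exact one_ne_zero)
  intro a ha
  have h9 := key y (q_sing.1 hy) hyT u hu hyu (a - 𝔅 y a • y') (sub_mem ha (smul_mem _ _ h7))
    (by rw [map_sub, map_smul, qB_comm y y', h5]; simp)
  simpa using D.add_mem h9 (h8 (𝔅 y a))

omit [Finite Ω] in
theorem line_of_inv {T : Submodule F V} (hRT : C.R ≤ T) {D : AddSubgroup V}
    (hT : 2 * finrank F T + 2 < finrank F V)
    (hinv : ∀ y a, Q y = 0 → y ∈ (ofQuad Q).perp T → a ∈ (ofQuad Q).perp T → 𝔅 y a = 0 →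
      ∀ u ∈ D, (C.ρ y a).1 u ∈ D) (y : V) (hy : Q y = 0) (hyT : y ∈ (ofQuad Q).perp T)
    (u : V) (hu : u ∈ D) (hyu : 𝔅 y u ≠ 0) (t : F) : t • y ∈ D := by
  have hpt : C.Pt y := pt_iff.2 ⟨hy, (ofQuad Q).perp_anti hRT hyT⟩
  obtain ⟨a, ha, b, hb, hab⟩ := exists_B_ne_of_lt C.nondeg (U := T ⊔ span F {y}) (by
    have := finrank_sup_le T (span F {y})
    have := finrank_one_le (F := F) y
    omega)
  have key : ∀ a ∈ (ofQuad Q).perp (T ⊔ span F {y}),
      (𝔅 a u - Q a * 𝔅 y u) • y - 𝔅 y u • a ∈ D := fun a ha => by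
    obtain ⟨h1, h2⟩ := mem_perp_one.1 ha
    have h3 := D.sub_mem (hinv y a hy hyT h1 h2 u hu) hu
    rw [ρ_apply hpt ⟨(ofQuad Q).perp_anti hRT h1, h2⟩] at h3
    convert h3 using 1
    abel
  set b' := (t / (𝔅 y u * 𝔅 a b)) • b with hb'
  have h1 : b' ∈ (ofQuad Q).perp (T ⊔ span F {y}) := smul_mem _ _ hb
  have h2 := D.sub_mem (D.add_mem (key a ha) (key b' h1)) (key _ (add_mem ha h1))
  have h3 : 𝔅 y u * 𝔅 a b' = t := by rw [hb', map_smul, smul_eq_mul]; field_simp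
  convert h2 using 1
  rw [q_add, (ofQuad Q).B_add_left, ← h3]
  module

end Ctx

end CfsgLib.MinIdx
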