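import Mathlib
import Cfsg.Agent.Lib.MinIdx.OBase
import Cfsg.Agent.Lib.OrthE.Normal

/-!
Counting vectors of given norm in finite quadratic spaces.
-/

set_option autoImplicit false
set_option linter.unusedSectionVars false

namespace CfsgLib.MinIdx

open CfsgLib.Forms CfsgLib.OrthE Module Submodule

universe u v

theorem mul_ncard_le_of_fiber {α β : Type*} [Finite α] [Finite β] (f : α → β) (T : Set α)
    (S : Set β) {k : ℕ} (h : ∀ s ∈ S, k ≤ {v | v ∈ T ∧ f v = s}.ncard) :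
    k * S.ncard ≤ {v | v ∈ T ∧ f v ∈ S}.ncard := by
  classical
  have := Fintype.ofFinite α
  have := Fintype.ofFinite β
  rw [Set.ncard_eq_toFinset_card', Set.ncard_eq_toFinset_card',
    Finset.card_eq_sum_card_fiberwise (f := f) (t := S.toFinset) (fun v hv => by
      simpa using (Set.mem_toFinset.1 (Finset.mem_coe.1 hv)).2), mul_comm]
  refine (Finset.card_nsmul_le_sum _ _ _ fun s hs => (h s (Set.mem_toFinset.1 hs)).trans ?_)
  rw [← Set.ncard_coe_finset]
  refine Set.ncard_le_ncard (fun v hv => ?_)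
  simp only [Finset.coe_filter, Set.mem_toFinset, Set.mem_ofPred_eq]
  exact ⟨⟨hv.1, hv.2 ▸ Set.mem_toFinset.1 hs⟩, hv.2⟩

theorem double_count {α β : Type*} [Finite α] [Finite β] (r : α → β → Prop) (T : Set β) {m k : ℕ}
    (h1 : ∀ a, m ≤ {b | b ∈ T ∧ r a b}.ncard) (h2 : ∀ b ∈ T, {a | r a b}.ncard ≤ k) :
    Nat.card α * m ≤ T.ncard * k := by
  classical
  have := Fintype.ofFinite α
  have := Fintype.ofFinite β
  rw [Nat.card_eq_fintype_card, Set.ncard_eq_toFinset_card']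
  refine Finset.card_mul_le_card_mul r (s := Finset.univ) (fun a _ => (h1 a).trans ?_)
    fun b hb => le_trans ?_ (h2 b (Set.mem_toFinset.1 hb))
  · rw [← Set.ncard_coe_finset]
    exact Set.ncard_le_ncard fun b hb => by simpa using hb
  · rw [← Set.ncard_coe_finset]
    exact Set.ncard_le_ncard fun a ha => by simpa using ha

theorem ncard_add_ncard_le {α : Type*} [Finite α] {S T : Set α} (h : Disjoint S T) :
    S.ncard + T.ncard ≤ Nat.card α := by
  rw [← Set.ncard_union_eq h, ← Set.ncard_univ]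
  exact Set.ncard_le_ncard (Set.subset_univ _)

theorem ncard_le_card' {α : Type*} [Finite α] (S : Set α) : S.ncard ≤ Nat.card α := by
  rw [← Set.ncard_univ]
  exact Set.ncard_le_ncard (Set.subset_univ _)

variable {F : Type u} [Field F] [Finite F]

theorem card_units_le (c : F) (hc : c ≠ 0) :
    Nat.card F ≤ 2 * {s | ∃ t : F, t ≠ 0 ∧ t * t * c = s}.ncard + 1 ∧
      ((2 : F) = 0 → Nat.card F ≤ {s | ∃ t : F, t ≠ 0 ∧ t * t * c = s}.ncard + 1) := by
  have h0 : Nat.card F = Nat.card {t : F // t ≠ 0} + 1 := by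
    classical
    have := Fintype.ofFinite F
    rw [Nat.card_eq_fintype_card, Nat.card_eq_fintype_card, Fintype.card_subtype_compl,
      Fintype.card_subtype_eq]
    have := Fintype.card_pos (α := F)
    omega
  have key : ∀ k : ℕ, (∀ t : {t : F // t ≠ 0}, {t' : {t : F // t ≠ 0} | t'.1 = t ∨ t'.1 = -t}.ncard ≤ k)
      → Nat.card F ≤ k * {s | ∃ t : F, t ≠ 0 ∧ t * t * c = s}.ncard + 1 := fun k hk => by
    rw [h0]
    refine Nat.succ_le_succ (card_le_mul_of_fiber (fun t : {t : F // t ≠ 0} => t.1 * t.1 * c)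
      {s | ∃ t : F, t ≠ 0 ∧ t * t * c = s} (Set.toFinite _) (fun t => ⟨t.1, t.2, rfl⟩) k fun t => le_trans ?_ (hk t))
    exact Set.ncard_le_ncard fun t' ht' => mul_self_eq_mul_self_iff.1 (mul_right_cancel₀ hc ht')
  refine ⟨key 2 fun t => ?_, fun h2 => ?_⟩
  · refine le_trans (Set.ncard_le_ncard (t := {t, ⟨-t.1, neg_ne_zero.2 t.2⟩}) ?_) ?_
    · rintro t' (h | h)
      · exact Or.inl (Subtype.ext h)
      · exact Or.inr (Subtype.ext h)
    · exact (Set.ncard_insert_le _ _).trans (by simp)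
  · rw [← one_mul (Set.ncard _)]
    refine key 1 fun t => (Set.ncard_le_one (Set.toFinite _)).2 fun a ha b hb => Subtype.ext ?_
    have h3 : -t.1 = t := by linear_combination (-t.1) * h2
    rw [Set.mem_ofPred_eq, h3, or_self] at ha hb
    rw [ha, hb]

theorem level_ge (c : F) (ε : ℕ) (hε : ε = 0 ∨ (ε = 1 ∧ c = 0)) (n : ℕ) :
    ∀ {V : Type v} [AddCommGroup V] [Module F V] [FiniteDimensional F V] (Q : QuadraticForm F V),
      Nondeg Q → finrank F V = n →
      Nat.card F ^ (n - 1) + ε ≤ Nat.card {v // Q v = c} + Nat.card F ^ (n / 2) := by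
  induction n using Nat.strong_induction_on with
  | _ n ih =>
  intro V _ _ _ Q hQ hn
  have hq := one_lt_q F
  by_cases h3 : 3 ≤ n
  · obtain ⟨e, f, h⟩ := hQ.exists_hyp_of_three (hn ▸ h3)
    obtain ⟨k, rfl⟩ : ∃ k, n = k + 3 := ⟨n - 3, by omega⟩
    have h1 := h.finrank_eq
    have h2 := ih (k + 1) (by omega) (QW Q e f) (h.nondeg_W hQ) (by omega)
    rw [h.card_level, show finrank F (W Q e f) = k + 1 by omega,
      show (k + 3) / 2 = (k + 1) / 2 + 1 by omega]
    obtain ⟨r, hr⟩ : ∃ r, Nat.card F = r + 1 := ⟨Nat.card F - 1, by omega⟩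
    simp only [hr, Nat.add_sub_cancel, show k + 3 - 1 = k + 1 + 1 from rfl, pow_succ] at h2 ⊢
    nlinarith
  · have h1 : Nat.card F ^ (n - 1) ≤ Nat.card F ^ (n / 2) := Nat.pow_le_pow_right hq.le (by omega)
    rcases hε with rfl | ⟨rfl, rfl⟩
    · omega
    · have : Finite V := Module.finite_of_finite F
      have : 0 < Nat.card {v // Q v = 0} := Nat.card_pos_iff.2 ⟨⟨0, map_zero _⟩, inferInstance⟩
      omega

theorem level_ge_even {c : F} (hc : c ≠ 0) (k : ℕ) :
    ∀ {V : Type v} [AddCommGroup V] [Module F V] [FiniteDimensional F V] (Q : QuadraticForm F V),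
      Nondeg Q → finrank F V = 2 * k + 2 →
      Nat.card F ^ (2 * k + 1) ≤ Nat.card {v // Q v = c} + Nat.card F ^ k := by
  have hq := one_lt_q F
  obtain ⟨r, hr⟩ : ∃ r, Nat.card F = r + 1 := ⟨Nat.card F - 1, by omega⟩
  induction k with
  | zero =>
    intro V _ _ _ Q hQ hn
    by_cases ha : ∀ v, Q v = 0 → v = 0
    · rw [card_level_of_anisotropic hQ hn ha hc]; simp; omega
    · push Not at ha
      obtain ⟨e, he, he0⟩ := ha
      obtain ⟨f, h⟩ := hQ.exists_hyp he he0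
      have h1 := h.finrank_eq
      rw [h.card_level, show finrank F (W Q e f) = 0 by omega]
      simp; omega
  | succ k ih =>
    intro V _ _ _ Q hQ hn
    obtain ⟨e, f, h⟩ := hQ.exists_hyp_of_three (by omega)
    have h1 := h.finrank_eq
    have h2 := ih (QW Q e f) (h.nondeg_W hQ) (by omega)
    rw [h.card_level, show finrank F (W Q e f) = 2 * k + 2 by omega]
    simp only [hr, Nat.add_sub_cancel, show 2 * (k + 1) + 1 = 2 * k + 1 + 1 + 1 from rfl,
      show 2 * k + 2 = 2 * k + 1 + 1 from rfl, pow_succ] at h2 ⊢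
    nlinarith

variable {V : Type v} [AddCommGroup V] [Module F V] [FiniteDimensional F V]
  {Q : QuadraticForm F V}

local notation "𝔅" => PQ.B (ofQuad Q)

variable (Q) in
/-- Vectors of norm `c` orthogonal to `x` and not on the line of `x`. -/
def Lv (x : V) (c : F) : Set V := {v | 𝔅 x v = 0 ∧ v ∉ span F {x} ∧ Q v = c}

theorem ncard_perp_level {e f : V} (h : Hyp Q e f) (c : F) :
    {v | 𝔅 e v = 0 ∧ Q v = c}.ncard = Nat.card F * Nat.card {w // QW Q e f w = c} := by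
  rw [← Nat.card_coe_set_eq, ← Nat.card_prod]
  symm
  refine Nat.card_eq_of_bijective (fun p => ⟨p.1 • e + p.2.1, ?_, ?_⟩) ⟨fun p p' hp => ?_, fun v => ?_⟩
  · rw [map_add, map_smul, qz (mem_W.1 p.2.1.2).1, ofQuad_B, h.hee]; simp
  · rw [q_add, q_smul, h.he, qB_smul_left, qz (mem_W.1 p.2.1.2).1]
    simpa [QW_apply] using p.2.2
  · have h1 : p.1 • e + p.2.1.1 = p'.1 • e + p'.2.1.1 := congrArg Subtype.val hp
    have h2 := congrArg (𝔅 f) h1
    have h3 : 𝔅 f e = 1 := h.hfe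
    simp only [map_add, map_smul, qz (mem_W.1 p.2.1.2).2, qz (mem_W.1 p'.2.1.2).2, h3,
      smul_eq_mul, mul_one, add_zero] at h2
    rw [h2, add_right_inj] at h1
    exact Prod.ext h2 (Subtype.ext (Subtype.ext h1))
  · have h1 : QuadraticMap.polar Q v.1 e = 0 := qz v.2.1
    refine ⟨(QuadraticMap.polar Q v.1 f, ⟨h.prW v.1, ?_⟩), Subtype.ext ?_⟩
    · have := h.Q_eq v.1
      rw [h1, v.2.2, mul_zero, zero_add] at this
      exact this.symm
    · have := eq_add_pr (Q := Q) (e := e) (f := f) v.1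
      rw [h1, zero_smul, add_zero] at this
      exact this.symm

theorem ncard_Lv_add {e f : V} (h : Hyp Q e f) (c : F) (ε : ℕ) (hε : (ε = 0 ∧ c ≠ 0) ∨ (ε = 1 ∧ c = 0)) :
    (Lv Q e c).ncard + Nat.card F * ε = Nat.card F * Nat.card {w // QW Q e f w = c} := by
  have : Finite V := Module.finite_of_finite F
  rw [← ncard_perp_level h]
  rcases hε with ⟨rfl, hc⟩ | ⟨rfl, rfl⟩
  · rw [mul_zero, add_zero]
    congr 1
    ext v
    refine and_congr_right fun _ => and_iff_right_of_imp fun h1 h2 => ?_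
    obtain ⟨t, rfl⟩ := mem_span_singleton.1 h2
    rw [q_smul, h.he, mul_zero] at h1
    exact hc h1.symm
  · have h1 := ncard_submodule (span F {e})
    rw [finrank_span_singleton h.e_ne, pow_one] at h1
    rw [mul_one, ← h1, ← Set.ncard_union_eq (Set.disjoint_left.2 fun v hv => hv.2.1)]
    congr 1
    ext v
    constructor
    · rintro (h2 | h2)
      · exact ⟨h2.1, h2.2.2⟩
      · obtain ⟨t, rfl⟩ := mem_span_singleton.1 h2
        exact ⟨by rw [map_smul, ofQuad_B, h.hee, smul_zero], by rw [q_smul, h.he, mul_zero]⟩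
    · intro h2
      by_cases h3 : v ∈ span F {e}
      · exact Or.inr h3
      · exact Or.inl ⟨h2.1, h3, h2.2⟩

theorem le_ncard_Lv (hQ : Nondeg Q) (h7 : 7 ≤ finrank F V) {r : ℕ} (hr : Nat.card F = r + 1)
    {x : V} (hx : Q x = 0) (hx0 : x ≠ 0) (c : F) :
    (r + 1) * (r * (r + 2) * (r + 1) ^ (finrank F V - 5)) ≤ (Lv Q x c).ncard := by
  obtain ⟨f, h⟩ := hQ.exists_hyp hx hx0
  obtain ⟨ε, h1, h2⟩ : ∃ ε : ℕ, (ε = 0 ∨ (ε = 1 ∧ c = 0)) ∧
      ((ε = 0 ∧ c ≠ 0) ∨ (ε = 1 ∧ c = 0)) := by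
    by_cases hc : c = 0
    · exact ⟨1, Or.inr ⟨rfl, hc⟩, Or.inr ⟨rfl, hc⟩⟩
    · exact ⟨0, Or.inl rfl, Or.inl ⟨rfl, hc⟩⟩
  have h3 := ncard_Lv_add h c ε h2
  have h4 := h.finrank_eq
  have h5 := level_ge c ε h1 _ (QW Q x f) (h.nondeg_W hQ) rfl
  have h6 : Nat.card F ^ (finrank F (W Q x f) / 2) ≤ Nat.card F ^ (finrank F V - 5) :=
    Nat.pow_le_pow_right (one_lt_q F).le (by omega)
  rw [show finrank F (W Q x f) - 1 = finrank F V - 5 + 2 by omega, pow_add] at h5
  rw [hr] at h3 h5 h6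
  nlinarith

theorem zeros_of_ts (hQ : Nondeg Q) {k : ℕ} (hd : finrank F V = 2 * (k + 1)) {S : Submodule F V}
    (hS : ∀ v ∈ S, Q v = 0) (hk : finrank F S = k + 1) :
    Nat.card {v // Q v = 0} + Nat.card F ^ k = Nat.card F ^ (2 * k + 1) + Nat.card F ^ (k + 1) := by
  obtain ⟨e, he⟩ := exists_equiv_qPlus hQ hd hS hk
  have h1 := card_zeros_qPlus (F := F) k
  rw [card_level_congr e he] at h1
  zify
  rw [h1]; ring

theorem ncard_Lv_of_ts (hQ : Nondeg Q) {k : ℕ} (hd : finrank F V = 2 * (k + 2))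
    {S : Submodule F V} (hS : ∀ v ∈ S, Q v = 0) (hk : finrank F S = k + 2) {x : V} (hx : Q x = 0)
    (hx0 : x ≠ 0) : (Lv Q x 0).ncard + Nat.card F + Nat.card F ^ (k + 1) =
      Nat.card F ^ (2 * k + 2) + Nat.card F ^ (k + 2) := by
  obtain ⟨f, h⟩ := hQ.exists_hyp hx hx0
  have h1 := zeros_of_ts hQ (k := k + 1) hd hS hk
  have h2 := ncard_Lv_add h 0 1 (Or.inr ⟨rfl, rfl⟩)
  have h3 := h.finrank_eq
  rw [h.card_level, show finrank F (W Q x f) = 2 * k + 2 by omega, ← h2] at h1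
  have hq := one_lt_q F
  obtain ⟨r, hr⟩ : ∃ r, Nat.card F = r + 1 := ⟨Nat.card F - 1, by omega⟩
  rw [hr] at h1 ⊢
  rw [Nat.add_sub_cancel, show 2 * (k + 1) + 1 = 2 * k + 2 + 1 from rfl,
    pow_succ (r + 1) (2 * k + 2)] at h1
  nlinarith

end CfsgLib.MinIdx
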