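import Mathlib
import Cfsg.Agent.Lib.MinIdx.OBase

/-!
An orthogonal group of dimension at least seven has no action in which all root groups of
singular points act regularly.
-/

set_option autoImplicit false
set_option linter.unusedSectionVars false

namespace CfsgLib.MinIdx

open CfsgLib.Forms CfsgLib.RootMax Module Submodule

universe u v

variable {F : Type u} [Field F] {V : Type v} [AddCommGroup V] [Module F V]
  {Q : QuadraticForm F V} [FiniteDimensional F V]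

local notation "𝔅" => PQ.B (ofQuad Q)

theorem q_exists_nonsing {U : Submodule F V} {a b : V} (ha : a ∈ U) (hb : b ∈ U)
    (h : 𝔅 a b ≠ 0) : ∃ f ∈ U, Q f ≠ 0 := by
  by_contra h'
  push Not at h'
  have := q_add (Q := Q) a b
  rw [h' _ ha, h' _ hb, h' _ (add_mem ha hb)] at this
  exact h (by simpa using this.symm)

theorem q_span_pair {x y v : V} (hx : Q x = 0) (hy : Q y = 0) (hxy : 𝔅 x y = 0)
    (hv : v ∈ span F {x, y}) : Q v = 0 := by
  obtain ⟨s, t, rfl⟩ := mem_span_pair.1 hv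
  simp [q_add, q_smul, hx, hy, hxy]

theorem B_span_pair {x y u v : V} (hx : 𝔅 x u = 0) (hy : 𝔅 y u = 0)
    (hv : v ∈ span F {x, y}) : 𝔅 u v = 0 := by
  obtain ⟨s, t, rfl⟩ := mem_span_pair.1 hv
  simp [qz hx, qz hy]

theorem mem_perp_pair {x y u : V} : u ∈ (ofQuad Q).perp (span F {x, y}) ↔ 𝔅 x u = 0 ∧ 𝔅 y u = 0 := by
  rw [PQ.mem_perp_span]; simp

namespace Ctx

variable {C : Ctx (ofQuad Q)}

theorem dir_of (hR : C.R = ⊥) {x a : V} (h : 𝔅 x a = 0) : C.Dir x a :=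
  ⟨by rw [hR, PQ.perp_bot]; trivial, h⟩

theorem pt_of (hR : C.R = ⊥) {x : V} (h : Q x = 0) : C.Pt x :=
  pt_iff.2 ⟨h, by rw [hR, PQ.perp_bot]; trivial⟩

theorem ρ_mul_ρ {x y b : V} (hx : C.Pt x) (hy : C.Pt y) (hxy : 𝔅 x y = 0) (h1 : C.Dir x b)
    (h2 : C.Dir y b) (t β : F) :
    C.ρ x (t • b + β • y) * C.ρ y b = C.ρ (y + t • x) (b + (t * Q b - β) • x) := by
  have hyx := qz hxy
  have h3 : C.Dir x (t • b + β • y) := (h1.smul t).add (Dir.smul ⟨hy.2, hxy⟩ β)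
  have h4 : C.Pt (y + t • x) := hy.add (hx.smul t) (by simp [hyx])
  have h5 : C.Dir (y + t • x) (b + (t * Q b - β) • x) :=
    ⟨add_mem h1.1 (smul_mem _ _ hx.2), by simp [h1.2, h2.2, hyx, hx.self_eq]⟩
  refine ext' fun v => ?_
  rw [mul_apply', ρ_apply hx h3, ρ_apply hy h2, ρ_apply h4 h5]
  simp only [q_add, q_smul, map_add, map_sub, map_smul, LinearMap.add_apply, LinearMap.smul_apply,
    smul_eq_mul, hx.q_eq, hy.q_eq, h1.2, h2.2, qz h1.2, qz h2.2, hxy, hy.self_eq, qB_self b]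
  module

theorem ρ_add_self {x a : V} (hx : C.Pt x) (h : C.Dir x a) (t : F) :
    C.ρ x (a + t • x) = C.ρ x a := by
  refine ext' fun v => ?_
  rw [ρ_apply hx (h.add (hx.dir_self.smul t)), ρ_apply hx h]
  simp only [q_add, q_smul, map_add, map_smul, LinearMap.add_apply, LinearMap.smul_apply,
    smul_eq_mul, hx.q_eq, qz h.2]
  module

variable {Ω : Type*} [MulAction C.K Ω]

theorem TyT.mem_span {x a : V} {ω : Ω} (h : C.TyT x ω) (hx : C.Pt x) (hx0 : x ≠ 0)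
    (ha : C.Dir x a) (h1 : C.ρ x a • ω = ω) : a ∈ span F {x} :=
  mem_span_of_el_eq_one hx hx0 ha.val (h _ _ ha.val h1)

variable [Finite F]

theorem not_allT (hR : C.R = ⊥) (h7 : 7 ≤ finrank F V) {ω : Ω}
    (hT : ∀ z, C.Pt z → z ≠ 0 → C.TyT z ω) {x : V} (hx : C.Pt x) (hx0 : x ≠ 0)
    (hrel : ∀ g : C.K, g.1 x = x → C.rel Ω x (g • ω) ω)
    (hrefl : ∀ a b, Q a ≠ 0 → Q b = Q a →
      ∃ g : C.K, ∀ v, g.1 v = (OrthE.refl Q a).1 ((OrthE.refl Q b).1 v)) : False := by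
  obtain ⟨y, y', hy0, -, hyy', hxy, hxy'⟩ := q_exists_hyp C.nondeg (U := span F {x}) (by
    have := finrank_one_le (F := F) x; omega)
  rw [PQ.mem_perp_span_singleton] at hxy hxy'
  have hy : C.Pt y := pt_of hR hy0
  have hyx := qz hxy
  have uniq : ∀ a a' (s : C.K), 𝔅 x a = 0 → 𝔅 x a' = 0 → (C.ρ x a * s) • ω = ω →
      (C.ρ x a' * s) • ω = ω → a - a' ∈ span F {x} := by
    intro a a' s ha ha' h1 h2
    refine (hT x hx hx0).mem_span hx hx0 ((dir_of hR ha).sub (dir_of hR ha')) ?_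
    have h3 : C.ρ x (a - a') = (C.ρ x a * s) * (C.ρ x a' * s)⁻¹ := by
      rw [sub_eq_add_neg, ← ρ_mul (dir_of hR ha) (dir_of hR ha').neg, ρ_neg (dir_of hR ha')]
      group
    rw [h3, mul_smul, inv_smul_eq_iff.2 h2.symm, h1]
  have hlift : ∀ g : C.K, g.1 x = x → ∃ a, 𝔅 x a = 0 ∧ (C.ρ x a * g) • ω = ω := fun g hg =>
    let ⟨a, h1, h2⟩ := qrel_iff.1 ((C.rel Ω x).symm (hrel g hg))
    ⟨a, h1.2, by rw [mul_smul, h2]⟩
  have fx : ∀ b, 𝔅 x b = 0 → 𝔅 y b = 0 → (C.ρ y b).1 x = x := fun b h1 h2 =>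
    ρ_fix hy (dir_of hR h2) hyx (qz h1)
  have prod : ∀ b a b' a', 𝔅 x b = 0 → 𝔅 y b = 0 → 𝔅 y b' = 0 → 𝔅 x a = 0 → 𝔅 x a' = 0 →
      C.ρ x a * C.ρ y b * (C.ρ x a' * C.ρ y b')
        = C.ρ x (a + (C.ρ y b).1 a') * C.ρ y (b + b') := by
    intro b a b' a' h1 h2 h3 h4 h5
    have h6 : C.Dir x ((C.ρ y b).1 a') := by
      simpa only [fx b h1 h2] using (dir_of hR h5 : C.Dir x a').map (C.ρ y b)
    rw [mul_assoc, ← mul_assoc (C.ρ y b), mul_ρ _ hx (dir_of hR h5), fx b h1 h2,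
      ← ρ_mul (dir_of hR h4) h6, ← ρ_mul (dir_of hR h2) (dir_of hR h3)]
    group
  have hxρ : ∀ b a, 𝔅 x b = 0 → 𝔅 y b = 0 → 𝔅 x a = 0 → 𝔅 x ((C.ρ y b).1 a) = 0 := by
    intro b a h1 h2 h3
    rw [ρ_apply hy (dir_of hR h2)]; simp [h1, h3, hxy]
  have comm : ∀ b a b' a', 𝔅 x b = 0 → 𝔅 y b = 0 → 𝔅 x b' = 0 → 𝔅 y b' = 0 → 𝔅 x a = 0 →
      𝔅 x a' = 0 → (C.ρ x a * C.ρ y b) • ω = ω → (C.ρ x a' * C.ρ y b') • ω = ω →
      ∃ t : F, t • x = (𝔅 b a' - Q b * 𝔅 y a' - (𝔅 b' a - Q b' * 𝔅 y a)) • y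
        - 𝔅 y a' • b + 𝔅 y a • b' := by
    intro b a b' a' h1 h2 h3 h4 h5 h6 h7 h8
    obtain ⟨t, ht⟩ := mem_span_singleton.1 (uniq (a + (C.ρ y b).1 a') (a' + (C.ρ y b').1 a)
      (C.ρ y (b + b')) (by rw [map_add, h5, hxρ _ _ h1 h2 h6, add_zero])
      (by rw [map_add, h6, hxρ _ _ h3 h4 h5, add_zero])
      (by rw [← prod b a b' a' h1 h2 h4 h5 h6, mul_smul, h8, h7])
      (by rw [add_comm b, ← prod b' a' b a h3 h4 h2 h6 h5, mul_smul, h7, h8]))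
    refine ⟨t, ?_⟩
    rw [ht, ρ_apply hy (dir_of hR h2), ρ_apply hy (dir_of hR h4)]
    module
  have S1' : ∀ b, 𝔅 x b = 0 → 𝔅 y b = 0 → ∃ a, 𝔅 x a = 0 ∧ (C.ρ x a * C.ρ y b) • ω = ω :=
    fun b h1 h2 => hlift _ (fx b h1 h2)
  have S3 : ∀ b a, 𝔅 x b = 0 → 𝔅 y b = 0 → 𝔅 x a = 0 → (C.ρ x a * C.ρ y b) • ω = ω →
      𝔅 y a = 0 := by
    intro b a h1 h2 h3 h4
    obtain ⟨b', hb', hb''⟩ := exists_mem_notMem (W := (ofQuad Q).perp (span F {x, y}))
      (W' := span F {x, y, b}) (by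
        have := (ofQuad Q).finrank_perp C.nondeg (span F {x, y})
        have := finrank_two_le (F := F) x y
        have := finrank_three_le (F := F) x y b
        omega)
    obtain ⟨h5, h6⟩ := mem_perp_pair.1 hb'
    obtain ⟨a', h7, h8⟩ := S1' b' h5 h6
    obtain ⟨t, ht⟩ := comm b a b' a' h1 h2 h5 h6 h3 h7 h4 h8
    by_contra hne
    exact hb'' ((smul_mem_iff _ hne).1 (mem_span_triple.2 ⟨t, -(𝔅 b a' - Q b * 𝔅 y a' -
      (𝔅 b' a - Q b' * 𝔅 y a)), 𝔅 y a', by rw [ht]; module⟩))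
  let S : V → V → Prop := fun b a =>
    𝔅 x b = 0 ∧ 𝔅 y b = 0 ∧ 𝔅 x a = 0 ∧ 𝔅 y a = 0 ∧ (C.ρ x a * C.ρ y b) • ω = ω
  have S1 : ∀ b, 𝔅 x b = 0 → 𝔅 y b = 0 → ∃ a, S b a := fun b h1 h2 =>
    let ⟨a, h3, h4⟩ := S1' b h1 h2
    ⟨a, h1, h2, h3, S3 b a h1 h2 h3 h4, h4⟩
  have S4 : ∀ b a b' a', S b a → S b' a' → 𝔅 b a' = 𝔅 b' a := by
    rintro b a b' a' ⟨h1, h2, h3, h4, h5⟩ ⟨h6, h7, h8, h9, h10⟩
    obtain ⟨t, ht⟩ := comm b a b' a' h1 h2 h6 h7 h3 h8 h5 h10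
    have := congrArg (𝔅 y') ht
    exact sub_eq_zero.1 (by simpa [h4, h9, qz hxy', hyy'] using this.symm)
  have S6 : ∀ b a (t : F), S b a → a - t • b ∈ span F {x, y} → Q b = 0 := by
    rintro b a t ⟨h1, h2, h3, h4, h5⟩ h6
    obtain ⟨α, β, h7⟩ := mem_span_pair.1 h6
    have h8 : a = (t • b + β • y) + α • x := by linear_combination (norm := module) -h7
    rw [h8, ρ_add_self hx (dir_of hR (by simp [h1, hxy])),
      ρ_mul_ρ hx hy hxy (dir_of hR h1) (dir_of hR h2)] at h5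
    have h9 : C.Pt (y + t • x) := hy.add (hx.smul t) (by simp [hyx])
    have h10 : y + t • x ≠ 0 := fun h => by
      have := congrArg (𝔅 y') h
      simp [hyy', qz hxy'] at this
    obtain ⟨s, hs⟩ := mem_span_singleton.1 ((hT _ h9 h10).mem_span h9 h10
      (dir_of hR (by simp [h1, h2, hyx, hx.self_eq])) h5)
    have := congrArg Q hs
    rw [q_smul, h9.q_eq, q_add, q_smul, hx.q_eq] at this
    simpa [qz h1] using this.symm
  have K1 : ∀ a₁ b₁, 𝔅 x a₁ = 0 → 𝔅 y a₁ = 0 → 𝔅 x b₁ = 0 → 𝔅 y b₁ = 0 → Q a₁ ≠ 0 →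
      Q b₁ = Q a₁ → (∀ s t : F, s • a₁ + t • b₁ ∈ span F {x, y} → s = 0 ∧ t = 0) →
      (∃ u, 𝔅 x u = 0 ∧ 𝔅 y u = 0 ∧ 𝔅 a₁ u = 0 ∧ 𝔅 b₁ u = 0 ∧
        ∀ s t : F, u - (s • a₁ + t • b₁) ∉ span F {x, y}) →
      ∀ u c, 𝔅 a₁ u = 0 → 𝔅 b₁ u = 0 → S u c → 𝔅 a₁ c = 0 ∧ 𝔅 b₁ c = 0 := by
    intro a₁ b₁ h1 h2 h3 h4 h5 h6 hind hex
    obtain ⟨g, hg⟩ := hrefl a₁ b₁ h5 h6
    have hg' : ∀ v, g.1 v = v - ((Q a₁)⁻¹ * 𝔅 b₁ v) • b₁ -
        ((Q a₁)⁻¹ * (𝔅 a₁ v - (Q a₁)⁻¹ * 𝔅 b₁ v * 𝔅 a₁ b₁)) • a₁ := by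
      intro v
      rw [hg, OrthE.refl_apply, OrthE.refl_apply, h6, ← ofQuad_B, ← ofQuad_B, qB_comm v,
        qB_comm _ a₁]
      simp
    have gx : g.1 x = x := by rw [hg']; simp [qz h1, qz h3]
    have gy : g.1 y = y := by rw [hg']; simp [qz h2, qz h4]
    obtain ⟨a₀, h7, h8⟩ := hlift g gx
    have step : ∀ u c, 𝔅 a₁ u = 0 → 𝔅 b₁ u = 0 → S u c →
        g.1 c - c + 𝔅 a₀ y • u ∈ span F {x, y} := by
      rintro u c h9 h10 ⟨k1, k2, k3, k4, k5⟩
      have gu : g.1 u = u := by rw [hg']; simp [h9, h10]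
      have k6 : 𝔅 x (g.1 c) = 0 := by rw [← k3, ← B_map g x c, gx]
      have e1 : (C.ρ x a₀ * g).1 x = x := by rw [mul_apply', gx, ρ_self hx (dir_of hR h7)]
      have k7 : ((C.ρ x a₀ * g) * (C.ρ x c * C.ρ y u)) • ω = ω := by rw [mul_smul, k5, h8]
      rw [← mul_assoc, mul_ρ _ hx (dir_of hR k3), mul_assoc, mul_ρ _ hy (dir_of hR k2), e1,
        ← mul_assoc, mul_smul, h8, mul_apply', mul_apply', mul_apply', gy, gu,
        ρ_apply_left hx (dir_of hR h7) hxy, ρ_apply_left hx (dir_of hR h7) k1,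
        ρ_apply_left hx (dir_of hR h7) k6, ρ_add_self hx (dir_of hR k6),
        show 𝔅 a₀ u = 𝔅 a₀ y * Q u - (𝔅 a₀ y * Q u - 𝔅 a₀ u) by ring,
        ← ρ_mul_ρ hx hy hxy (dir_of hR k1) (dir_of hR k2), ← mul_assoc,
        ρ_mul (dir_of hR k6) (dir_of hR (by simp [k1, hxy]))] at k7
      obtain ⟨t, ht⟩ := mem_span_singleton.1 (uniq _ _ _ (by simp [k1, k6, hxy]) k3 k7 k5)
      exact mem_span_pair.2 ⟨t, -(𝔅 a₀ y * Q u - 𝔅 a₀ u), by rw [ht]; module⟩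
    have hκ : 𝔅 a₀ y = 0 := by
      obtain ⟨u, k1, k2, k3, k4, k5⟩ := hex
      obtain ⟨c, hc⟩ := S1 u k1 k2
      have k6 := step u c k3 k4 hc
      by_contra hne
      refine k5 ((𝔅 a₀ y)⁻¹ * ((Q a₁)⁻¹ * (𝔅 a₁ c - (Q a₁)⁻¹ * 𝔅 b₁ c * 𝔅 a₁ b₁)))
        ((𝔅 a₀ y)⁻¹ * ((Q a₁)⁻¹ * 𝔅 b₁ c)) ((smul_mem_iff _ hne).1 ?_)
      convert k6 using 1
      rw [hg']
      match_scalars <;> field_simp <;> ring
    intro u c h9 h10 hS
    have k1 := step u c h9 h10 hS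
    rw [hκ, hg'] at k1
    obtain ⟨k2, k3⟩ := hind (-((Q a₁)⁻¹ * (𝔅 a₁ c - (Q a₁)⁻¹ * 𝔅 b₁ c * 𝔅 a₁ b₁)))
      (-((Q a₁)⁻¹ * 𝔅 b₁ c)) (by convert k1 using 1; module)
    have k4 : 𝔅 b₁ c = 0 := by simpa [h5] using k3
    exact ⟨by simpa [h5, k4] using k2, k4⟩
  have K2 : ∀ a₁ b₁, 𝔅 x a₁ = 0 → 𝔅 y a₁ = 0 → 𝔅 x b₁ = 0 → 𝔅 y b₁ = 0 → Q a₁ ≠ 0 →
      Q b₁ = Q a₁ → (∀ s t : F, s • a₁ + t • b₁ ∈ span F {x, y} → s = 0 ∧ t = 0) →
      (∃ u, 𝔅 x u = 0 ∧ 𝔅 y u = 0 ∧ 𝔅 a₁ u = 0 ∧ 𝔅 b₁ u = 0 ∧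
        ∀ s t : F, u - (s • a₁ + t • b₁) ∉ span F {x, y}) →
      ∀ c, S a₁ c → ∃ s t : F, c - (s • a₁ + t • b₁) ∈ span F {x, y} := by
    intro a₁ b₁ h1 h2 h3 h4 h5 h6 hind hex c hc
    have : c ∈ span F {x, y} ⊔ span F {a₁, b₁} := by
      rw [← (ofQuad Q).perp_perp C.nondeg (span F {x, y} ⊔ span F {a₁, b₁})]
      intro u hu
      obtain ⟨k1, k2, k3⟩ := mem_perp_two.1 hu
      obtain ⟨k4, k5⟩ := mem_perp_pair.1 k1
      obtain ⟨c', hc'⟩ := S1 u k4 k5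
      rw [S4 _ _ _ _ hc' hc]
      exact (K1 a₁ b₁ h1 h2 h3 h4 h5 h6 hind hex u c' k2 k3 hc').1
    obtain ⟨r, hr, s, t, rfl⟩ := mem_sup_two.1 this
    exact ⟨s, t, by convert hr using 1; abel⟩
  obtain ⟨z, z', hz, hz', hzz', hzl, hzl'⟩ := q_exists_hyp C.nondeg (U := span F {x, y}) (by
    have := finrank_two_le (F := F) x y; omega)
  obtain ⟨hxz, hyz⟩ := mem_perp_pair.1 hzl
  obtain ⟨hxz', hyz'⟩ := mem_perp_pair.1 hzl'
  have hz'z : 𝔅 z z' = 1 := (qB_comm _ _).trans hzz'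
  have hzz : 𝔅 z z = 0 := by rw [qB_self, hz, mul_zero]
  have hz'z' : 𝔅 z' z' = 0 := by rw [qB_self, hz', mul_zero]
  obtain ⟨f, hf, hf0⟩ : ∃ f ∈ (ofQuad Q).perp (span F {x, y} ⊔ span F {z, z'}), Q f ≠ 0 := by
    obtain ⟨a, ha, ha'⟩ := exists_mem_notMem
      (W := (ofQuad Q).perp (span F {x, y} ⊔ span F {z, z'})) (W' := span F {x, y}) (by
        have := (ofQuad Q).finrank_perp C.nondeg (span F {x, y} ⊔ span F {z, z'})
        have := finrank_sup_le (span F {x, y}) (span F {z, z'})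
        have := finrank_two_le (F := F) x y
        have := finrank_two_le (F := F) z z'
        omega)
    obtain ⟨b, hb, hab⟩ : ∃ b ∈ (ofQuad Q).perp (span F {x, y} ⊔ span F {z, z'}), 𝔅 b a ≠ 0 := by
      by_contra h
      push Not at h
      have h1 : a ∈ span F {x, y} ⊔ span F {z, z'} := by
        rw [← (ofQuad Q).perp_perp C.nondeg (span F {x, y} ⊔ span F {z, z'})]
        exact h
      obtain ⟨r, hr, s, t, rfl⟩ := mem_sup_two.1 h1
      obtain ⟨-, h2, h3⟩ := mem_perp_two.1 ha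
      simp only [map_add, map_smul, B_span_pair hxz hyz hr, B_span_pair hxz' hyz' hr, hzz, hz'z,
        hzz', hz'z', smul_eq_mul, mul_zero, mul_one, zero_add, add_zero] at h2 h3
      exact ha' (by simpa [h2, h3] using hr)
    exact q_exists_nonsing hb ha hab
  obtain ⟨k0, hzf, hz'f⟩ := mem_perp_two.1 hf
  obtain ⟨hxf, hyf⟩ := mem_perp_pair.1 k0
  by_cases h2 : (2 : F) = 0
  · have qa : Q (z + z') = 1 := by rw [q_add, hz, hz', hz'z]; simp
    have qb : Q (z + (1 - Q f) • z' + f) = 1 := by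
      simp [q_add, q_smul, hz, hz', hz'z, hzf, hz'f]
    have hab : 𝔅 (z + z') (z + (1 - Q f) • z' + f) = Q f := by
      simp only [map_add, map_smul, LinearMap.add_apply, hzz, hz'z, hzz', hz'z', hzf, hz'f,
        smul_eq_mul]
      linear_combination (1 - Q f) * h2
    have haa : 𝔅 (z + z') (z + z') = 0 := by rw [qB_self, h2, zero_mul]
    have hbb : 𝔅 (z + (1 - Q f) • z' + f) (z + (1 - Q f) • z' + f) = 0 := by
      rw [qB_self, h2, zero_mul]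
    have ax : 𝔅 x (z + z') = 0 := by simp [hxz, hxz']
    have ay : 𝔅 y (z + z') = 0 := by simp [hyz, hyz']
    have bx : 𝔅 x (z + (1 - Q f) • z' + f) = 0 := by simp [hxz, hxz', hxf]
    have by' : 𝔅 y (z + (1 - Q f) • z' + f) = 0 := by simp [hyz, hyz', hyf]
    generalize z + z' = a at *
    generalize z + (1 - Q f) • z' + f = b at *
    have hba : 𝔅 b a = Q f := (qB_comm _ _).trans hab
    have coef : ∀ u (s t : F), 𝔅 a u = 0 → u - (s • a + t • b) ∈ span F {x, y} → t = 0 := by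
      intro u s t h1 h3
      simpa [h1, haa, hab, hf0] using B_span_pair ax ay h3
    have coef' : ∀ u (s t : F), 𝔅 b u = 0 → u - (s • a + t • b) ∈ span F {x, y} → s = 0 := by
      intro u s t h1 h3
      simpa [h1, hbb, hba, hf0] using B_span_pair bx by' h3
    obtain ⟨c, hc⟩ := S1 a ax ay
    obtain ⟨s, t, hst⟩ := K2 a b ax ay bx by' (by rw [qa]; exact one_ne_zero) (by rw [qa, qb])
      (fun s t h => ⟨coef' 0 s t (map_zero _) (by simpa using neg_mem h),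
        coef 0 s t (map_zero _) (by simpa using neg_mem h)⟩) (by
        obtain ⟨u, hu, hu'⟩ := exists_mem_notMem
          (W := (ofQuad Q).perp (span F {x, y} ⊔ span F {a, b})) (W' := span F {x, y}) (by
            have := (ofQuad Q).finrank_perp C.nondeg (span F {x, y} ⊔ span F {a, b})
            have := finrank_sup_le (span F {x, y}) (span F {a, b})
            have := finrank_two_le (F := F) x y
            have := finrank_two_le (F := F) a b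
            omega)
        obtain ⟨k1, k2, k3⟩ := mem_perp_two.1 hu
        obtain ⟨k4, k5⟩ := mem_perp_pair.1 k1
        refine ⟨u, k4, k5, k2, k3, fun s t h => hu' ?_⟩
        simpa [coef u s t k2 h, coef' u s t k3 h] using h) c hc
    have hac : 𝔅 a c = 0 := by
      obtain ⟨k1, k2, k3, k4, k5⟩ := hc
      have k6 : ∀ v : V, v + v = 0 := fun v => by rw [← two_smul F, h2, zero_smul]
      have k7 : (C.ρ x c * C.ρ y a * (C.ρ x c * C.ρ y a)) • ω = ω := by rw [mul_smul, k5, k5]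
      rw [prod a c a c k1 k2 k2 k3 k3, k6, ρ_zero, ρ_apply_left hy (dir_of hR k2) k4,
        ← add_assoc, k6, zero_add] at k7
      obtain ⟨t, ht⟩ := mem_span_singleton.1 (uniq _ 0 1 (by simp [hxy]) (map_zero _) k7
        (by rw [ρ_zero, one_mul, one_smul]))
      simpa [hyy', qz hxy'] using congrArg (𝔅 y') ht.symm
    have := S6 a c s hc (by simpa [coef c s t hac hst] using hst)
    rw [qa] at this
    exact one_ne_zero this
  · have hff : 𝔅 f f ≠ 0 := by rw [qB_self]; exact mul_ne_zero h2 hf0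
    have hyp : ∀ m, 𝔅 x m = 0 → 𝔅 y m = 0 → 𝔅 z m = 0 → 𝔅 z' m = 0 → 𝔅 f m = 0 →
        (m ∈ span F {x, y} → m = 0) →
        𝔅 x (z + (Q f - Q m) • z' + m) = 0 ∧ 𝔅 y (z + (Q f - Q m) • z' + m) = 0 ∧
        Q (z + (Q f - Q m) • z' + m) = Q f ∧
        (∀ s t : F, s • f + t • (z + (Q f - Q m) • z' + m) ∈ span F {x, y} → s = 0 ∧ t = 0) ∧
        ∃ u, 𝔅 x u = 0 ∧ 𝔅 y u = 0 ∧ 𝔅 f u = 0 ∧ 𝔅 (z + (Q f - Q m) • z' + m) u = 0 ∧
          ∀ s t : F, u - (s • f + t • (z + (Q f - Q m) • z' + m)) ∉ span F {x, y} := by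
      intro m h1 h3 h4 h5 h6 h8
      refine ⟨by simp [hxz, hxz', h1], by simp [hyz, hyz', h3],
        by simp [q_add, q_smul, hz, hz', hz'z, h4, h5], fun s t h => ⟨?_, ?_⟩,
        z + (Q m - Q f) • z', by simp [hxz, hxz'], by simp [hyz, hyz'],
        by simp [qz hzf, qz hz'f], by simp [hzz, hz'z, hzz', hz'z', qz h4, qz h5],
        fun s t h => ?_⟩
      · simpa [qz hzf, qz hz'f, h6, hff] using B_span_pair hxf hyf h
      · simpa [hz'f, hzz', hz'z', h5] using B_span_pair hxz' hyz' h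
      · have k1 : s = 0 := by simpa [qz hzf, qz hz'f, h6, hff] using B_span_pair hxf hyf h
        have k2 : 1 - t = 0 := by simpa [hz'f, hzz', hz'z', h5] using B_span_pair hxz' hyz' h
        obtain rfl : t = 1 := (sub_eq_zero.1 k2).symm
        have k3 := B_span_pair hxz hyz h
        simp only [map_sub, map_add, map_smul, hzz, hz'z, hzf, h4, smul_eq_mul] at k3
        have k4 : Q m = Q f := by
          have : 2 * (Q m - Q f) = 0 := by linear_combination k3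
          exact sub_eq_zero.1 ((mul_eq_zero.1 this).resolve_left h2)
        have k5 := h8 (by simpa [k1, k4] using h)
        rw [k5, map_zero] at k4
        exact hf0 k4.symm
    obtain ⟨c, hc⟩ := S1 f hxf hyf
    obtain ⟨j1, j2, j3, j4, j5⟩ := hyp 0 (by simp) (by simp) (by simp) (by simp) (by simp)
      fun _ => rfl
    by_cases hm : ∃ m, 𝔅 x m = 0 ∧ 𝔅 y m = 0 ∧ 𝔅 z m = 0 ∧ 𝔅 z' m = 0 ∧ 𝔅 f m = 0 ∧
        m ∉ span F {x, y}
    · obtain ⟨m, h1, h3, h4, h5, h6, h8⟩ := hm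
      obtain ⟨i1, i2, i3, i4, i5⟩ := hyp m h1 h3 h4 h5 h6 fun h => absurd h h8
      obtain ⟨s, t, hst⟩ := K2 f _ hxf hyf j1 j2 hf0 j3 j4 j5 c hc
      obtain ⟨s', t', hst'⟩ := K2 f _ hxf hyf i1 i2 hf0 i3 i4 i5 c hc
      have k0 := sub_mem hst hst'
      have k1 : s' - s = 0 := by
        have := B_span_pair hxf hyf k0
        simp only [map_sub, map_add, map_smul, qz hzf, qz hz'f, h6, smul_eq_mul, map_zero] at this
        exact (mul_eq_zero.1 (show (s' - s) * 𝔅 f f = 0 by linear_combination this)).resolve_right hff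
      have k2 : t' - t = 0 := by
        have := B_span_pair hxz' hyz' k0
        simp only [map_sub, map_add, map_smul, hzz', hz'z', hz'f, h5, smul_eq_mul, map_zero] at this
        linear_combination this
      obtain rfl := sub_eq_zero.1 k1
      obtain rfl := sub_eq_zero.1 k2
      have k3 : t' * Q m = 0 := by
        have := B_span_pair hxz hyz k0
        simp only [map_sub, map_add, map_smul, hzz, hz'z, hzf, h4, smul_eq_mul, map_zero] at this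
        linear_combination -this
      have k4 : t' • m ∈ span F {x, y} := by
        convert k0 using 1
        rw [map_zero]
        linear_combination (norm := module) k3 • z'
      have k5 : t' = 0 := by
        by_contra hne
        exact h8 ((smul_mem_iff _ hne).1 k4)
      exact hf0 (S6 f c s' hc (by simpa [k5] using hst))
    · push Not at hm
      obtain ⟨c', hc'⟩ := S1 (z - Q f • z') (by simp [hxz, hxz']) (by simp [hyz, hyz'])
      obtain ⟨k1, k2⟩ := K1 f _ hxf hyf j1 j2 hf0 j3 j4 j5 _ c' (by simp [qz hzf, qz hz'f])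
        (by simp [hzz, hz'z, hzz', hz'z']) hc'
      have k3 := S6 _ c' (𝔅 z' c') hc' (hm _ (by simp [hc'.2.2.1, hxz, hxz'])
        (by simp [hc'.2.2.2.1, hyz, hyz']) (by
          simp only [map_zero, sub_zero, add_zero, map_add, LinearMap.add_apply,
            qB_smul_left] at k2
          simp only [map_sub, map_smul, hzz, hz'z, smul_eq_mul]
          linear_combination k2) (by simp [hzz', hz'z']) (by simp [k1, qz hzf, qz hz'f]))
      rw [q_sub, q_smul, hz, hz'] at k3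
      exact hf0 (by simpa [hz'z] using k3)

end Ctx

end CfsgLib.MinIdx
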