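import Mathlib
import Cfsg.Agent.Lib.MinIdx.OAllT
import Cfsg.Agent.Lib.MinIdx.OCount

/-!
Orbits of the root groups of an orthogonal group of dimension at least seven in a small action.
-/

set_option autoImplicit false
set_option linter.unusedSectionVars false

namespace CfsgLib.MinIdx

open CfsgLib.Forms CfsgLib.RootMax Module Submodule

universe u v

variable {F : Type u} [Field F] {V : Type v} [AddCommGroup V] [Module F V]
  {Q : QuadraticForm F V} [FiniteDimensional F V] [Finite F]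

local notation "𝔅" => PQ.B (ofQuad Q)

theorem core_le {μ L N q l : ℕ} (hq : 0 < q) (h1 : μ * L ≤ q * N) (h2 : q * l ≤ L) :
    μ * l ≤ N := by
  apply Nat.le_of_mul_le_mul_left _ hq
  calc q * (μ * l) = μ * (q * l) := by ring
    _ ≤ μ * L := by gcongr
    _ ≤ _ := h1

theorem arith_A {r μ a N : ℕ} (h1 : μ * (r * (r + 2) * a) ≤ N)
    (h2 : r * N < ((r + 1) ^ 4 + (r + 1)) * a)
    (h3 : (r + 1) ^ 4 + (r + 1) ≤ r * (μ * (r * (r + 2)))) : False := by
  have : ((r + 1) ^ 4 + (r + 1)) * a ≤ r * N :=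
    calc _ ≤ r * (μ * (r * (r + 2))) * a := by gcongr
      _ = r * (μ * (r * (r + 2) * a)) := by ring
      _ ≤ _ := by gcongr
  omega

theorem le_of_pow_le_mul {q n k m j : ℕ} (hq : 1 < q) (h : q ^ n ≤ m * q ^ k) (hj : k + j ≤ n) :
    q ^ j ≤ m := by
  apply Nat.le_of_mul_le_mul_right _ (pow_pos (by omega : 0 < q) k)
  rw [← pow_add]
  exact (Nat.pow_le_pow_right hq.le (by omega)).trans h

theorem ts_span_of_add {D : AddSubgroup V} (h : ∀ v ∈ D, Q v = 0) :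
    ∀ v ∈ span F (D : Set V), Q v = 0 :=
  OrthE.ts_iff.1 ((ofQuad Q).ts_span (fun x hx => q_sing.2 (h x hx)) (fun x hx y hy => by
    have := q_add (Q := Q) x y
    rw [h x hx, h y hy, h _ (D.add_mem hx hy)] at this
    simpa using this.symm))

theorem B_of_ts {S : Submodule F V} (h : ∀ v ∈ S, Q v = 0) {u v : V} (hu : u ∈ S) (hv : v ∈ S) :
    𝔅 u v = 0 := OrthE.polar_eq_zero_of_ts h hu hv

theorem finrank_le_of_ts (hQ : (ofQuad Q).Nondeg) {S : Submodule F V} (h : ∀ v ∈ S, Q v = 0) :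
    2 * finrank F S ≤ finrank F V := PQ.TS.two_mul_finrank_le hQ (OrthE.ts_iff.2 h)

theorem eq_zero_or_one_of_card (h : Nat.card F = 2) (c : F) : c = 0 ∨ c = 1 := by
  by_contra h'
  push Not at h'
  obtain ⟨y, -, hy⟩ := (Nat.card_eq_two_iff' (0 : F)).1 h
  exact h'.2 ((hy c h'.1).trans (hy 1 one_ne_zero).symm)

theorem notMem_exchange {x w u z : V} (h1 : u ∉ span F {x, w}) (h2 : z ∉ span F {x, w, u}) :
    u ∉ span F {x, w, z} := by
  intro h
  obtain ⟨a, b, c, rfl⟩ := mem_span_triple.1 h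
  by_cases hc : c = 0
  · exact h1 (mem_span_pair.2 ⟨a, b, by simp [hc]⟩)
  · exact h2 ((smul_mem_iff _ hc).1 (mem_span_triple.2 ⟨-a, -b, 1, by module⟩))

theorem notMem_swap {x v : V} (hx : x ≠ 0) (h : v ∉ span F {x}) : x ∉ span F {v} := by
  intro h'
  obtain ⟨t, rfl⟩ := mem_span_singleton.1 h'
  have ht : t ≠ 0 := by rintro rfl; simp at hx
  exact h ((smul_mem_iff _ ht).1 (mem_span_singleton_self _))

namespace Ctx

variable (C : Ctx (ofQuad Q)) (Ω : Type*) [MulAction C.K Ω]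

/-- Hypotheses on a small action of an orthogonal group. -/
structure OH (r : ℕ) : Prop where
  hR : C.R = ⊥
  h7 : 7 ≤ finrank F V
  hr : Nat.card F = r + 1
  tr0 : ∀ u u', u ≠ 0 → u' ≠ 0 → Q u' = Q u → ∃ g : C.K, g.1 u = u'
  tr1 : ∀ x u u', u ∉ span F {x} → u' ∉ span F {x} → 𝔅 x u' = 𝔅 x u → Q u' = Q u →
    ∃ g : C.K, g.1 x = x ∧ g.1 u = u'
  refl : ∀ a b, Q a ≠ 0 → Q b = Q a →
    ∃ g : C.K, ∀ v, g.1 v = (OrthE.refl Q a).1 ((OrthE.refl Q b).1 v)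
  tor : ∀ x y (t : F), Q x = 0 → Q y = 0 → 𝔅 y x = 1 → t ≠ 0 →
    ∃ h : C.K, h.1 x = (t * t) • x ∧ ∀ v, 𝔅 x v = 0 → 𝔅 y v = 0 → h.1 v = v
  n1 : r * Nat.card Ω < ((r + 1) ^ 4 + (r + 1)) * (r + 1) ^ (finrank F V - 5)
  n2 : r = 1 → Nat.card Ω + 1 < 16 * 2 ^ (finrank F V - 5) ∧ Even (finrank F V)
  n3 : r = 2 → 2 * Nat.card Ω < 81 * 3 ^ (finrank F V - 5)
  n8 : finrank F V = 8 → ∀ S : Submodule F V, (∀ v ∈ S, Q v = 0) → finrank F S = 4 →
    (r = 1 ∧ Nat.card Ω < 120) ∨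
      (3 ≤ r ∧ Nat.card Ω < ((r + 1) ^ 2 + 1) * (r + 2) * ((r + 1) ^ 3 + 1))

variable {Ω}

/-- Small annihilator. -/
def Sm (x : V) (ω : Ω) : Prop := ∃ w ∈ C.D x ω, ∀ v ∈ C.D x ω, v ∈ span F {x, w}

/-- Full annihilator. -/
def Big (x : V) (ω : Ω) : Prop := ∀ v, 𝔅 x v = 0 → v ∈ C.D x ω

/-- Totally singular annihilator of small codimension. -/
def Bad (x : V) (ω : Ω) : Prop := ¬ C.Sm x ω ∧ (∀ v ∈ C.D x ω, Q v = 0) ∧
  finrank F V ≤ finrank F (span F (C.D x ω : Set V)) + 4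

variable {C} [Finite Ω] {r : ℕ} {x : V}

theorem OH.r_pos (h : C.OH Ω r) : 1 ≤ r := by
  have := one_lt_q F
  have := h.hr
  omega

theorem OH.fr (h : C.OH Ω r) (hx0 : x ≠ 0) :
    Nat.card F ^ finrank F (C.R ⊔ span F {x} : Submodule F V) = r + 1 := by
  rw [h.hR, bot_sup_eq, finrank_span_singleton hx0, pow_one, h.hr]

theorem OH.low (h : C.OH Ω r) (hx : C.Pt x) {φ : ℕ → Prop} {c : F} {v : V} (hv : v ∈ Lv Q x c)
    {μ : ℕ} (hμ : μ ≤ (C.ob Ω x φ v).ncard) : ∀ v' ∈ Lv Q x c, μ ≤ (C.ob Ω x φ v').ncard := by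
  intro v' hv'
  obtain ⟨g, h1, rfl⟩ := h.tr1 x v v' hv.2.1 hv'.2.1 (by rw [hv.1, hv'.1]) (by rw [hv.2.2, hv'.2.2])
  exact hμ.trans (ob_le_fix hx h1 φ v)

theorem OH.cnt (h : C.OH Ω r) (hx : C.Pt x) (hx0 : x ≠ 0) {φ : ℕ → Prop} {c : F} {v : V}
    (hv : v ∈ Lv Q x c) {μ : ℕ} (hμ : μ ≤ (C.ob Ω x φ v).ncard) :
    μ * (Lv Q x c).ncard ≤ (r + 1) * {ω : Ω | φ (Nat.card (C.D x ω))}.ncard :=
  h.fr hx0 ▸ qcount hx φ (h.low hx hv hμ)

theorem OH.cnt_ref (h : C.OH Ω r) (hx : C.Pt x) (hx0 : x ≠ 0) {φ : ℕ → Prop} {c : F} {v : V}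
    (hv : v ∈ Lv Q x c) {μ δ : ℕ} (hμ : μ ≤ (C.ob Ω x φ v).ncard)
    (hφ : ∀ k, φ k → k ≤ (r + 1) * δ) :
    δ * (μ * (Lv Q x c).ncard) + (r + 1) * {ω : Ω | φ (Nat.card (C.D x ω))}.ncard ≤
      δ * ((r + 1) * {ω : Ω | φ (Nat.card (C.D x ω))}.ncard) := by
  have := qcount_ref hx φ (δ := δ) (T := Lv Q x c) (by rwa [h.fr hx0])
    (fun v hv => by rw [h.hR, bot_sup_eq]; exact hv.2.1) (h.low hx hv hμ)
  rwa [h.fr hx0] at this

theorem OH.L (h : C.OH Ω r) (hx : C.Pt x) (hx0 : x ≠ 0) (c : F) :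
    (r + 1) * (r * (r + 2) * (r + 1) ^ (finrank F V - 5)) ≤ (Lv Q x c).ncard :=
  le_ncard_Lv C.nondeg h.h7 h.hr hx.q_eq hx0 c

theorem OH.cntA (h : C.OH Ω r) (hx : C.Pt x) (hx0 : x ≠ 0) {φ : ℕ → Prop} {c : F} {v : V}
    (hv : v ∈ Lv Q x c) {μ : ℕ} (hμ : μ ≤ (C.ob Ω x φ v).ncard) :
    μ * (r * (r + 2) * (r + 1) ^ (finrank F V - 5)) ≤ {ω : Ω | φ (Nat.card (C.D x ω))}.ncard :=
  core_le r.succ_pos (h.cnt hx hx0 hv hμ) (h.L hx hx0 c)

theorem OH.L_plus (h : C.OH Ω r) (hx : C.Pt x) (hx0 : x ≠ 0) {S : Submodule F V}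
    (hS : ∀ v ∈ S, Q v = 0) (hd : finrank F V = 2 * finrank F S) :
    (r + 1) * ((r + 1) ^ 2 * (r + 1) ^ (finrank F V - 5)) ≤ (Lv Q x 0).ncard := by
  have h7 := h.h7
  obtain ⟨k, hk⟩ : ∃ k, finrank F S = k + 4 := ⟨finrank F S - 4, by omega⟩
  have h1 := ncard_Lv_of_ts C.nondeg (k := k + 2) (by omega) hS hk hx.q_eq hx0
  rw [show finrank F V - 5 = 2 * k + 3 by omega]
  rw [h.hr] at h1
  have h2 := h.r_pos
  have h3 : (r + 1) ^ 1 ≤ (r + 1) ^ (k + 2 + 1) := Nat.pow_le_pow_right r.succ_pos (by omega)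
  have h4 : (r + 1) ^ (k + 2 + 2) = (r + 1) ^ (k + 2 + 1) * (r + 1) := pow_succ _ _
  have h5 : (r + 1) * ((r + 1) ^ 2 * (r + 1) ^ (2 * k + 3)) = (r + 1) ^ (2 * (k + 2) + 2) := by ring
  rw [h5]
  nlinarith

variable {p : ℕ} [hp : Fact p.Prime] [CharP F p]

theorem char_dvd_card : p ∣ Nat.card F := by
  have := Fintype.ofFinite F
  rw [Nat.card_eq_fintype_card, ← CharP.cast_eq_zero_iff F p]
  exact FiniteField.cast_card_eq_zero F

theorem OH.good_ns (h : C.OH Ω r) (hr : 3 ≤ r) (hx : C.Pt x) (hx0 : x ≠ 0) {c : F} (hc : c ≠ 0)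
    {v : V} (hv : v ∈ Lv Q x c) : (C.ob Ω x (fun _ => True) v).ncard < p := by
  have := C.finite_V
  by_contra hlt
  push Not at hlt
  set S := {s | ∃ t : F, t ≠ 0 ∧ t * t * c = s} with hS
  have h1 := mul_ncard_le_of_fiber (fun v => Q v) {v | 𝔅 x v = 0 ∧ v ∉ span F {x}} S
    (k := (r + 1) * (r * (r + 2) * (r + 1) ^ (finrank F V - 5))) fun s _ =>
      (h.L hx hx0 s).trans (Set.ncard_le_ncard fun v hv => ⟨⟨hv.1, hv.2.1⟩, hv.2.2⟩)
  have h2 := qcount (Ω := Ω) hx (fun _ => True) (μ := p)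
    (T := {v | v ∈ {v | 𝔅 x v = 0 ∧ v ∉ span F {x}} ∧ Q v ∈ S}) (by
      rintro v' ⟨⟨k1, k2⟩, t, ht, k3⟩
      obtain ⟨g, hg⟩ := h.tr0 x (t⁻¹ • x) hx0 (smul_ne_zero (inv_ne_zero ht) hx0)
        (by rw [q_smul, hx.q_eq, mul_zero])
      have k4 : g.1 (t • x) = x := by rw [map_smul, hg, smul_smul, mul_inv_cancel₀ ht, one_smul]
      refine h.low hx (c := Q v') (v := t • g.1 v) ⟨?_, fun k5 => hv.2.1 ?_, ?_⟩
        (hlt.trans (ob_le hx ht hg _ v)) v' ⟨k1, k2, rfl⟩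
      · rw [map_smul, ← k4, B_map, qB_smul_left, hv.1]; simp
      · obtain ⟨s, hs⟩ := mem_span_singleton.1 ((smul_mem_iff _ ht).1 k5)
        rw [← k4, ← map_smul, smul_smul] at hs
        exact mem_span_singleton.2 ⟨_, g.1.injective hs⟩
      · rw [q_smul, q_map, hv.2.2, k3])
  rw [h.fr hx0] at h2
  have h3 : p * S.ncard * (r * (r + 2) * (r + 1) ^ (finrank F V - 5)) ≤ Nat.card Ω := by
    refine core_le r.succ_pos (L := (r + 1) * (r * (r + 2) * (r + 1) ^ (finrank F V - 5))) ?_ le_rfl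
    calc _ = p * ((r + 1) * (r * (r + 2) * (r + 1) ^ (finrank F V - 5)) * S.ncard) := by ring
      _ ≤ _ := (Nat.mul_le_mul_left _ h1).trans (h2.trans (Nat.mul_le_mul_left _ (ncard_le_card' _)))
  obtain ⟨h4, h5⟩ := card_units_le c hc
  rw [← hS, h.hr] at h4 h5
  have hd : p ∣ r + 1 := h.hr ▸ char_dvd_card
  refine arith_A h3 h.n1 ?_
  by_cases hp2 : p = 2
  · subst hp2
    have h6 : r ≤ S.ncard := by
      have := h5 (by exact_mod_cast CharP.cast_eq_zero F 2)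
      omega
    obtain ⟨s, rfl⟩ : ∃ s, r = s + 3 := ⟨r - 3, by omega⟩
    calc _ ≤ (s + 3) * (2 * (s + 3) * ((s + 3) * (s + 3 + 2))) := by ring_nf; omega
      _ ≤ _ := by gcongr
  · have h6 : r ≤ 2 * S.ncard := by omega
    have h7 : 3 ≤ p := by have := hp.out.two_le; omega
    have h8 : 2 * ((r + 1) ^ 4 + (r + 1)) ≤ r * (p * r * (r * (r + 2))) := by
      rcases Nat.lt_or_ge r 5 with h9 | h9
      · interval_cases r
        · have := (Nat.prime_dvd_prime_iff_eq hp.out Nat.prime_two).1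
            (hp.out.dvd_of_dvd_pow (show p ∣ 2 ^ 2 from hd))
          omega
        · obtain rfl := (Nat.prime_dvd_prime_iff_eq hp.out Nat.prime_five).1 hd
          norm_num
      · obtain ⟨s, rfl⟩ : ∃ s, r = s + 5 := ⟨r - 5, by omega⟩
        calc _ ≤ (s + 5) * (3 * (s + 5) * ((s + 5) * (s + 5 + 2))) := by ring_nf; omega
          _ ≤ _ := by gcongr
    have h9 : r * (p * r * (r * (r + 2))) ≤ 2 * (r * (p * S.ncard * (r * (r + 2)))) :=
      calc _ ≤ r * (p * (2 * S.ncard) * (r * (r + 2))) := by gcongr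
        _ = _ := by ring
    omega

theorem OH.one_bad (h : C.OH Ω r) (hr : r ≤ 2) (hx : C.Pt x) (hx0 : x ≠ 0) {c c' : F} {v v' : V}
    (hv : v ∈ Lv Q x c) (hv' : v' ∈ Lv Q x c') (h1 : p ≤ (C.ob Ω x (fun _ => True) v).ncard)
    (h2 : p ≤ (C.ob Ω x (fun _ => True) v').ncard) (ω : Ω) : c = c' := by
  have := C.finite_V
  by_contra hne
  have hd : p ∣ r + 1 := h.hr ▸ char_dvd_card
  have hr1 := h.r_pos
  interval_cases r
  · obtain rfl := (Nat.prime_dvd_prime_iff_eq hp.out Nat.prime_two).1 hd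
    have h3 := qcount_two (Ω := Ω) hx (fun _ => True) (μ₁ := 2) (μ₂ := 1)
      (T₁ := {v | 𝔅 x v = 0 ∧ v ∉ span F {x}}) (T₂ := span F {x})
      (Set.disjoint_left.2 fun v hv => hv.2) (fun u hu => ?_) fun u hu =>
        (Set.ncard_pos (Set.toFinite _)).2 ⟨_, mk_mem_ob (ω := ω) trivial
          (mem_D_of_mem ω (mem_sup_right hu))⟩
    · have h4 : {v | 𝔅 x v = 0 ∧ v ∉ span F {x}}.ncard + (span F {x} : Set V).ncard =
          ((ofQuad Q).perp (span F {x}) : Set V).ncard := by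
        rw [← Set.ncard_union_eq (Set.disjoint_left.2 fun v hv => hv.2)]
        congr 1
        ext u
        simp only [Set.mem_union, Set.mem_ofPred_eq, SetLike.mem_coe, PQ.mem_perp_span_singleton]
        refine ⟨fun k => k.elim And.left fun k => ?_, fun k => by tauto⟩
        obtain ⟨t, rfl⟩ := mem_span_singleton.1 k
        rw [map_smul, hx.self_eq, smul_zero]
      have h5 := (ofQuad Q).finrank_perp C.nondeg (span F {x})
      have h7 := h.h7
      rw [h.fr hx0] at h3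
      rw [ncard_submodule, finrank_span_singleton hx0, h.hr] at h3 h4
      rw [finrank_span_singleton hx0] at h5
      rw [ncard_submodule, h.hr,
        show finrank F ((ofQuad Q).perp (span F {x})) = finrank F V - 5 + 4 by omega, pow_add] at h4
      have h6 := (h.n2 rfl).1
      have h8 := ncard_le_card' {ω : Ω | (fun _ => True) (Nat.card (C.D x ω))}
      norm_num at h3 h4 h6 h8 ⊢
      omega
    · by_cases hc : Q u = c
      · exact h.low hx hv h1 u ⟨hu.1, hu.2, hc⟩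
      · refine h.low hx hv' h2 u ⟨hu.1, hu.2, ?_⟩
        rcases eq_zero_or_one_of_card h.hr c with k1 | k1 <;>
        rcases eq_zero_or_one_of_card h.hr c' with k2 | k2 <;>
        rcases eq_zero_or_one_of_card h.hr (Q u) with k3 | k3 <;> simp_all
  · obtain rfl := (Nat.prime_dvd_prime_iff_eq hp.out Nat.prime_three).1 hd
    have h3 := qcount_two (Ω := Ω) hx (fun _ => True)
      (Set.disjoint_left.2 fun v k1 k2 => hne (k1.2.2.symm.trans k2.2.2))
      (h.low hx hv h1) (h.low hx hv' h2)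
    have h4 := h.L hx hx0 c
    have h5 := h.L hx hx0 c'
    have h6 := h.n3 rfl
    have h8 := ncard_le_card' {ω : Ω | (fun _ => True) (Nat.card (C.D x ω))}
    rw [h.fr hx0] at h3
    norm_num at h3 h4 h5 h6 h8
    omega

theorem OH.lemI (h : C.OH Ω r) (hx : C.Pt x) {ω : Ω} {v : V} (hv : v ∈ C.D x ω)
    (hlt : (C.ob Ω x (fun _ => True) v).ncard < p) :
    C.Sm x ω ∨ ∀ a ∈ (ofQuad Q).perp (span F {x, v}), a ∈ C.D x ω := by
  by_cases hS : C.Sm x ω
  · exact Or.inl hS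
  obtain ⟨u, hu, hu'⟩ : ∃ u ∈ C.D x ω, u ∉ span F {x, v} := by
    by_contra h'
    push Not at h'
    exact hS ⟨v, hv, h'⟩
  have h2 := finrank_two_le (F := F) x v
  have h7 := h.h7
  have hinv : ∀ y a, Q y = 0 → y ∈ (ofQuad Q).perp (span F {x, v}) →
      a ∈ (ofQuad Q).perp (span F {x, v}) → 𝔅 y a = 0 → ∀ u ∈ C.D x ω, (C.ρ y a).1 u ∈ C.D x ω := by
    intro y a h3 h4 h5 h6 u hu
    obtain ⟨k1, k2⟩ := mem_perp_pair.1 h4
    obtain ⟨k3, k4⟩ := mem_perp_pair.1 h5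
    exact D_of_rel hx (ρ_fix (pt_of h.hR h3) (dir_of h.hR h6) (qz k1) (qz k3))
      (qgood hx trivial hv hlt (pt_of h.hR h3) (dir_of h.hR h6) (qz k1) (qz k2) (qz k3) (qz k4)) hu
  exact Or.inr (perp_le_of_inv (h.hR ▸ bot_le) (q_exists_sing C.nondeg (by omega)) hinv
    (line_of_inv (h.hR ▸ bot_le) (by omega) hinv) hu hu')

theorem OH.of_good (h : C.OH Ω r) (hx : C.Pt x) {ω : Ω} {v : V} (hv : v ∈ C.D x ω)
    (hv' : v ∉ span F {x}) (hlt : (C.ob Ω x (fun _ => True) v).ncard < p) :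
    C.Sm x ω ∨ C.Big x ω := by
  refine (h.lemI hx hv hlt).elim Or.inl fun h1 => ?_
  have h7 := h.h7
  obtain ⟨z, z', k1, k2, k3, k4, k5⟩ := q_exists_hyp C.nondeg (U := span F {x, v}) (by
    have := finrank_two_le (F := F) x v; omega)
  have k6 : 𝔅 (z + Q v • z') z' = 1 := by
    rw [(ofQuad Q).B_add_left, qB_smul_left, qB_self, k2, qB_comm, k3]; simp
  have k7 : z + Q v • z' ∈ Lv Q x (Q v) := ⟨(mem_perp_pair.1 (add_mem k4 (smul_mem _ _ k5))).1,
    fun k => by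
      obtain ⟨t, ht⟩ := mem_span_singleton.1 k
      rw [← ht, qB_smul_left, (mem_perp_pair.1 k5).1] at k6
      simp at k6,
    by rw [q_add, q_smul, k1, k2, map_smul, qB_comm, k3]; simp⟩
  refine (h.lemI hx (h1 _ (add_mem k4 (smul_mem _ (Q v) k5))) (lt_of_not_ge fun k8 => ?_)).imp_right
    fun h2 s hs => ?_
  · exact absurd (h.low hx k7 k8 v ⟨D_orth hx hv, hv', rfl⟩) (not_le.2 hlt)
  · have k8 := h2 (s - 𝔅 (z + Q v • z') s • z') (mem_perp_pair.2
      ⟨by simp [hs, (mem_perp_pair.1 k5).1], by rw [map_sub, map_smul, k6]; simp⟩)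
    simpa using add_mem k8 (h1 _ (smul_mem _ (𝔅 (z + Q v • z') s) k5))

theorem OH.images (h : C.OH Ω r) (hx : C.Pt x) {ω : Ω} {φ : ℕ → Prop}
    (h1 : φ (Nat.card (C.D x ω))) {v u : V} (hv : v ∈ C.D x ω) (hu : u ∈ C.D x ω)
    (hu' : u ∉ span F {x, v}) {S : Submodule F V} (hS : ∀ w ∈ C.D x ω, w ∈ S) {j : ℕ}
    (hj : finrank F S + 3 + j ≤ finrank F V) : (r + 1) ^ j ≤ (C.ob Ω x φ v).ncard := by
  have h7 := h.h7
  obtain ⟨z, k1, k2, k3⟩ := q_exists_sing C.nondeg (U := span F {x, v}) (by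
    have := finrank_two_le (F := F) x v; omega)
  obtain ⟨y, k4, k5, k6⟩ := exists_sing_not_orth C.nondeg k1 k2 k3 hu'
  have k7 := qimages hx h1 hv hu hS (pt_of h.hR (q_sing.1 k4)) (mem_perp_pair.1 k5).1
    (mem_perp_pair.1 k5).2 k6
  rw [h.hR, finrank_bot, add_zero, h.hr] at k7
  exact le_of_pow_le_mul (by have := h.r_pos; omega) k7 hj

theorem exists_of_not_sm {ω : Ω} (hS : ¬ C.Sm x ω) {v : V} (hv : v ∈ C.D x ω) :
    ∃ u ∈ C.D x ω, u ∉ span F {x, v} := by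
  by_contra h'
  push Not at h'
  exact hS ⟨v, hv, h'⟩

theorem exists_of_not_sm' {ω : Ω} (hS : ¬ C.Sm x ω) : ∃ u ∈ C.D x ω, u ∉ span F {x} := by
  obtain ⟨u, h1, h2⟩ := exists_of_not_sm hS (zero_mem _)
  exact ⟨u, h1, fun h => h2 (span_mono (by simp) h)⟩

theorem OH.cls_ts (h : C.OH Ω r) (hx : C.Pt x) (hx0 : x ≠ 0) {ω : Ω} (hS : ¬ C.Sm x ω)
    (hts : ∀ v ∈ C.D x ω, Q v = 0) : C.Bad x ω := by
  refine ⟨hS, hts, le_of_not_gt fun hk => ?_⟩
  obtain ⟨v, hv, hv'⟩ := exists_of_not_sm' hS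
  obtain ⟨u, hu, hu'⟩ := exists_of_not_sm hS hv
  have hL : v ∈ Lv Q x 0 := ⟨D_orth hx hv, hv', hts v hv⟩
  have hsp : ∀ w ∈ C.D x ω, w ∈ span F (C.D x ω : Set V) := fun w hw => subset_span hw
  have hS' := ts_span_of_add (F := F) hts
  have h2k := finrank_le_of_ts C.nondeg hS'
  have h7 := h.h7
  have hr := h.r_pos
  have h2 := h.images hx (φ := fun _ => True) trivial hv hu hu' hsp (j := 2) (by omega)
  rcases Nat.lt_or_ge 1 r with hr2 | hr2
  · refine arith_A ((h.cntA hx hx0 hL h2).trans (ncard_le_card' _)) h.n1 ?_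
    obtain ⟨s, rfl⟩ : ∃ s, r = s + 2 := ⟨r - 2, by omega⟩
    ring_nf; omega
  obtain rfl : r = 1 := by omega
  obtain ⟨hN, hev⟩ := h.n2 rfl
  by_cases h6 : finrank F (span F (C.D x ω : Set V)) + 6 ≤ finrank F V
  · have h3 := (h.cntA hx hx0 hL (h.images hx (φ := fun _ => True) trivial hv hu hu' hsp (j := 3)
      (by omega))).trans (ncard_le_card' _)
    norm_num at h3
    omega
  obtain ⟨m, hm⟩ := hev
  by_cases h3 : finrank F (span F (C.D x ω : Set V)) = 3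
  · have h4 := h.cnt_ref hx hx0 hL (δ := 4) (h.images hx (φ := fun k => k ≤ 8)
      (by simpa [h3, h.hr] using card_le_pow hsp) hv hu hu' hsp (j := 2) (by omega))
      fun k hk => hk
    have h5 := h.L hx hx0 0
    have h8 := ncard_le_card' {ω : Ω | (fun k => k ≤ 8) (Nat.card (C.D x ω))}
    norm_num at h4 h5 h8
    omega
  · have h4 := core_le (by norm_num) (h.cnt hx hx0 hL h2) (h.L_plus hx hx0 hS' (by omega))
    have h8 := ncard_le_card' {ω : Ω | (fun _ => True) (Nat.card (C.D x ω))}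
    norm_num at h4 h8
    omega

omit hp in
theorem OH.cls (h : C.OH Ω r) (hx : C.Pt x) (hx0 : x ≠ 0) (ω : Ω) :
    C.Sm x ω ∨ C.Big x ω ∨ C.Bad x ω := by
  obtain ⟨p, hp⟩ := CharP.exists F
  have hpp : Fact p.Prime := ⟨CharP.char_is_prime F p⟩
  by_cases hS : C.Sm x ω
  · exact Or.inl hS
  by_cases hg : ∃ v ∈ C.D x ω, v ∉ span F {x} ∧ (C.ob Ω x (fun _ => True) v).ncard < p
  · obtain ⟨v, h1, h2, h3⟩ := hg
    exact (h.of_good hx h1 h2 h3).imp_right Or.inl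
  push Not at hg
  by_cases hts : ∀ v ∈ C.D x ω, Q v = 0
  · exact Or.inr (Or.inr (h.cls_ts hx hx0 hS hts))
  exfalso
  push Not at hts
  obtain ⟨v, hv, hv0⟩ := hts
  have hv' : v ∉ span F {x} := fun k => by
    obtain ⟨t, rfl⟩ := mem_span_singleton.1 k
    exact hv0 (by rw [q_smul, hx.q_eq, mul_zero])
  have hL : v ∈ Lv Q x (Q v) := ⟨D_orth hx hv, hv', rfl⟩
  by_cases hr : 3 ≤ r
  · exact absurd (hg v hv hv') (not_le.2 (h.good_ns hr hx hx0 hv0 hL))
  have hall : ∀ u ∈ C.D x ω, u ∉ span F {x} → Q u = Q v := fun u hu hu' =>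
    h.one_bad (by omega) hx hx0 ⟨D_orth hx hu, hu', rfl⟩ hL (hg u hu hu') (hg v hv hv') ω
  have hall' : ∀ u ∈ C.D x ω, ∀ w ∈ C.D x ω, u ∉ span F {x, w} → w ∉ span F {x} →
      𝔅 u w = -Q v ∧ 𝔅 u w = Q v := by
    intro u hu w hw hu' hw'
    have k0 : ∀ s, s ∈ span F {x} → s ∈ span F {x, w} := fun s hs => span_mono (by simp) hs
    have k1 : w ∈ span F {x, w} := subset_span (by simp)
    have k2 := hall u hu fun k => hu' (k0 _ k)
    have k3 := hall _ (add_mem hu hw) fun k => hu' (by simpa using sub_mem (k0 _ k) k1)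
    have k4 := hall _ (sub_mem hu hw) fun k => hu' (by simpa using add_mem (k0 _ k) k1)
    rw [q_add, k2, hall w hw hw'] at k3
    rw [q_sub, k2, hall w hw hw'] at k4
    exact ⟨by linear_combination k3, by linear_combination -k4⟩
  obtain ⟨u, hu, hu'⟩ := exists_of_not_sm hS hv
  have h2 : (2 : F) = 0 := by
    obtain ⟨k1, k2⟩ := hall' u hu v hv hu' hv'
    exact (mul_eq_zero.1 (show 2 * Q v = 0 by linear_combination k1 - k2)).resolve_right hv0
  have hr1 : r = 1 := by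
    have k1 : p ∣ 2 := (CharP.cast_eq_zero_iff F p 2).1 (by exact_mod_cast h2)
    obtain rfl := (Nat.prime_dvd_prime_iff_eq hpp.out Nat.prime_two).1 k1
    have k2 : 2 ∣ r + 1 := h.hr ▸ char_dvd_card
    have := h.r_pos
    omega
  subst hr1
  obtain ⟨hN, m, hm⟩ := h.n2 rfl
  have hsp : ∀ s ∈ C.D x ω, s ∈ span F {x, v, u} := by
    intro s hs
    by_contra hs'
    have k0 : ∀ w ∈ span F {x, v, u}, s ∉ span F {x, w} := fun w hw k =>
      hs' ((span_le.2 (by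
        rintro _ (rfl | rfl)
        exacts [subset_span (by simp), hw])) k)
    have k1 : v ∈ span F {x, v, u} := subset_span (by simp)
    have k2 : u ∈ span F {x, v, u} := subset_span (by simp)
    have k3 : ∀ s, s ∈ span F {x} → s ∈ span F {x, v} := fun s hs => span_mono (by simp) hs
    have k4 : v ∈ span F {x, v} := subset_span (by simp)
    have k5 := (hall' s hs v hv (k0 v k1) hv').2
    have k6 := (hall' s hs u hu (k0 u k2) fun k => hu' (k3 _ k)).2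
    have k7 := (hall' s hs _ (add_mem hu hv) (k0 _ (add_mem k2 k1))
      fun k => hu' (by simpa using sub_mem (k3 _ k) k4)).2
    rw [map_add, k5, k6] at k7
    exact hv0 (by linear_combination k7)
  have h3 := finrank_three_le (F := F) x v u
  have h7 := h.h7
  have h4 := h.cnt_ref hx hx0 hL (δ := 4) (h.images hx (φ := fun k => k ≤ 8)
    ((card_le_pow hsp).trans (by
      rw [h.hr]; exact Nat.pow_le_pow_right (n := 2) (by norm_num) h3)) hv hu hu' hsp (j := 2)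
      (by omega)) fun k hk => hk
  have h5 := h.L hx hx0 (Q v)
  have h8 := ncard_le_card' {ω : Ω | (fun k => k ≤ 8) (Nat.card (C.D x ω))}
  norm_num at h4 h5 h8
  omega

end Ctx

end CfsgLib.MinIdx
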