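import Mathlib
import Cfsg.Agent.Lib.MinIdx.OClass

/-!
Exclusion of the exceptional orbits in dimensions seven and eight.
-/

set_option autoImplicit false
set_option linter.unusedSectionVars false

namespace CfsgLib.MinIdx

open CfsgLib.Forms CfsgLib.RootMax Module Submodule

universe u v

variable {F : Type u} [Field F] {V : Type v} [AddCommGroup V] [Module F V]
  {Q : QuadraticForm F V} [FiniteDimensional F V] [Finite F]

local notation "𝔅" => PQ.B (ofQuad Q)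

theorem exists_mul_self_ne_one (h : 4 ≤ Nat.card F) : ∃ μ : F, μ ≠ 0 ∧ μ * μ ≠ 1 := by
  classical
  by_contra h'
  push Not at h'
  have := Fintype.ofFinite F
  have h1 : (Finset.univ : Finset F) ⊆ {0, 1, -1} := fun μ _ => by
    by_cases h0 : μ = 0
    · simp [h0]
    · rcases mul_self_eq_one_iff.1 (h' μ h0) with h2 | h2 <;> simp [h2]
  have h2 := (Finset.card_le_card h1).trans Finset.card_le_three
  rw [Finset.card_univ, ← Nat.card_eq_fintype_card] at h2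
  omega

theorem B_span_span {A A' : Set V} (g g' : V ≃ₗ[F] V) (h : ∀ a ∈ A, ∀ b ∈ A', 𝔅 (g a) (g' b) = 0)
    {a b : V} (ha : a ∈ span F A) (hb : b ∈ span F A') : 𝔅 (g a) (g' b) = 0 := by
  induction ha using span_induction with
  | mem a ha =>
    induction hb using span_induction with
    | mem b hb => exact h a ha b hb
    | zero => simp
    | add b c _ _ h1 h2 => simp [h1, h2]
    | smul t b _ h1 => simp [h1]
  | zero => simp
  | add b c _ _ h1 h2 => simp [h1, h2]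
  | smul t b _ h1 => simp [h1]

namespace Ctx

variable {C : Ctx (ofQuad Q)} {Ω : Type*} [MulAction C.K Ω] {r : ℕ} {x : V}

theorem D_of_map {g : C.K} {v : V} {ω : Ω} (hx : C.Pt x) (h : v ∈ C.D (g.1 x) (g • ω)) :
    (g⁻¹).1 v ∈ C.D x ω := by
  have := D_conj g⁻¹ (hx.map g) h
  rwa [inv_apply', inv_smul_smul] at this

theorem Big.map {ω : Ω} (h : C.Big x ω) (hx : C.Pt x) (g : C.K) : C.Big (g.1 x) (g • ω) := by
  intro v hv
  obtain ⟨v, rfl⟩ := g.1.surjective v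
  exact D_conj g hx (h v (by rwa [B_map] at hv))

theorem B_eq_zero_of_mem_D {U : Submodule F V} {ω : Ω} (h : ∀ a ∈ U, a ∈ C.A x ω) {v : V}
    (hv : v ∈ C.D x ω) : v ∈ (ofQuad Q).perp U := fun a ha =>
  eq_zero_of_forall_mul_mem_κ fun t => by
    rw [← qB_smul_left]; exact mem_D.1 hv _ (h _ (smul_mem _ _ ha))

theorem B_eq_zero_of_mem_A {U : Submodule F V} {ω : Ω} (h : ∀ v ∈ U, v ∈ C.D x ω) {a : V}
    (ha : a ∈ C.A x ω) {v : V} (hv : v ∈ U) : 𝔅 a v = 0 :=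
  eq_zero_of_forall_mul_mem_κ fun t => by
    simpa using mem_D.1 (h _ (smul_mem _ t hv)) a ha

theorem TyF.D_le {ω : Ω} (hR : C.R = ⊥) (h : C.TyF x ω) {v : V} (hv : v ∈ C.D x ω) :
    v ∈ span F {x} := by
  rw [← (ofQuad Q).perp_perp C.nondeg (span F {x})]
  refine B_eq_zero_of_mem_D (fun a ha => ?_) hv
  have := dir_of hR ((ofQuad Q).mem_perp_span_singleton.1 ha)
  exact qmem_A.2 ⟨this, qtyF.1 h a this⟩

theorem tyF_of_D {ω : Ω} (h : ∀ v ∈ C.D x ω, v ∈ span F {x}) : C.TyF x ω :=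
  qtyF.2 fun a ha => (qmem_A.1 (mem_A_of_orth fun v hv => by
    obtain ⟨t, rfl⟩ := mem_span_singleton.1 (h v hv)
    rw [map_smul, qz ha.2, smul_zero])).2

theorem mem_of_ρ_mem {z a u : V} (hz : C.Pt z) (ha : C.Dir z a) {S : Submodule F V} (hu : u ∈ S)
    (hzu : 𝔅 z u ≠ 0) (h : (C.ρ z a).1 u ∈ S) :
    a ∈ S ⊓ (ofQuad Q).perp (span F {z}) ⊔ span F {z} := by
  have h4 := S.sub_mem hu h
  rw [ρ_apply hz ha] at h4
  refine (smul_mem_iff _ hzu).1 (mem_sup_one.2 ⟨_, ⟨h4, ?_⟩, 𝔅 a u - Q a * 𝔅 z u, by module⟩)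
  rw [SetLike.mem_coe, PQ.mem_perp_span_singleton]
  simp [hz.self_eq, ha.2]

theorem lemG (hx : C.Pt x) {z u : V} (hz : C.Pt z) (hzx : 𝔅 z x = 0) {ω : Ω}
    {S S' : Submodule F V} (hS : ∀ v ∈ C.D x ω, v ∈ S) (hu : u ∈ C.D x ω) (hzu : 𝔅 z u ≠ 0)
    (hS' : ∀ v ∈ C.D z ω, v ∈ S') : (ofQuad Q).perp (S' ⊔ span F {x}) ≤
      S ⊓ (ofQuad Q).perp (span F {z}) ⊔ span F {z} := by
  intro a ha
  obtain ⟨h1, h2⟩ := mem_perp_one.1 ha
  obtain ⟨h3, h4⟩ := qmem_A.1 (mem_A_of_orth (C := C) (x := z) (ω := ω) (a := a)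
    fun v hv => qz (h1 v (hS' v hv)))
  have h5 := D_fix hx (ρ_fix hz h3 hzx (qz h2)) hu
  rw [h4] at h5
  exact mem_of_ρ_mem hz h3 (hS u hu) hzu (hS _ h5)

variable [Finite Ω]

theorem OH.big_card (h : C.OH Ω r) (hx0 : x ≠ 0) {ω : Ω} (hB : C.Big x ω) :
    (r + 1) ^ 6 ≤ Nat.card (C.D x ω) ∧
      (r + 1) ^ 3 * (r + 1) ^ (finrank F V - 5) ≤ {ω' | C.rel Ω x ω' ω}.ncard := by
  have h1 := pow_le_card (A := C.D x ω) (S := (ofQuad Q).perp (span F {x}))
    fun v hv => hB v ((ofQuad Q).mem_perp_span_singleton.1 hv)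
  have h2 := (ofQuad Q).finrank_perp C.nondeg (span F {x})
  have h7 := h.h7
  rw [finrank_span_singleton hx0] at h2
  rw [h.hr] at h1
  refine ⟨(Nat.pow_le_pow_right r.succ_pos (by omega)).trans h1, ?_⟩
  rw [qcard_D, h.fr hx0, show finrank F ((ofQuad Q).perp (span F {x})) =
    (3 + (finrank F V - 5)) + 1 by omega, pow_succ', pow_add] at h1
  exact Nat.le_of_mul_le_mul_left h1 r.succ_pos

theorem OH.two_big (h : C.OH Ω r) (h1 : 2 * ((r + 1) ^ 3 * (r + 1) ^ (finrank F V - 5))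
    ≤ Nat.card Ω) : False := by
  have hr := h.r_pos
  rcases Nat.lt_or_ge 1 r with h2 | h2
  · have h3 := h.n1
    obtain ⟨s, rfl⟩ : ∃ s, r = s + 2 := ⟨r - 2, by omega⟩
    have h4 : (s + 2 + 1) ^ 4 + (s + 2 + 1) ≤ (s + 2) * (2 * (s + 2 + 1) ^ 3) := by ring_nf; omega
    nlinarith [Nat.mul_le_mul_right ((s + 2 + 1) ^ (finrank F V - 5)) h4,
      Nat.mul_le_mul_left (s + 2) h1]
  · obtain rfl : r = 1 := by omega
    have := (h.n2 rfl).1
    norm_num at h1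
    omega

theorem OH.rel_of_big (h : C.OH Ω r) (hx0 : x ≠ 0) {ω ω' : Ω} (hB : C.Big x ω)
    (hB' : C.Big x ω') : C.rel Ω x ω' ω := by
  by_contra hne
  have h1 := ncard_add_ncard_le (S := {a | C.rel Ω x a ω}) (T := {a | C.rel Ω x a ω'})
    (Set.disjoint_left.2 fun a k1 k2 => hne ((C.rel Ω x).trans ((C.rel Ω x).symm k2) k1))
  have h2 := (h.big_card hx0 hB).2
  have h3 := (h.big_card hx0 hB').2
  exact h.two_big (by omega)

theorem OH.bad_dim (h : C.OH Ω r) {ω : Ω} (hB : C.Bad x ω) :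
    finrank F V = finrank F (span F (C.D x ω : Set V)) + 4 ∧ finrank F V ≤ 8 := by
  have h1 := finrank_le_of_ts C.nondeg (ts_span_of_add (F := F) hB.2.1)
  have h2 := hB.2.2
  have h3 := h.h7
  omega

theorem OH.not_big (h : C.OH Ω r) (hx : C.Pt x) (hx0 : x ≠ 0) {ω : Ω} (hB : C.Bad x ω) {z : V}
    (hz : C.Pt z) (hz0 : z ≠ 0) (ω' : Ω) : ¬ C.Big z ω' := by
  intro hT
  obtain ⟨g, rfl⟩ := h.tr0 z x hz0 hx0 (by rw [hx.q_eq, hz.q_eq])
  obtain ⟨h1, h2⟩ := h.big_card hx0 (hT.map hz g)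
  obtain ⟨h3, h4⟩ := h.bad_dim hB
  obtain ⟨v, hv, hv'⟩ := exists_of_not_sm' hB.1
  obtain ⟨u, hu, hu'⟩ := exists_of_not_sm hB.1 hv
  have hL : v ∈ Lv Q (g.1 z) 0 := ⟨D_orth hx hv, hv', hB.2.1 v hv⟩
  have hsp : ∀ w ∈ C.D (g.1 z) ω, w ∈ span F (C.D (g.1 z) ω : Set V) := fun w hw => subset_span hw
  have hr := h.r_pos
  have h5 := h.images hx (φ := fun k => k < (r + 1) ^ 6) ((card_le_pow hsp).trans_lt (by
    rw [h.hr]; exact Nat.pow_lt_pow_right (by omega) (by omega))) hv hu hu' hsp (j := 1) h3.ge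
  have h6 := ncard_add_ncard_le (S := {a | C.rel Ω (g.1 z) a (g • ω')})
    (T := {a : Ω | (fun k => k < (r + 1) ^ 6) (Nat.card (C.D (g.1 z) a))})
    (Set.disjoint_left.2 fun a k1 k2 => by
      rw [Set.mem_ofPred_eq, D_congr hx k1] at k2
      exact absurd h1 (not_le.2 k2))
  rcases Nat.lt_or_ge 1 r with h7 | h7
  · have h8 := h.cntA hx hx0 hL h5
    have h9 := h.n1
    obtain ⟨s, rfl⟩ : ∃ s, r = s + 2 := ⟨r - 2, by omega⟩
    have h10 : (s + 2 + 1) ^ 4 + (s + 2 + 1) ≤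
        (s + 2) * ((s + 2 + 1) ^ 3 + (s + 2 + 1) ^ 1 * ((s + 2) * (s + 2 + 2))) := by
      ring_nf; omega
    nlinarith [Nat.mul_le_mul_right ((s + 2 + 1) ^ (finrank F V - 5)) h10,
      Nat.mul_le_mul_left (s + 2) ((Nat.add_le_add h2 h8).trans h6)]
  · obtain rfl : r = 1 := by omega
    obtain ⟨m, hm⟩ := (h.n2 rfl).2
    have h8 := core_le (by norm_num) (h.cnt hx hx0 hL h5)
      (h.L_plus hx hx0 (ts_span_of_add hB.2.1) (by have := h.h7; omega))
    refine h.two_big ?_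
    norm_num at h2 h8 h6 ⊢
    omega

theorem OH.exists_orth (h : C.OH Ω r) {u : V} (hu : u ∉ span F {x}) :
    ∃ z, C.Pt z ∧ z ≠ 0 ∧ 𝔅 z x = 0 ∧ 𝔅 z u ≠ 0 := by
  have h7 := h.h7
  obtain ⟨z, k1, k2, k3⟩ := q_exists_sing C.nondeg (U := span F {x}) (by
    have := finrank_one_le (F := F) x; omega)
  obtain ⟨y, k4, k5, k6⟩ := exists_sing_not_orth C.nondeg k1 k2 k3 hu
  exact ⟨y, pt_of h.hR (q_sing.1 k4), (ofQuad Q).ne_zero_of_B_ne k6,
    qz ((ofQuad Q).mem_perp_span_singleton.1 k5), k6⟩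

theorem OH.not_bad_seven (h : C.OH Ω r) (hx : C.Pt x) (hx0 : x ≠ 0) {ω : Ω} (hB : C.Bad x ω)
    (h7 : finrank F V = 7) : False := by
  obtain ⟨u, hu, hu'⟩ := exists_of_not_sm' hB.1
  obtain ⟨z, hz, hz0, hzx, hzu⟩ := h.exists_orth hu'
  have hsp : ∀ w ∈ C.D x ω, w ∈ span F (C.D x ω : Set V) := fun w hw => subset_span hw
  have h1 := finrank_inf_perp_sup_le (hsp u hu) hzu
  have h2 := (h.bad_dim hB).1
  have h3 := finrank_one_le (F := F) x
  rcases h.cls hz hz0 ω with ⟨w, -, h4⟩ | h4 | h4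
  · have h5 := finrank_mono (lemG hx hz hzx hsp hu hzu h4)
    have h6 := (ofQuad Q).finrank_perp C.nondeg (span F {z, w} ⊔ span F {x})
    have h8 := finrank_sup_le (span F {z, w}) (span F {x})
    have h9 := finrank_two_le (F := F) z w
    omega
  · exact h.not_big hx hx0 hB hz hz0 ω h4
  · have h5 := lemG hx hz hzx hsp hu hzu (S' := span F (C.D z ω : Set V)) fun w hw => subset_span hw
    have h6 := (ofQuad Q).finrank_perp C.nondeg (span F (C.D z ω : Set V) ⊔ span F {x})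
    have h8 := finrank_sup_le (span F (C.D z ω : Set V)) (span F {x})
    have h9 := (h.bad_dim h4).1
    have h10 : x ∈ (ofQuad Q).perp (span F (C.D z ω : Set V) ⊔ span F {x}) := by
      rw [eq_of_le_of_finrank_le h5 (by omega)]
      exact mem_sup_left ⟨hsp x (by simpa using smul_mem_D x ω (1 : F)),
        (ofQuad Q).mem_perp_span_singleton.2 hzx⟩
    have h11 := PQ.TS.two_mul_finrank_le C.nondeg ((OrthE.ts_iff.2 (ts_span_of_add h4.2.1)).sup
      ((ofQuad Q).ts_span_singleton hx.1) ((span_singleton_le_iff_mem _ _).2 (mem_perp_one.1 h10).1))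
    have h12 := finrank_mono h5
    omega

theorem OH.dich (h : C.OH Ω r) (hx : C.Pt x) (hx0 : x ≠ 0) {ω : Ω} (hB : C.Bad x ω)
    (h8 : finrank F V = 8) {z : V} (hz : C.Pt z) (hz0 : z ≠ 0) (ω' : Ω) :
    (∀ v ∈ C.D z ω', v ∈ span F {z}) ∨ C.Bad z ω' := by
  rcases h.cls hz hz0 ω' with ⟨w, h1, h2⟩ | h1 | h1
  · refine Or.inl fun v hv => by_contra fun hv' => ?_
    obtain ⟨y, hy, hy0, hyz, hyv⟩ := h.exists_orth hv'
    obtain ⟨S, h3, h4⟩ : ∃ S : Submodule F V, (∀ v ∈ C.D y ω', v ∈ S) ∧ finrank F S ≤ 4 := by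
      rcases h.cls hy hy0 ω' with ⟨w', -, h4⟩ | h4 | h4
      · exact ⟨_, h4, (finrank_two_le y w').trans (by norm_num)⟩
      · exact absurd h4 (h.not_big hx hx0 hB hy hy0 ω')
      · exact ⟨span F (C.D y ω' : Set V), fun w hw => subset_span hw,
          by have := (h.bad_dim h4).1; omega⟩
    have h5 := finrank_mono (lemG hz hy hyz h2 hv hyv h3)
    have h6 := (ofQuad Q).finrank_perp C.nondeg (S ⊔ span F {z})
    have h7 := finrank_sup_le S (span F {z})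
    have h9 := finrank_inf_perp_sup_le (h2 v hv) hyv
    have h10 := finrank_two_le (F := F) z w
    have h11 := finrank_one_le (F := F) z
    omega
  · exact absurd h1 (h.not_big hx hx0 hB hz hz0 ω')
  · exact Or.inr h1

theorem OH.img (h : C.OH Ω r) (hx : C.Pt x) {S : Submodule F V} (hS : ∀ v ∈ S, Q v = 0)
    (h4 : 4 ≤ finrank F S) (hxS : x ∈ S) {w : V} (hw : w ∈ S) {J : Type} [Finite J] (ω : J → Ω)
    (hinj : ∀ j j', C.rel Ω x (ω j) (ω j') → j = j') {φ : ℕ → Prop}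
    (hφ : ∀ j, φ (Nat.card (C.D x (ω j)))) (hw' : ∀ j, w ∈ C.D x (ω j))
    (hsp : ∀ j, span F (C.D x (ω j) : Set V) = S) :
    (r + 2) * Nat.card J ≤ (C.ob Ω x φ w).ncard := by
  obtain ⟨u2, hu2, hu2'⟩ := exists_mem_notMem (W := S) (W' := span F {x, w})
    (by have := finrank_two_le (F := F) x w; omega)
  obtain ⟨u, hu, hu'⟩ := exists_mem_notMem (W := S) (W' := span F {x, w, u2})
    (by have := finrank_three_le (F := F) x w u2; omega)
  obtain ⟨y, hy, hyu, hy'⟩ := (ofQuad Q).exists_partner C.nondeg _ (q_sing.2 (hS u hu)) hu'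
    ((ofQuad Q).mem_perp'.1 ((ofQuad Q).mem_perp_span.2 (by
      rintro _ (rfl | rfl | rfl) <;> exact B_of_ts hS ‹_› hu)))
  have hyx : 𝔅 y x = 0 := hy' x (subset_span (by simp))
  have hyw : 𝔅 y w = 0 := hy' w (subset_span (by simp))
  have hyu2 : 𝔅 y u2 = 0 := hy' u2 (subset_span (by simp))
  have huy : 𝔅 u y = 1 := (qB_comm _ _).trans hyu
  have b := fun {s s' : V} => B_of_ts hS (u := s) (v := s')
  obtain ⟨y2, hy2, hy2u2, hy2'⟩ := (ofQuad Q).exists_partner C.nondeg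
    (span F {x, w} ⊔ span F {u, y}) (q_sing.2 (hS u2 hu2)) (by
      rw [mem_sup_two]
      rintro ⟨s, hs, α, β, h1⟩
      have k1 := congrArg (𝔅 u) h1
      have k2 := congrArg (𝔅 y) h1
      simp only [map_add, map_smul, b hu hu2, b hu hu, huy, hyu2, hyu, hy.self_eq,
        B_span_pair (b hxS hu) (b hw hu) hs, B_span_pair (qz hyx) (qz hyw) hs, smul_eq_mul,
        mul_one, mul_zero, zero_add, add_zero] at k1 k2
      exact hu2' (by simpa [h1, ← k1, ← k2] using hs))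
    ((ofQuad Q).mem_perp'.1 (mem_perp_two.2 ⟨mem_perp_pair.2 ⟨b hxS hu2, b hw hu2⟩, b hu hu2, hyu2⟩))
  have hy2x : 𝔅 y2 x = 0 := hy2' x (mem_sup_left (subset_span (by simp)))
  have hy2w : 𝔅 y2 w = 0 := hy2' w (mem_sup_left (subset_span (by simp)))
  have hy2u : 𝔅 y2 u = 0 := hy2' u (mem_sup_right (subset_span (by simp)))
  have hy2y : 𝔅 y2 y = 0 := hy2' y (mem_sup_right (subset_span (by simp)))
  have hu2y2 : 𝔅 u2 y2 = 1 := (qB_comm _ _).trans hy2u2
  have py : C.Pt y := pt_of h.hR (q_sing.1 hy)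
  have pu : C.Pt u := pt_of h.hR (hS u hu)
  have d1 : ∀ t : F, C.Dir y (t • y2) := fun t => (dir_of h.hR (qz hy2y)).smul t
  have d2 : C.Dir u u2 := dir_of h.hR (b hu hu2)
  let g : Option F → C.K := fun i => i.elim (C.ρ u u2 * C.ρ y ((1 : F) • y2)) fun t => C.ρ y (t • y2)
  have f1 : ∀ (t : F) v, 𝔅 y v = 0 → 𝔅 y2 v = 0 → (C.ρ y (t • y2)).1 v = v := fun t v h1 h2 =>
    ρ_fix py (d1 t) h1 (by simp [h2])
  have gf : ∀ v ∈ S, 𝔅 y v = 0 → 𝔅 y2 v = 0 → ∀ i, (g i).1 v = v := by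
    rintro v hv h1 h2 (_ | t)
    · change (C.ρ u u2).1 ((C.ρ y ((1 : F) • y2)).1 v) = v
      rw [f1 1 v h1 h2, ρ_fix pu d2 (b hu hv) (b hu2 hv)]
    · exact f1 t v h1 h2
  have gx := gf x hxS hyx hy2x
  have gw := gf w hw hyw hy2w
  have e1 : ∀ t : F, (g (some t)).1 u = u - t • y2 := fun t => by
    change (C.ρ y (t • y2)).1 u = _
    rw [ρ_apply py (d1 t), q_smul, q_sing.1 hy2]; simp [hy2u, hyu]
  have e2 : ∀ t : F, (g (some t)).1 u2 = u2 + t • y := fun t => by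
    change (C.ρ y (t • y2)).1 u2 = _
    rw [ρ_apply_left py (d1 t) hyu2]; simp [hy2u2]
  have e3 : (g none).1 u2 = y := by
    change (C.ρ u u2).1 ((g (some 1)).1 u2) = y
    rw [e2, ρ_apply pu d2, hS u2 hu2]; simp [b hu2 hu2, b hu hu2, qz hyu2, huy]
  have key : ∀ i i' j j', C.rel Ω x (g i • ω j) (g i' • ω j') → ∀ s ∈ S, ∀ s' ∈ S,
      𝔅 ((g i).1 s) ((g i').1 s') = 0 := by
    intro i i' j j' hrel s hs s' hs'
    refine B_span_span (A := C.D x (ω j)) (A' := C.D x (ω j')) _ _ (fun a ha a' ha' => ?_)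
      (hsp j ▸ hs) (hsp j' ▸ hs')
    have k1 := D_fix hx (gx i') ha'
    rw [← D_congr hx hrel, ← gx i] at k1
    rw [← B_map (g i)⁻¹, inv_apply']
    exact b (hsp j ▸ subset_span ha) (hsp j ▸ subset_span (D_of_map hx k1))
  have hinj' : Function.Injective fun p : Option F × J =>
      (⟨Quotient.mk _ (g p.1 • ω p.2), mk_smul_mem_ob hx (hφ _) (hw' _) (gx _) (gw _)⟩ :
        C.ob Ω x φ w) := by
    rintro ⟨i, j⟩ ⟨i', j'⟩ hp
    have hrel : C.rel Ω x (g i • ω j) (g i' • ω j') := Quotient.exact (congrArg Subtype.val hp)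
    have hii : i = i' := by
      rcases i with _ | t <;> rcases i' with _ | t'
      · rfl
      · have := key _ _ _ _ hrel u2 hu2 u hu
        rw [e3, e1] at this
        simp [hyu, qz hy2y] at this
      · have := key _ _ _ _ hrel u hu u2 hu2
        rw [e3, e1] at this
        simp [huy, hy2y] at this
      · have := key _ _ _ _ hrel u hu u2 hu2
        rw [e1, e2] at this
        simp only [map_add, map_sub, map_smul, LinearMap.sub_apply, LinearMap.smul_apply,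
          b hu hu2, huy, hy2u2, hy2y, smul_eq_mul, RingHom.id_apply, map_smulₛₗ] at this
        exact congrArg some (by linear_combination -this)
    subst hii
    rw [hinj j j' ((rel_fix hx (gx i) _ _).2 hrel)]
  have := Nat.card_le_card_of_injective _ hinj'
  rwa [Nat.card_prod, Finite.card_option, h.hr, Nat.card_coe_set_eq] at this

end Ctx

end CfsgLib.MinIdx
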