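import Mathlib
import Cfsg.Agent.Lib.MinIdx.OBad

/-!
A point stabiliser in a small transitive action of an orthogonal group of dimension at least seven
fixes a one-dimensional subspace.
-/

set_option autoImplicit false
set_option linter.unusedSectionVars false

namespace CfsgLib.MinIdx

open CfsgLib.Forms CfsgLib.RootMax Module Submodule

universe u v

variable {F : Type u} [Field F] {V : Type v} [AddCommGroup V] [Module F V]
  {Q : QuadraticForm F V} [FiniteDimensional F V] [Finite F]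

local notation "𝔅" => PQ.B (ofQuad Q)

namespace Ctx

variable {C : Ctx (ofQuad Q)} {Ω : Type*} [MulAction C.K Ω] {r : ℕ} {x : V} [Finite Ω]

theorem OH.L8 (h : C.OH Ω r) (hx : C.Pt x) (hx0 : x ≠ 0) (h8 : finrank F V = 8)
    {S : Submodule F V} (hS : ∀ v ∈ S, Q v = 0) (h4 : finrank F S = 4) :
    (Lv Q x 0).ncard = (r + 1) * ((r ^ 3 + 3 * r ^ 2 + 3 * r) * ((r + 1) ^ 2 + 1)) := by
  have h1 := ncard_Lv_of_ts C.nondeg (k := 2) h8 hS h4 hx.q_eq hx0
  rw [h.hr] at h1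
  have h2 : (r + 1) * ((r ^ 3 + 3 * r ^ 2 + 3 * r) * ((r + 1) ^ 2 + 1)) + (r + 1) + (r + 1) ^ (2 + 1)
      = (r + 1) ^ (2 * 2 + 2) + (r + 1) ^ (2 + 2) := by ring
  omega

theorem OH.exists_tyF (h : C.OH Ω r) (hx : C.Pt x) (hx0 : x ≠ 0) {ω : Ω} (hB : C.Bad x ω)
    (h8 : finrank F V = 8) (hr : 3 ≤ r)
    (hN : Nat.card Ω < ((r + 1) ^ 2 + 1) * (r + 2) * ((r + 1) ^ 3 + 1)) :
    ∃ z, ∃ ω' : Ω, C.Pt z ∧ z ≠ 0 ∧ C.TyF z ω' := by
  set S := span F (C.D x ω : Set V) with hSdef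
  have hS : ∀ v ∈ S, Q v = 0 := ts_span_of_add hB.2.1
  have h4 : finrank F S = 4 := by have := (h.bad_dim hB).1; rw [← hSdef] at this; omega
  have hsp : ∀ w ∈ C.D x ω, w ∈ S := fun w hw => subset_span hw
  have hxS : x ∈ S := hsp x (by simpa using smul_mem_D x ω (1 : F))
  have b := fun {s s' : V} => B_of_ts hS (u := s) (v := s')
  obtain ⟨w, hw, hw'⟩ := exists_of_not_sm' hB.1
  have uniq : ∀ ω', w ∈ C.D x ω' → (∀ v ∈ C.D x ω', v ∈ S) → C.rel Ω x ω' ω := by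
    intro ω' h1 h2
    by_contra hne
    have h3 := (h.dich hx hx0 hB h8 hx hx0 ω').resolve_left fun k => hw' (k w h1)
    have h5 := h.img hx hS h4.ge hxS (hsp w hw) (J := Bool) (fun j => cond j ω ω') (by
      rintro (_ | _) (_ | _) k
      exacts [rfl, absurd k hne, absurd ((C.rel Ω x).symm k) hne, rfl]) (φ := fun _ => True)
      (fun _ => trivial) (by rintro (_ | _); exacts [h1, hw]) (by
        rintro (_ | _)
        · exact eq_of_le_of_finrank_le (span_le.2 h2) (by have := (h.bad_dim h3).1; simp; omega)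
        · rfl)
    have h6 := core_le r.succ_pos (h.cnt hx hx0 ⟨D_orth hx hw, hw', hB.2.1 w hw⟩ h5)
      (h.L8 hx hx0 h8 hS h4).ge
    have h7 := h6.trans (ncard_le_card' _)
    rw [Nat.card_eq_fintype_card, Fintype.card_bool] at h7
    have h9 : (r + 1) ^ 3 + 1 ≤ 2 * (r ^ 3 + 3 * r ^ 2 + 3 * r) := by nlinarith
    nlinarith [Nat.mul_le_mul_left (((r + 1) ^ 2 + 1) * (r + 2)) h9]
  have relg : ∀ ω', C.rel Ω x ω' ω → ∀ g : C.K, g.1 x = x → g.1 w = w → (∀ s ∈ S, g.1 s ∈ S) →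
      C.rel Ω x (g • ω') ω := by
    intro ω' h0 g h1 h2 h3
    refine uniq _ (h2 ▸ D_fix hx h1 (D_congr hx h0 ▸ hw)) fun v hv => ?_
    rw [← h1] at hv
    have := D_of_map hx hv
    rw [D_congr hx h0] at this
    simpa [apply_inv'] using h3 _ (hsp _ this)
  have ρS : ∀ z ∈ S, ∀ a, 𝔅 z a = 0 → ∀ s ∈ S, (C.ρ z a).1 s ∈ S := fun z hz a ha s hs => by
    rw [ρ_apply_left (pt_of h.hR (hS z hz)) (dir_of h.hR ha) (b hz hs)]
    exact add_mem hs (smul_mem _ _ hz)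
  have hD : ∀ s ∈ S, s ∈ C.D x ω := by
    obtain ⟨u, hu, hu'⟩ := exists_of_not_sm hB.1 hw
    have key : ∀ z ∈ S, z ∉ span F {x, w, u} → z ∈ C.D x ω := by
      intro z hz hz'
      obtain ⟨a, k1, k2⟩ := (ofQuad Q).exists_dual_vec C.nondeg _ (notMem_exchange hu' hz')
      have k3 : C.Pt z := pt_of h.hR (hS z hz)
      have k4 : C.Dir z a := dir_of h.hR (qz (k2 z (subset_span (by simp))))
      have k5 := ρ_fix k3 k4 (b hz hxS) (k2 x (subset_span (by simp)))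
      have k6 := D_of_rel hx k5 (relg ω ((C.rel Ω x).refl ω) _ k5
        (ρ_fix k3 k4 (b hz (hsp w hw)) (k2 w (subset_span (by simp)))) (ρS z hz a k4.2)) hu
      rw [ρ_apply_left k3 k4 (b hz (hsp u hu)), k1, one_smul] at k6
      simpa using sub_mem k6 hu
    obtain ⟨z, hz, hz'⟩ := exists_mem_notMem (W := S) (W' := span F {x, w, u})
      (by have := finrank_three_le (F := F) x w u; omega)
    intro s hs
    by_cases k : s ∈ span F {x, w, u}
    · simpa using sub_mem (key (s + z) (add_mem hs hz) fun k' => hz' (by simpa using sub_mem k' k))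
        (key z hz hz')
    · exact key s hs k
  obtain ⟨x', hx', hxx', -⟩ := (ofQuad Q).exists_partner C.nondeg ⊥ hx.1 hx0 (by simp)
  obtain ⟨μ, hμ0, hμ⟩ := exists_mul_self_ne_one (F := F) (by rw [h.hr]; omega)
  obtain ⟨t, ht, ht'⟩ := h.tor x x' μ hx.q_eq (q_sing.1 hx') hxx' hμ0
  have hμ2 : μ * μ ≠ 0 := mul_ne_zero hμ0 hμ0
  have hμ1 : 1 - μ * μ ≠ 0 := sub_ne_zero.2 hμ.symm
  have pr1 : ∀ v, 𝔅 x v = 0 → 𝔅 x (v - 𝔅 x' v • x) = 0 := fun v hv => by simp [hv, hx.self_eq]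
  have pr2 : ∀ v, 𝔅 x' (v - 𝔅 x' v • x) = 0 := fun v => by simp [hxx']
  have relW : ∀ ω₁ ω₂ : Ω, C.rel Ω x ω₁ ω₂ → ∃ a, 𝔅 x a = 0 ∧ 𝔅 x' a = 0 ∧ C.ρ x a • ω₂ = ω₁ := by
    intro ω₁ ω₂ h1
    obtain ⟨a, h2, h3⟩ := qrel_iff.1 h1
    exact ⟨_, pr1 a h2.2, pr2 a, by rw [sub_eq_add_neg, ← neg_smul, ρ_add_self hx h2, h3]⟩
  have tρ : ∀ a, 𝔅 x a = 0 → 𝔅 x' a = 0 → t * C.ρ x a = C.ρ x ((μ * μ) • a) * t := fun a h1 h2 => by
    rw [mul_ρ t hx (dir_of h.hR h1), ht, ht' a h1 h2, ρ_smul_left hx (dir_of h.hR h1)]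
  set z := w - 𝔅 x' w • x with hzdef
  have hzS : z ∈ S := sub_mem (hsp w hw) (smul_mem _ _ hxS)
  have hxz : 𝔅 x z = 0 := b hxS hzS
  have hx'z : 𝔅 x' z = 0 := pr2 w
  have hrel : C.rel Ω x (t • ω) ω := by
    refine uniq _ ?_ fun v hv => ?_
    · have k1 := D_twist hx (inv_ne_zero hμ2) (by rw [ht, inv_inv]) (hD _ (smul_mem _ (μ * μ) hzS))
      rw [map_smul, ht' z hxz hx'z, smul_smul, inv_mul_cancel₀ hμ2, one_smul] at k1
      simpa [hzdef] using add_mem k1 (smul_mem_D x _ (𝔅 x' w))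
    · have k1 := D_twist (g := t⁻¹) hx hμ2 (inv_apply_eq' (by
        rw [map_smul, ht, smul_smul, inv_mul_cancel₀ hμ2, one_smul])) hv
      rw [inv_smul_smul] at k1
      have k2 := (smul_mem_iff _ hμ2).1 (hsp _ k1)
      rw [← apply_inv' t v, ← sub_add_cancel ((t⁻¹).1 v) (𝔅 x' ((t⁻¹).1 v) • x), map_add,
        ht' _ (pr1 _ (b hxS k2)) (pr2 _), map_smul, ht]
      exact add_mem (sub_mem k2 (smul_mem _ _ hxS)) (smul_mem _ _ (smul_mem _ _ hxS))
  obtain ⟨a₀, k1, k2, k3⟩ := relW _ _ hrel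
  set ω' := C.ρ x ((1 - μ * μ)⁻¹ • a₀) • ω with hω'
  have hr' : C.rel Ω x ω' ω := qrel_iff.2 ⟨_, (dir_of h.hR k1).smul _, rfl⟩
  have tω : t • ω' = ω' := by
    rw [hω', ← mul_smul, tρ _ (by simp [k1]) (by simp [k2]), mul_smul, ← k3, ← mul_smul,
      ρ_mul (((dir_of h.hR k1).smul _).smul _) (dir_of h.hR k1)]
    congr 2
    match_scalars
    linear_combination -(mul_inv_cancel₀ hμ1)
  have pz : C.Pt z := pt_of h.hR (hS z hzS)
  have hz0 : z ≠ 0 := fun k => hw' (mem_span_singleton.2 ⟨_, (sub_eq_zero.1 k).symm⟩)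
  have hA : ∀ a ∈ (ofQuad Q).perp (span F {x, x', z}), a ∈ C.A z ω' := by
    intro a ha
    rw [PQ.mem_perp_span] at ha
    have a1 := ha x (by simp)
    have a2 := ha x' (by simp)
    have da : C.Dir z a := dir_of h.hR (ha z (by simp))
    have j1 := ρ_fix pz da (qz hxz) (qz a1)
    obtain ⟨c, j2, j3, j4⟩ := relW _ _ ((C.rel Ω x).trans (relg ω' hr' _ j1
      (ρ_fix pz da (b hzS (hsp w hw)) (by
        rw [← sub_add_cancel w (𝔅 x' w • x), map_add, qz da.2, map_smul, qz a1]; simp))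
      (ρS z hzS a da.2)) ((C.rel Ω x).symm hr'))
    have j5 : t • C.ρ z a • ω' = C.ρ z a • ω' := by
      rw [← mul_smul, mul_ρ t pz da, ht' z hxz hx'z, ht' a a1 a2, mul_smul, tω]
    rw [← j4, ← mul_smul, tρ c j2 j3, mul_smul, tω] at j5
    have dc : C.Dir x c := dir_of h.hR j2
    have j6 : (1 - μ * μ) • c ∈ C.A x ω' := qmem_A.2 ⟨dc.smul _, by
      rw [sub_smul, one_smul, sub_eq_neg_add, ← ρ_mul (dc.smul _).neg dc, mul_smul, ← j5,
        ρ_neg (dc.smul _), inv_smul_smul]⟩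
    have j7 : c ∈ C.A x ω' := mem_A_of_orth fun v hv => by
      rw [D_congr hx hr'] at hv
      have := B_eq_zero_of_mem_A (fun s hs => D_congr hx hr' ▸ hD s hs) j6 (hsp v hv)
      simpa [hμ1] using this
    exact qmem_A.2 ⟨da, by rw [← j4, (qmem_A.1 j7).2]⟩
  refine ⟨z, ω', pz, hz0, tyF_of_D ((h.dich hx hx0 hB h8 pz hz0 ω').resolve_right fun k => ?_)⟩
  have j1 : span F (C.D z ω' : Set V) ≤ span F {x, x', z} := span_le.2 fun v hv => by
    rw [← (ofQuad Q).perp_perp C.nondeg (span F {x, x', z})]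
    exact B_eq_zero_of_mem_D hA hv
  have j2 := finrank_mono j1
  have j3 := finrank_three_le (F := F) x x' z
  have j4 := (h.bad_dim k).1
  omega

theorem OH.hpart (h : C.OH Ω r) (x : V) (hx : C.Pt x) (hx0 : x ≠ 0) :
    ∃ y, C.Pt y ∧ 𝔅 y x ≠ 0 := by
  obtain ⟨x', hx', hxx', -⟩ := (ofQuad Q).exists_partner C.nondeg ⊥ hx.1 hx0 (by simp)
  exact ⟨x', pt_of h.hR (q_sing.1 hx'), by rw [hxx']; exact one_ne_zero⟩

theorem OH.card_tyF (h : C.OH Ω r) (hx : C.Pt x) (hx0 : x ≠ 0) {ω : Ω} (hB : C.Bad x ω)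
    (h8 : finrank F V = 8) {ω' : Ω} (hnF : ∃ x, C.Pt x ∧ ¬ C.TyF x ω') {z : V} (hz : C.Pt z)
    (hz0 : z ≠ 0) (hF : C.TyF z ω') :
    (r + 1) ^ 4 ≤ {y | (y ≠ 0 ∧ Q y = 0) ∧ C.TyF y ω'}.ncard + 1 := by
  have := C.finite_V
  let U : Submodule F V :=
    { carrier := {y | Q y = 0 ∧ C.TyF y ω'}
      zero_mem' := ⟨map_zero _, tyF_zero _⟩
      smul_mem' := fun t y hy => ⟨by rw [q_smul, hy.1, mul_zero], by
        by_cases ht : t = 0
        · rw [ht, zero_smul]; exact tyF_zero _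
        · exact hy.2.smul (pt_of h.hR hy.1) ht⟩
      add_mem' := fun {y y'} hy hy' => by
        have p1 : C.Pt y := pt_of h.hR hy.1
        have p2 : C.Pt y' := pt_of h.hR hy'.1
        have k1 : 𝔅 y y' = 0 := by
          by_contra k
          obtain ⟨u, k1, k2⟩ := hnF
          exact k2 (tyF_of_two p1 p2 hy.2 hy'.2 k h.hpart k1)
        refine ⟨(p1.add p2 k1).q_eq, ?_⟩
        by_cases k2 : y ∈ span F {y'}
        · obtain ⟨t, rfl⟩ := mem_span_singleton.1 k2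
          rw [show t • y' + y' = (t + 1) • y' by module]
          by_cases ht : t + 1 = 0
          · rw [ht, zero_smul]; exact tyF_zero _
          · exact hy'.2.smul p2 ht
        · obtain ⟨a, k3, k4⟩ := (ofQuad Q).exists_dual_vec C.nondeg _ k2
          have da : C.Dir y' a := dir_of h.hR (qz (k4 _ (mem_span_singleton_self _)))
          have := hy.2.map p1 (C.ρ y' a)
          rwa [qtyF.1 hy'.2 a da, ρ_apply_left p2 da (qz k1), k3, one_smul] at this }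
  obtain ⟨y, hy, hyz⟩ := h.hpart z hz hz0
  have hy0 := (ofQuad Q).ne_zero_of_B_ne hyz
  have h1 := card_le_pow (A := C.A y ω') (S := U ⊓ (ofQuad Q).perp (span F {y}) ⊔ span F {y})
    fun a ha => by
      obtain ⟨k1, k2⟩ := qmem_A.1 ha
      refine mem_of_ρ_mem hy k1 (S := U) ⟨hz.q_eq, hF⟩ hyz ⟨(hz.map _).q_eq, ?_⟩
      have := hF.map hz (C.ρ y a)
      rwa [k2] at this
  have h2 := finrank_inf_perp_sup_le (S := U) ⟨hz.q_eq, hF⟩ hyz
  have h3 : Nat.card (C.D y ω') ≤ Nat.card F ^ 4 := by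
    rcases h.dich hx hx0 hB h8 hy hy0 ω' with k | k
    · exact (card_le_pow k).trans (Nat.pow_le_pow_right Nat.card_pos
        ((finrank_one_le y).trans (by norm_num)))
    · exact (card_le_pow (S := span F (C.D y ω' : Set V)) fun w hw => subset_span hw).trans
        (Nat.pow_le_pow_right Nat.card_pos (by have := (h.bad_dim k).1; omega))
  have h4 := card_A_mul_D (C := C) y ω'
  have h5 : Nat.card F ^ 4 ≤ Nat.card F ^ finrank F U := by
    apply Nat.le_of_mul_le_mul_right _ (pow_pos (Nat.card_pos (α := F)) 4)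
    rw [← pow_add, show 4 + 4 = finrank F V from h8.symm, ← h4]
    exact Nat.mul_le_mul (h1.trans (Nat.pow_le_pow_right Nat.card_pos h2)) h3
  rw [← ncard_submodule, h.hr] at h5
  refine h5.trans ((Set.ncard_le_ncard (t := insert 0 _) fun v hv => ?_).trans
    (Set.ncard_insert_le _ _))
  by_cases hv0 : v = 0
  · exact Or.inl hv0
  · exact Or.inr ⟨⟨hv0, hv.1⟩, hv.2⟩

variable [MulAction.IsPretransitive C.K Ω]

theorem OH.not_bad (h : C.OH Ω r) (hnF : ∀ ω : Ω, ∃ x, C.Pt x ∧ ¬ C.TyF x ω) (hx : C.Pt x)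
    (hx0 : x ≠ 0) (ω : Ω) : ¬ C.Bad x ω := by
  have := C.finite_V
  intro hB
  obtain ⟨h1, h2⟩ := h.bad_dim hB
  have h7 := h.h7
  have h8 : finrank F V = 8 := by
    by_contra k
    exact h.not_bad_seven hx hx0 hB (by omega)
  have hS := ts_span_of_add (F := F) hB.2.1
  have h4 : finrank F (span F (C.D x ω : Set V)) = 4 := by omega
  have hsp : ∀ w ∈ C.D x ω, w ∈ span F (C.D x ω : Set V) := fun w hw => subset_span hw
  obtain ⟨w, hw, hw'⟩ := exists_of_not_sm' hB.1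
  have h3 : r + 1 < Nat.card (C.D x ω) := by
    by_contra k
    have k1 : (span F {x}).toAddSubgroup = C.D x ω := AddSubgroup.eq_of_le_of_card_ge
      (fun v hv => mem_D_of_mem ω (mem_sup_right hv)) (by
        change _ ≤ Nat.card (span F {x})
        rw [Module.natCard_eq_pow_finrank (K := F) (V := span F {x}), finrank_span_singleton hx0,
          pow_one, h.hr]
        omega)
    exact hw' (k1.ge hw)
  have h5 := h.img hx hS h4.ge (hsp x (by simpa using smul_mem_D x ω (1 : F))) (hsp w hw)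
    (J := Unit) (fun _ => ω) (fun _ _ _ => rfl) (φ := fun k => r + 1 < k ∧ k ≤ (r + 1) ^ 4)
    (fun _ => ⟨h3, by simpa [h4, h.hr] using card_le_pow hsp⟩) (fun _ => hw) fun _ => rfl
  have h6 := h.cnt_ref hx hx0 ⟨D_orth hx hw, hw', hB.2.1 w hw⟩ (δ := (r + 1) ^ 3) h5
    fun k hk => hk.2.trans_eq (by ring)
  rw [h.L8 hx hx0 h8 hS h4, Nat.card_unique, mul_one] at h6
  set B := {ω : Ω | (fun k => r + 1 < k ∧ k ≤ (r + 1) ^ 4) (Nat.card (C.D x ω))}.ncard with hB'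
  have hr := h.r_pos
  have h9 : (r + 1) ^ 3 * (((r + 1) ^ 2 + 1) * (r + 2)) ≤ B := by
    have k : 0 < (r + 1) * (r ^ 3 + 3 * r ^ 2 + 3 * r) := by positivity
    apply Nat.le_of_mul_le_mul_left _ k
    nlinarith
  rcases h.n8 h8 _ hS h4 with ⟨rfl, hN⟩ | ⟨hr3, hN⟩
  · have := ncard_le_card' {ω : Ω | (fun k => 1 + 1 < k ∧ k ≤ (1 + 1) ^ 4) (Nat.card (C.D x ω))}
    norm_num at h9
    omega
  obtain ⟨z, ω', k1, k2, k3⟩ := h.exists_tyF hx hx0 hB h8 hr3 hN
  have k4 := double_count (fun (ω : Ω) (y : V) => C.TyF y ω) {y | y ≠ 0 ∧ Q y = 0}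
    (m := r ^ 4 + 4 * r ^ 3 + 6 * r ^ 2 + 4 * r) (k := {ω : Ω | C.TyF x ω}.ncard) (fun ω₁ => by
      obtain ⟨g, rfl⟩ := MulAction.exists_smul_eq C.K ω' ω₁
      have := h.card_tyF hx hx0 hB h8 (hnF _) (k1.map g) (by simpa using k2) (k3.map k1 g)
      simp only [Set.mem_ofPred_eq]
      nlinarith) (fun y hy => by
      obtain ⟨g, rfl⟩ := h.tr0 y x hy.1 hx0 (by rw [hx.q_eq, hy.2])
      exact Set.ncard_le_ncard_of_injOn (g • ·) (fun a ha => TyF.map ha (pt_of h.hR hy.2) g)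
        (MulAction.injective g).injOn)
  have k5 := zeros_of_ts C.nondeg (k := 3) h8 hS h4
  rw [← OrthE.card_ne_zero_add_one, h.hr] at k5
  have k6 : {y | y ≠ 0 ∧ Q y = 0}.ncard =
      (r ^ 4 + 4 * r ^ 3 + 6 * r ^ 2 + 4 * r) * ((r + 1) ^ 3 + 1) := by
    rw [← Nat.card_coe_set_eq]
    have : (r ^ 4 + 4 * r ^ 3 + 6 * r ^ 2 + 4 * r) * ((r + 1) ^ 3 + 1) + 1 + (r + 1) ^ 3 =
      (r + 1) ^ (2 * 3 + 1) + (r + 1) ^ (3 + 1) := by ring
    exact Nat.add_right_cancel (Nat.add_right_cancel (k5.trans this.symm))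
  have k7 := ncard_add_ncard_le (S := {ω : Ω | C.TyF x ω})
    (T := {ω : Ω | (fun k => r + 1 < k ∧ k ≤ (r + 1) ^ 4) (Nat.card (C.D x ω))})
    (Set.disjoint_left.2 fun a j1 j2 => by
      have := card_le_pow fun v hv => TyF.D_le h.hR j1 (v := v) hv
      rw [finrank_span_singleton hx0, pow_one, h.hr] at this
      exact absurd j2.1 (not_lt.2 this))
  rw [k6] at k4
  have k8 : Nat.card Ω ≤ ((r + 1) ^ 3 + 1) * {ω : Ω | C.TyF x ω}.ncard := by
    have k : 0 < r ^ 4 + 4 * r ^ 3 + 6 * r ^ 2 + 4 * r := by positivity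
    apply Nat.le_of_mul_le_mul_left _ k
    nlinarith
  have k9 : ((r + 1) ^ 2 + 1) * (r + 2) ≤ {ω : Ω | C.TyF x ω}.ncard := by
    apply Nat.le_of_mul_le_mul_left _ (pow_pos r.succ_pos 3)
    nlinarith
  nlinarith

theorem OH.main (h : C.OH Ω r) (hnF : ∀ ω : Ω, ∃ x, C.Pt x ∧ ¬ C.TyF x ω) (ω : Ω) :
    ∃ v, v ≠ 0 ∧ ∀ g : C.K, g • ω = ω → g.1 v ∈ span F {v} := by
  have h7 := h.h7
  have cls : ∀ x, C.Pt x → x ≠ 0 → C.Sm x ω ∨ C.Big x ω := fun x hx hx0 =>
    (h.cls hx hx0 ω).imp_right fun k => k.resolve_right (h.not_bad hnF hx hx0 ω)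
  have big : ∀ x, C.Pt x → x ≠ 0 → C.TyT x ω → C.Big x ω := by
    intro x hx hx0 hT
    refine (cls x hx hx0).resolve_left ?_
    rintro ⟨w, -, h1⟩
    obtain ⟨a, ha, ha'⟩ := exists_mem_notMem (W := (ofQuad Q).perp (span F {x, w}))
      (W' := span F {x}) (by
        have := (ofQuad Q).finrank_perp C.nondeg (span F {x, w})
        have := finrank_two_le (F := F) x w
        have := finrank_one_le (F := F) x
        omega)
    obtain ⟨k1, k2⟩ := qmem_A.1 (mem_A_of_orth (C := C) (x := x) (ω := ω) (a := a)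
      fun v hv => qz (ha v (h1 v hv)))
    exact ha' (hT.mem_span hx hx0 k1 k2)
  have hrel : ∀ x, C.Pt x → x ≠ 0 → C.TyT x ω → ∀ g : C.K, g.1 x = x → C.rel Ω x (g • ω) ω := by
    intro x hx hx0 hT g hg
    have := (big x hx hx0 hT).map hx g
    rw [hg] at this
    exact h.rel_of_big hx0 (big x hx hx0 hT) this
  have := geo (C := C) ω (fun y => q_exists_sing C.nondeg (by
      rw [h.hR, bot_sup_eq]; have := finrank_one_le (F := F) y; omega))
    (Or.inr (by rw [h.hR, finrank_bot]; omega)) (fun x _ hx => by rwa [h.hR] at hx)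
    (fun x hx hx0 => ?_) (fun x y y' hx hx0 hT hy hy' h1 h2 h3 h4 => ?_) (hnF ω) ?_
  · simpa only [h.hR, bot_sup_eq, mem_bot] using this
  · rcases cls x hx hx0 with ⟨w, h1, h2⟩ | h1
    · by_cases hw : w ∈ span F {x}
      · exact Or.inl (tyF_of_D fun v hv => (span_le.2 (by
          rintro _ (rfl | rfl)
          exacts [mem_span_singleton_self _, hw])) (h2 v hv))
      · refine Or.inr (Or.inr ⟨w, D_orth hx h1, by rwa [h.hR, bot_sup_eq], fun a c ha haw => ?_,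
          fun g hg hgx => mem_sup_right (h2 _ (hg ▸ D_fix hx hgx h1))⟩)
        rw [ha.q_eq]
        exact (qmem_A.1 (mem_A_of_orth fun v hv => B_span_pair ha.2.1 haw (h2 v hv))).2
    · refine Or.inr (Or.inl fun a c ha hω => ?_)
      have h2 : a ∈ span F {x} := by
        rw [← (ofQuad Q).perp_perp C.nondeg (span F {x})]
        exact fun v hv => qz (B_eq_zero_of_mem_A
          (fun s hs => h1 s ((ofQuad Q).mem_perp_span_singleton.1 hs)) ⟨c, ha, hω⟩ hv)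
      obtain ⟨t, rfl⟩ := mem_span_singleton.1 h2
      have := ρ_add_self hx (dir_zero x) t
      rw [zero_add, ρ_zero] at this
      rw [ha.q_eq]
      exact this
  · rw [h.hR, bot_sup_eq] at h3 h4
    obtain ⟨g, k1, k2⟩ := h.tr1 x y y' h3 h4 (by rw [h1, h2]) (by rw [hy.q_eq, hy'.q_eq])
    obtain ⟨a, k3, k4⟩ := qrel_iff.1 ((C.rel Ω x).symm (hrel x hx hx0 hT g k1))
    exact ⟨C.ρ x a * g, _, by rw [mul_smul, k4], by rw [mul_apply', k2, ρ_apply_left hx k3 h2]⟩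
  · by_contra hall
    push Not at hall
    obtain ⟨x, hx, -, hx0⟩ := q_exists_sing C.nondeg (U := ⊥) (by rw [finrank_bot]; omega)
    have px : C.Pt x := pt_of h.hR (q_sing.1 hx)
    exact not_allT h.hR h7 hall px hx0 (hrel x px hx0 (hall x px hx0)) h.refl

end Ctx

end CfsgLib.MinIdx
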