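import Mathlib
import Cfsg.Agent.Lib.MinIdx.OMain
import Cfsg.Agent.Lib.OrthE.Mat

/-!
The minimal index of a proper subgroup of an orthogonal group of dimension at least seven.
-/

set_option autoImplicit false
set_option linter.unusedSectionVars false

namespace CfsgLib.MinIdx

open CfsgLib.Forms CfsgLib.RootMax Module Submodule

universe u v

section general

variable {F : Type u} [Field F] {σ : F →+* F} {V : Type v} [AddCommGroup V] [Module F V]
  {P : PQ σ V} {K : Subgroup (V ≃ₗ[F] V)}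

/-- The context of a root group. -/
@[reducible] def ctxOf (hP : P.Nondeg) (hK : RootGroup P K) : Ctx P where
  R := ⊥
  K := K
  nondeg := hP
  le := hK.le
  fix g _ r hr := by rw [(mem_bot F).1 hr, map_zero]
  root _ _ _ hx _ _ ha hc := hK.allFull.rt hx ha hc

theorem ctxOf_not_tyF (hP : P.Nondeg) (hK : RootGroup P K) {H : Subgroup K} (hH : H ≠ ⊤)
    (ω : K ⧸ H) : ∃ x, (ctxOf hP hK).Pt x ∧ ¬ (ctxOf hP hK).TyF (Ω := K ⧸ H) x ω := by
  by_contra h
  push Not at h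
  have hp : ∀ a : V, a ∈ P.perp (ctxOf hP hK).R := fun a r hr => by
    rw [(mem_bot F).1 hr]; simp
  have h1 : K ≤ (MulAction.stabilizer K ω).map K.subtype :=
    hK.gen _ ((Subgroup.map_subtype_le _).trans hK.le) fun x hx a ha => ⟨ha, fun c hc =>
      ⟨_, ⟨_, h x ⟨hx, hp x⟩ a c ⟨hp a, ha, hc⟩, rfl⟩,
        Ctx.el_apply (C := ctxOf hP hK) ⟨hx, hp x⟩ ⟨hp a, ha, hc⟩⟩⟩
  have h2 : ∀ g : K, g • ω = ω := fun g => by
    obtain ⟨k, hk, hk'⟩ := h1 g.2
    exact (Subtype.ext hk' : k = g) ▸ hk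
  apply hH
  rw [eq_top_iff]
  intro g _
  obtain ⟨k, rfl⟩ := QuotientGroup.mk_surjective ω
  have h3 := h2 (k * g⁻¹ * k⁻¹)
  rw [MulAction.Quotient.smul_mk, QuotientGroup.eq] at h3
  simpa using h3

theorem le_lineStab_of {H : Subgroup K} {v : V} (hv : v ≠ 0)
    (h : ∀ g : K, g • ((1 : K) : K ⧸ H) = (1 : K) → g.1 v ∈ span F {v}) :
    H ≤ lineStab K.subtype v := by
  intro g hg
  obtain ⟨c, hc⟩ := mem_span_singleton.1 (h g (by
    rw [MulAction.Quotient.smul_mk, QuotientGroup.eq]; simpa using hg))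
  refine ⟨c, ?_, hc.symm⟩
  rintro rfl
  exact hv (g.1.map_eq_zero_iff.1 (by rw [← hc, zero_smul]))

end general

variable {F : Type u} [Field F] {V : Type v} [AddCommGroup V] [Module F V]
  {Q : QuadraticForm F V} [FiniteDimensional F V] [Finite F]

local notation "𝔅" => PQ.B (ofQuad Q)

theorem om_witt (hQ : OrthE.Nondeg Q) (T : Submodule F V) (hT : 2 * finrank F T + 5 ≤ finrank F V)
    {u u' : V} (hu : u ∉ T) (hu' : u' ∉ T) (hB : ∀ h ∈ T, 𝔅 h u' = 𝔅 h u) (hN : Q u' = Q u) :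
    ∃ g ∈ Om Q, (∀ h ∈ T, g h = h) ∧ g u = u' := by
  obtain ⟨g, hg, h1, h2⟩ := (ofQuad Q).witt_step hQ T hu hu' hB
    ((ofQuad_mem Q _).2 (sub_eq_zero.2 hN))
  have hg' : g ∈ OrthE.O Q := by rw [OrthE.O_eq_isom]; exact hg
  let S : Subgroup (OrthE.O Q) := (linFix (T ⊔ span F {u'})).comap (OrthE.O Q).subtype
  obtain ⟨e, f, k1, k2, k3, k4, k5⟩ := q_exists_hyp hQ (U := T ⊔ span F {u'}) (by
    have := finrank_sup_le T (span F {u'})
    have := finrank_one_le (F := F) u'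
    omega)
  have hh : OrthE.Hyp Q e f := ⟨k1, k2, (qB_comm _ _).trans k3⟩
  have htop : S ⊔ OrthE.E Q = ⊤ := by
    refine OrthE.eq_top_of_refl_of_siegel hQ _ (fun v hv => ?_)
      fun a b _ _ _ => Subgroup.mem_sup_right (OrthE.eich_mem_E a b)
    obtain ⟨k, hk, b, -, k6⟩ := hh.exists_move_E hQ (hh.exists_nonsingular hQ (by omega))
      (x := v) (by rintro rfl; exact hv (map_zero _))
    have k7 : OrthE.refl Q v = k⁻¹ * OrthE.refl Q (k.1 v) * k := by
      rw [← OrthE.conj_refl]; group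
    rw [k7]
    refine mul_mem (mul_mem (Subgroup.mem_sup_right (inv_mem hk)) (Subgroup.mem_sup_left ?_))
      (Subgroup.mem_sup_right hk)
    intro z hz
    refine OrthE.refl_apply_of_orth ?_
    rw [k6, ← ofQuad_B, map_add, map_smul, map_smul, k4 z hz, k5 z hz]; simp
  have := OrthE.E_normal (Q := Q)
  obtain ⟨s, hs, k, hk, h3⟩ := Subgroup.mem_sup_of_normal_right.1
    (htop ▸ Subgroup.mem_top (⟨g, hg'⟩ : OrthE.O Q))
  have h4 : ∀ v, s.1 (k.1 v) = g v := fun v => congrArg (fun t : OrthE.O Q => t.1 v) h3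
  refine ⟨k.1, (mem_Om_iff k).2 (hQ.E_eq_commutator_of_finite (by omega) ▸ hk),
    fun h hh => s.1.injective ?_, s.1.injective ?_⟩
  · rw [h4, h1 h hh]; exact (hs h (mem_sup_left hh)).symm
  · rw [h4, h2]; exact (hs u' (mem_sup_right (mem_span_singleton_self _))).symm

theorem om_tr0 (hQ : OrthE.Nondeg Q) (h5 : 5 ≤ finrank F V) {u u' : V} (hu : u ≠ 0) (hu' : u' ≠ 0)
    (hN : Q u' = Q u) : ∃ g : Om Q, g.1 u = u' := by
  obtain ⟨g, h1, -, h2⟩ := om_witt hQ ⊥ (by rwa [finrank_bot]) hu hu' (by simp) hN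
  exact ⟨⟨g, h1⟩, h2⟩

theorem om_index_lineStab (hQ : OrthE.Nondeg Q) (h5 : 5 ≤ finrank F V) {v : V} (hv : v ≠ 0) :
    (lineStab (Om Q).subtype v).index * {c : F | c ≠ 0 ∧ c * c * Q v = Q v}.ncard =
      {u | u ≠ 0 ∧ Q u = Q v}.ncard := by
  have h2 : ∀ u, (∃ g, (Om Q).subtype g v = u) ↔ u ≠ 0 ∧ Q u = Q v := fun u =>
    ⟨by rintro ⟨g, rfl⟩; exact ⟨fun h => hv (g.1.map_eq_zero_iff.1 h), Om_le Q g.2 v⟩,
      fun h => om_tr0 hQ h5 hv h.1 h.2⟩
  have h1 := index_lineStab_mul (Om Q).subtype hv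
  simp only [h2, q_smul, ne_eq, smul_eq_zero, hv, or_false] at h1
  exact h1

theorem om_index_sing (hQ : OrthE.Nondeg Q) (h5 : 5 ≤ finrank F V) {v : V} (hv : v ≠ 0)
    (hv0 : Q v = 0) {r : ℕ} (hr : Nat.card F = r + 1) :
    (lineStab (Om Q).subtype v).index * r + 1 = Nat.card {u // Q u = 0} := by
  have : Finite V := Module.finite_of_finite F
  have h1 := om_index_lineStab hQ h5 hv
  have h2 : {c : F | c ≠ 0 ∧ c * c * Q v = Q v} = {0}ᶜ := by ext c; simp [hv0]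
  rw [h2, Set.ncard_compl, Set.ncard_singleton, hr, Nat.add_sub_cancel, hv0] at h1
  rw [h1, ← OrthE.card_ne_zero_add_one, ← Nat.card_coe_set_eq]
  rfl

theorem om_index_ns (hQ : OrthE.Nondeg Q) (h5 : 5 ≤ finrank F V) {v : V} (hv : Q v ≠ 0) :
    ((2 : F) = 0 → (lineStab (Om Q).subtype v).index = Nat.card {u // Q u = Q v}) ∧
      ((2 : F) ≠ 0 → (lineStab (Om Q).subtype v).index * 2 = Nat.card {u // Q u = Q v}) := by
  have h1 := om_index_lineStab hQ h5 (v := v) (by rintro rfl; exact hv (map_zero _))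
  have h2 : {c : F | c ≠ 0 ∧ c * c * Q v = Q v} = {1, -1} := by
    ext c
    simp only [Set.mem_ofPred_eq, mul_eq_right₀ hv, mul_self_eq_one_iff, Set.mem_insert_iff,
      Set.mem_singleton_iff]
    exact and_iff_right_of_imp (by rintro (rfl | rfl) <;> simp)
  have h3 : {u | u ≠ 0 ∧ Q u = Q v}.ncard = Nat.card {u // Q u = Q v} := by
    rw [← Nat.card_coe_set_eq]
    exact Nat.card_congr (Equiv.subtypeEquivRight fun u => and_iff_right_of_imp (by
      rintro h rfl; exact hv (by rw [← h, map_zero])))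
  rw [h2, h3] at h1
  refine ⟨fun h => ?_, fun h => ?_⟩
  · rwa [show (-1 : F) = 1 by linear_combination -h, Set.pair_eq_singleton, Set.ncard_singleton,
      mul_one] at h1
  · rwa [Set.ncard_pair fun k => h (by linear_combination k)] at h1

theorem om_lower (hQ : OrthE.Nondeg Q) (h7 : 7 ≤ finrank F V) {r d : ℕ} (hr : Nat.card F = r + 1)
    (n1 : r * d ≤ ((r + 1) ^ 4 + (r + 1)) * (r + 1) ^ (finrank F V - 5))
    (n2 : r = 1 → d < 16 * 2 ^ (finrank F V - 5) ∧ Even (finrank F V))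
    (n3 : r = 2 → 2 * d ≤ 81 * 3 ^ (finrank F V - 5))
    (n8 : finrank F V = 8 → ∀ S : Submodule F V, (∀ v ∈ S, Q v = 0) → finrank F S = 4 →
      (r = 1 ∧ d ≤ 120) ∨ (3 ≤ r ∧ d ≤ ((r + 1) ^ 2 + 1) * (r + 2) * ((r + 1) ^ 3 + 1)))
    (hs : d * r + 1 ≤ Nat.card {u // Q u = 0})
    (hn : ∀ c, c ≠ 0 → ((2 : F) = 0 → d ≤ Nat.card {u // Q u = c}) ∧
      ((2 : F) ≠ 0 → d * 2 ≤ Nat.card {u // Q u = c}))
    (H : Subgroup (Om Q)) (hH : H ≠ ⊤) : d ≤ H.index := by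
  by_contra hlt
  push Not at hlt
  have hK := rootGroup_quad (hQ.E_eq_commutator_of_finite (by omega))
  have hfin : Finite (Om Q) := Ctx.finite_K (C := ctxOf hQ.ofQuad hK)
  have hr1 : 1 ≤ r := by have := one_lt_q F; omega
  have h : (ctxOf hQ.ofQuad hK).OH (Om Q ⧸ H) r :=
    { hR := rfl
      h7 := h7
      hr := hr
      tr0 := fun u u' h1 h2 h3 => om_tr0 hQ (by omega) h1 h2 h3
      tr1 := fun x u u' h1 h2 h3 h4 => by
        obtain ⟨g, k1, k2, k3⟩ := om_witt hQ (span F {x}) (by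
          have := finrank_one_le (F := F) x; omega) h1 h2 (fun h hh => by
            obtain ⟨t, rfl⟩ := mem_span_singleton.1 hh
            rw [qB_smul_left, qB_smul_left, h3]) h4
        exact ⟨⟨g, k1⟩, k2 x (mem_span_singleton_self x), k3⟩
      refl := fun a b h1 h2 => ⟨⟨_, refl_mul_refl_mem_Om hQ h1 h2⟩, fun _ => rfl⟩
      tor := fun x y t h1 h2 h3 h4 =>
        let ⟨g, k1, k2, k3⟩ := exists_tor_Om hQ h1 h2 h3 h4
        ⟨⟨g, k1⟩, k2, k3⟩
      n1 := lt_of_lt_of_le (Nat.mul_lt_mul_of_pos_left hlt hr1) n1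
      n2 := fun k => ⟨lt_of_le_of_lt hlt (n2 k).1, (n2 k).2⟩
      n3 := fun k => lt_of_lt_of_le (Nat.mul_lt_mul_of_pos_left hlt (by norm_num)) (n3 k)
      n8 := fun k S k1 k2 => (n8 k S k1 k2).imp (fun j => ⟨j.1, hlt.trans_le j.2⟩)
        fun j => ⟨j.1, hlt.trans_le j.2⟩ }
  obtain ⟨v, hv, h1⟩ := h.main (ctxOf_not_tyF hQ.ofQuad hK hH) ((1 : Om Q) : Om Q ⧸ H)
  have h2 : (lineStab (Om Q).subtype v).index ≤ H.index := index_le_of_le (le_lineStab_of hv h1)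
  by_cases hv0 : Q v = 0
  · have := om_index_sing hQ (by omega) hv hv0 hr
    nlinarith
  · obtain ⟨k1, k2⟩ := om_index_ns hQ (by omega) hv0
    obtain ⟨k3, k4⟩ := hn _ hv0
    by_cases k : (2 : F) = 0
    · have := k1 k; have := k3 k; omega
    · have := k2 k; have := k4 k; omega

theorem pomega_min {ι : Type} [Fintype ι] [DecidableEq ι] {Q : QuadraticForm F (ι → F)}
    {q : (ι → F) → F} (hq : ∀ x, q x = Q x) (hQ : OrthE.Nondeg Q) (h5 : 5 ≤ finrank F (ι → F))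
    {d : ℕ} (h1 : ∀ H : Subgroup (Om Q), H ≠ ⊤ → d ≤ H.index) {v : ι → F}
    (h2 : (lineStab (Om Q).subtype v).index = d) :
    (∀ H : Subgroup (Cfsg.POmega F q), H ≠ ⊤ → d ≤ H.index) ∧
      ∃ H : Subgroup (Cfsg.POmega F q), H.index = d := by
  have hE := hQ.E_eq_commutator_of_finite h5
  let e : Om Q →* OrthE.E Q :=
    { toFun := fun g => ⟨⟨g.1, Om_le Q g.2⟩, hE ▸ (mem_Om_iff _).1 g.2⟩
      map_one' := rfl
      map_mul' := fun _ _ => rfl }
  have he : Function.Surjective e := fun g => ⟨⟨g.1.1, (mem_Om_iff _).2 (hE ▸ g.2)⟩, rfl⟩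
  obtain ⟨a, b, hab⟩ := hQ.exists_hyp_of_three (by omega)
  refine min_index_of_surjective ((OrthE.pomegaEquiv hq hE).symm.toMonoidHom.comp
    ((QuotientGroup.mk' _).comp e)) ((OrthE.pomegaEquiv hq hE).symm.surjective.comp
      ((QuotientGroup.mk'_surjective _).comp he)) h1 ⟨_, fun g hg => ?_, h2⟩
  have h3 : e g ∈ Subgroup.center (OrthE.E Q) := by simpa using hg
  rcases (hab.mem_center_E_iff hQ (by omega) _).1 h3 with h4 | h4
  · exact ⟨1, one_ne_zero, (congrArg (fun t : OrthE.O Q => t.1 v) h4).trans (one_smul F v).symm⟩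
  · exact ⟨-1, by simp, (congrArg (fun t : OrthE.O Q => t.1 v) h4).trans (neg_one_smul F v).symm⟩

end CfsgLib.MinIdx
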