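import Mathlib
import Cfsg.Agent.Lib.MinIdx.OCount

/-!
Weighted counting of root group orbits by pairs of annihilator elements, and characters of an
additive family acting on a set of classes.
-/

set_option autoImplicit false
set_option linter.unusedSectionVars false

namespace CfsgLib.MinIdx

open CfsgLib.Forms CfsgLib.RootMax Module Submodule

universe u v

theorem Fam.cls_congr {M G Ω : Type*} [AddCommGroup M] [Group G] [MulAction G Ω] (Φ : Fam M G)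
    {s : Setoid Ω} (hs : ∀ m ∈ Φ.X, ∀ a b, s a b → s (Φ.t m • a) (Φ.t m • b)) {a b : Ω}
    (h : s a b) : Φ.cls s hs a = Φ.cls s hs b := by
  ext m
  refine and_congr_right fun hm => ⟨fun k => ?_, fun k => ?_⟩
  · exact s.trans (hs m hm _ _ (s.symm h)) (s.trans k h)
  · exact s.trans (hs m hm _ _ h) (s.trans k (s.symm h))

/-- The characters occurring in the action of a family on a set of classes. -/
theorem Fam.ncard_chars_le {F G Ω : Type*} [Field F] [Finite F] [Group G] [MulAction G Ω]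
    [Finite Ω] (Φ : Fam F G) {s : Setoid Ω}
    (hs : ∀ m ∈ Φ.X, ∀ a b, s a b → s (Φ.t m • a) (Φ.t m • b)) {S : Set (Quotient s)}
    (hS : ∀ ω, Quotient.mk s ω ∈ S → ∀ m ∈ Φ.X, Quotient.mk s (Φ.t m • ω) ∈ S) {T : Set F}
    (hT : ∀ ξ ∈ T, ∃ ω, Quotient.mk s ω ∈ S ∧ ξ ∈ perp (pairM F) (Φ.cls s hs ω)) :
    T.ncard ≤ Nat.card (perp (pairM F) Φ.X) * S.ncard := by
  classical
  have := Fintype.ofFinite F
  let _ : MulAction (Multiplicative Φ.X) (Quotient s) :=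
    { smul := fun y => Quotient.map (Φ.hom y • ·) (hs _ (Multiplicative.toAdd y).2)
      one_smul := fun o => Quotient.inductionOn o fun a =>
        congrArg (Quotient.mk s) (by change Φ.hom 1 • a = a; rw [map_one, one_smul])
      mul_smul := fun y z o => Quotient.inductionOn o fun a =>
        congrArg (Quotient.mk s) (by
          change Φ.hom (y * z) • a = Φ.hom y • Φ.hom z • a; rw [map_mul, mul_smul]) }
  let Ψ : Fam F (Multiplicative Φ.X) :=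
    { X := Φ.X
      t := fun c => if h : c ∈ Φ.X then Multiplicative.ofAdd ⟨c, h⟩ else 1
      add := fun a ha b hb => by rw [dif_pos ha, dif_pos hb, dif_pos (Φ.X.add_mem ha hb)]; rfl }
  have h1 : ∀ c ∈ Φ.X, ∀ ω, Ψ.t c • Quotient.mk s ω = Quotient.mk s (Φ.t c • ω) := fun c hc ω => by
    change (if h : c ∈ Φ.X then Multiplicative.ofAdd (⟨c, h⟩ : Φ.X) else 1) • _ = _
    rw [dif_pos hc]; rfl
  have h2 : ∀ ω, Ψ.stab (Quotient.mk s ω) = Φ.cls s hs ω := fun ω => by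
    ext c
    exact and_congr_right fun hc => by rw [h1 c hc]; exact Quotient.eq
  have h3 := sum_objs (s := Ψ.rel (Quotient s)) (R := fun o => (perp (pairM F) (Ψ.stab o) : Set F))
    (P := fun o => o ∈ S) (k := Nat.card (perp (pairM F) Φ.X))
    (fun a b h => by rw [Ψ.stab_congr h]) (fun a b h ha => by
      obtain ⟨m, hm, rfl⟩ := Ψ.rel_iff.1 ((Ψ.rel _).symm h)
      induction a using Quotient.inductionOn
      rw [h1 m hm]; exact hS _ ha m hm) fun o _ => by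
      have k1 := card_mul_card_perp (pairM F) Ctx.mul_nondeg (Ψ.stab o)
      have k2 := card_mul_card_perp (pairM F) Ctx.mul_nondeg Φ.X
      have k3 := Ψ.ncard_mul_card_stab o
      apply Nat.eq_of_mul_eq_mul_left (Nat.card_pos (α := Ψ.stab o))
      rw [← Nat.card_coe_set_eq, SetLike.coe_sort_coe, k1, ← k2, ← show _ = Nat.card Φ.X from k3]
      ring
  have h4 := two_le_sum (fun v => (objs (Ψ.rel (Quotient s))
    (fun o => (perp (pairM F) (Ψ.stab o) : Set F)) (fun o => o ∈ S) v).ncard) (T₁ := T) (T₂ := ∅)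
    (μ₁ := 1) (μ₂ := 0) (by simp) (fun ξ hξ => by
      obtain ⟨ω, k1, k2⟩ := hT ξ hξ
      exact (Set.ncard_pos (Set.toFinite _)).2 ⟨_, mk_mem_objs k1 (by rwa [h2])⟩) (by simp)
  rw [h3] at h4
  simpa using h4

variable {F : Type u} [Field F] {σ : F →+* F} {V : Type v} [AddCommGroup V] [Module F V]
  {P : PQ σ V}

namespace Ctx

variable {C : Ctx P} {Ω : Type*} [MulAction C.K Ω]

variable (C) in
/-- All transvections with centre `x` fix `ω`. -/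
def Fx (x : V) (ω : Ω) : Prop := ∀ c ∈ P.Λ, c ∈ C.Z x ω

theorem Z_twist {g : C.K} {x : V} {c : F} {ω : Ω} (hx : C.Pt x) {t : F} (hg : g.1 x = t • x)
    (h : c ∈ C.Z x ω) : σ t * t * c ∈ C.Z x (g • ω) := Z_smul hx (hg ▸ Z_conj g hx h)

theorem Fx.twist {g : C.K} {x : V} {ω : Ω} (h : C.Fx x ω) (hx : C.Pt x) {t : F} (ht : t ≠ 0)
    (hg : g.1 x = t • x) : C.Fx x (g • ω) := fun c hc => by
  have h1 := Z_twist hx hg (h _ (P.Λ_smul t⁻¹ c hc))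
  have h2 : σ t ≠ 0 := by simpa using ht
  convert h1 using 1
  rw [map_inv₀]; field_simp

theorem Fx.map {x : V} {ω : Ω} (h : C.Fx x ω) (hx : C.Pt x) (g : C.K) : C.Fx (g.1 x) (g • ω) :=
  fun c hc => Z_conj g hx (h c hc)

theorem inv_twist {g : C.K} {x : V} {t : F} (ht : t ≠ 0) (hg : g.1 x = t • x) :
    (g⁻¹).1 x = t⁻¹ • x :=
  inv_apply_eq' (by rw [map_smul, hg, smul_smul, inv_mul_cancel₀ ht, one_smul])

theorem fx_twist_iff {g : C.K} {x : V} {ω : Ω} (hx : C.Pt x) {t : F} (ht : t ≠ 0)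
    (hg : g.1 x = t • x) : C.Fx x (g • ω) ↔ C.Fx x ω :=
  ⟨fun h => by simpa using h.twist hx (inv_ne_zero ht) (inv_twist ht hg), fun h => h.twist hx ht hg⟩

theorem fx_congr {x : V} (hx : C.Pt x) {a b : Ω} (h : C.rel Ω x a b) : C.Fx x a ↔ C.Fx x b := by
  unfold Fx; rw [Z_congr hx h]

theorem comm_mem_Z {x a a' : V} {ω : Ω} (h : a ∈ C.A x ω) (h' : a' ∈ C.A x ω) :
    P.ε * P.B a a' - P.ε * P.B a' a ∈ C.Z x ω := by
  obtain ⟨c, h1, h2⟩ := h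
  obtain ⟨c', h3, h4⟩ := h'
  have h5 : P.ε * P.B a a' - P.ε * P.B a' a ∈ P.Λ := by
    have := (h1.add h3).sub_mem (add_comm a' a ▸ h3.add h1)
    convert this using 1; ring
  refine mem_Z.2 ⟨h5, ?_⟩
  have h6 : C.el x 0 (P.ε * P.B a a' - P.ε * P.B a' a) * (C.el x a' c' * C.el x a c) =
      C.el x a c * C.el x a' c' := by
    rw [el_mul h3 h1, el_mul h1 h3, el_mul (val_zero_iff.2 h5) (h3.add h1)]
    congr 1
    · abel
    · simp; ring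
  calc _ = C.el x 0 _ • (C.el x a' c' * C.el x a c) • ω := by rw [mul_smul, h2, h4]
    _ = ω := by rw [← mul_smul, h6, mul_smul, h4, h2]

theorem el_add_self {x a : V} {c : F} (hx : C.Pt x) (h : C.Val x a c) (t : F) :
    C.el x (a + t • x) (c + (σ t - P.ε * t)) = C.el x a c := by
  have := el_mul h (val_smul_self hx t)
  rw [el_smul_self hx, mul_one, P.B_smul_right, P.B_eq_zero_comm.1 h.2.1] at this
  simpa using this.symm

variable [Finite F]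

theorem D_of_map' {g : C.K} {x v : V} {ω : Ω} (hx : C.Pt x) (hg : g.1 x = x)
    (h : v ∈ C.D x (g • ω)) : (g⁻¹).1 v ∈ C.D x ω := by
  simpa using D_fix hx (inv_apply_eq' hg) h

theorem B_zero_of_mem_D {x : V} {U : Submodule F V} {ω : Ω} (h : ∀ a ∈ U, a ∈ C.A x ω) {v : V}
    (hv : v ∈ C.D x ω) : v ∈ P.perp U := fun a ha =>
  eq_zero_of_forall_mul_mem_κ fun t => by
    have := mem_D.1 hv _ (h _ (smul_mem _ (σ t) ha))
    rwa [P.B_smul_left, P.σσ] at this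

theorem B_zero_of_mem_A {x : V} {U : Submodule F V} {ω : Ω} (h : ∀ v ∈ U, v ∈ C.D x ω) {a : V}
    (ha : a ∈ C.A x ω) {v : V} (hv : v ∈ U) : P.B a v = 0 :=
  eq_zero_of_forall_mul_mem_κ fun t => by
    simpa using mem_D.1 (h _ (smul_mem _ t hv)) a ha

variable [FiniteDimensional F V]

theorem exists_E_of_not_fx {x : V} {ω : Ω} (h : ¬ C.Fx x ω) :
    ∃ χ ∈ C.E x ω, χ ∉ perp (pairM F) P.Λ := by
  by_contra h'
  push Not at h'
  exact h fun c hc => mem_Z_of_E fun t ht => h' t ht c hc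

theorem not_fx_of_E {x : V} {ω : Ω} {χ : F} (h : χ ∈ C.E x ω) (h' : χ ∉ perp (pairM F) P.Λ) :
    ¬ C.Fx x ω := fun k => h' fun c hc => mem_E.1 h c (k c hc)

theorem pow_le_card_D_sq {x : V} {ω : Ω} {δ : F} (hδ : δ ≠ 0)
    (h : ∀ a ∈ C.A x ω, ∀ a' ∈ C.A x ω, δ * P.B a' a ∈ κ F) :
    Nat.card F ^ finrank F V ≤ Nat.card (C.D x ω) ^ 2 := by
  have := C.finite_V
  rw [← card_A_mul_D (C := C) x ω, sq]
  refine Nat.mul_le_mul_right _ (Nat.card_le_card_of_injective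
    (fun a => (⟨δ • a.1, mem_D.2 fun a' ha' => ?_⟩ : C.D x ω)) fun a b hab =>
      Subtype.ext (smul_right_injective V hδ (congrArg Subtype.val hab :)))
  rw [P.B_smul_right]
  exact h _ a.2 _ ha'

variable (C Ω) in
/-- The root group orbits meeting `Pr` with `v.1 ∈ D` and `v.2 ∈ E`. -/
def ob2 (x : V) (Pr : Ω → Prop) (v : V × F) : Set (Quotient (C.rel Ω x)) :=
  objs (C.rel Ω x) (fun ω => (C.D x ω : Set V) ×ˢ (C.E x ω : Set F)) Pr v

theorem mk_mem_ob2 {x v : V} {s : F} {Pr : Ω → Prop} {ω : Ω} (h1 : Pr ω) (h2 : v ∈ C.D x ω)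
    (h3 : s ∈ C.E x ω) : Quotient.mk _ ω ∈ C.ob2 Ω x Pr (v, s) := mk_mem_objs h1 ⟨h2, h3⟩

variable (C) in
/-- Predicates invariant under the stabiliser of the line of `x`. -/
def Inv (x : V) (Pr : Ω → Prop) : Prop :=
  ∀ (g : C.K) (t : F) (ω : Ω), t ≠ 0 → g.1 x = t • x → Pr ω → Pr (g • ω)

theorem inv_true (x : V) : C.Inv x (fun _ : Ω => True) := fun _ _ _ _ _ _ => trivial

theorem inv_fx {x : V} (hx : C.Pt x) : C.Inv x (fun ω : Ω => C.Fx x ω) :=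
  fun _ _ _ ht hg h => h.twist hx ht hg

theorem inv_not_fx {x : V} (hx : C.Pt x) : C.Inv x (fun ω : Ω => ¬ C.Fx x ω) :=
  fun _ _ _ ht hg h k => h ((fx_twist_iff hx ht hg).1 k)

theorem Inv.fix {x : V} {Pr : Ω → Prop} (h : C.Inv x Pr) {g : C.K} (hg : g.1 x = x) {ω : Ω}
    (h1 : Pr ω) : Pr (g • ω) := h g 1 ω one_ne_zero (by rw [hg, one_smul]) h1

theorem Inv.rel {x : V} {Pr : Ω → Prop} (h : C.Inv x Pr) (hx : C.Pt x) {a b : Ω}
    (hab : C.rel Ω x a b) (h1 : Pr a) : Pr b := by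
  obtain ⟨u, c, h2, rfl⟩ := rel_iff.1 ((C.rel Ω x).symm hab)
  exact h.fix (el_apply_self hx h2) h1

theorem mem_ob2 {x v : V} {s : F} {Pr : Ω → Prop} (hx : C.Pt x) (hPr : C.Inv x Pr) {ω : Ω} :
    Quotient.mk _ ω ∈ C.ob2 Ω x Pr (v, s) ↔ Pr ω ∧ v ∈ C.D x ω ∧ s ∈ C.E x ω := by
  refine ⟨?_, fun h => mk_mem_ob2 h.1 h.2.1 h.2.2⟩
  rintro ⟨ω', h1, h2, h3, h4⟩
  have h5 : C.rel Ω x ω' ω := Quotient.exact h1
  exact ⟨hPr.rel hx h5 h2, D_congr hx h5 ▸ h3, E_congr hx h5 ▸ h4⟩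

theorem mk_smul_mem_ob2 {x v : V} {s : F} {Pr : Ω → Prop} (hx : C.Pt x) (hPr : C.Inv x Pr)
    {ω : Ω} (h : Quotient.mk _ ω ∈ C.ob2 Ω x Pr (v, s)) {g : C.K} (hg : g.1 x = x)
    (hv : g.1 v = v) : Quotient.mk _ (g • ω) ∈ C.ob2 Ω x Pr (v, s) :=
  let ⟨h1, h2, h3⟩ := (mem_ob2 hx hPr).1 h
  mk_mem_ob2 (hPr.fix hg h1) (hv ▸ D_fix hx hg h2) (E_fix hx hg h3)

variable [Finite Ω]

theorem ob2_mono {x v v' : V} {s s' : F} {Pr : Ω → Prop}
    (h : ∀ ω : Ω, v ∈ C.D x ω → s ∈ C.E x ω → v' ∈ C.D x ω ∧ s' ∈ C.E x ω) :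
    (C.ob2 Ω x Pr (v, s)).ncard ≤ (C.ob2 Ω x Pr (v', s')).ncard :=
  Set.ncard_le_ncard (by
    rintro _ ⟨ω, rfl, h1, h2, h3⟩
    exact mk_mem_ob2 h1 (h ω h2 h3).1 (h ω h2 h3).2)

theorem ob2_le {g : C.K} {x : V} (hx : C.Pt x) {t : F} (ht : t ≠ 0) (hg : g.1 x = t⁻¹ • x)
    {Pr : Ω → Prop} (hPr : C.Inv x Pr) (v : V) (s : F) :
    (C.ob2 Ω x Pr (v, s)).ncard ≤ (C.ob2 Ω x Pr (t • g.1 v, σ t * t * s)).ncard :=
  ncard_objs_le g (rel_smul_iff hx (inv_ne_zero ht) hg) fun ω h1 h2 =>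
    ⟨hPr g _ ω (inv_ne_zero ht) hg h1, D_twist hx ht hg h2.1, E_twist hx ht hg h2.2⟩

theorem ob2_le_fix {g : C.K} {x : V} (hx : C.Pt x) (hg : g.1 x = x) {Pr : Ω → Prop}
    (hPr : C.Inv x Pr) (v : V) (s : F) :
    (C.ob2 Ω x Pr (v, s)).ncard ≤ (C.ob2 Ω x Pr (g.1 v, s)).ncard := by
  simpa using ob2_le (Ω := Ω) hx one_ne_zero (by rw [hg, inv_one, one_smul]) hPr v s

theorem card_le_ob2 {x v : V} {s : F} {Pr : Ω → Prop} (hx : C.Pt x) (hPr : C.Inv x Pr) {ω : Ω}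
    (h : Quotient.mk _ ω ∈ C.ob2 Ω x Pr (v, s)) {ι : Type*} (g : ι → C.K)
    (hg : ∀ i, (g i).1 x = x) (hv : ∀ i, (g i).1 v = v)
    (hinj : ∀ i j, C.rel Ω x (g i • ω) (g j • ω) → i = j) :
    Nat.card ι ≤ (C.ob2 Ω x Pr (v, s)).ncard := by
  rw [← Nat.card_coe_set_eq]
  exact Nat.card_le_card_of_injective
    (fun i => ⟨Quotient.mk _ (g i • ω), mk_smul_mem_ob2 hx hPr h (hg i) (hv i)⟩)
    fun i j hij => hinj i j (Quotient.exact (congrArg Subtype.val hij))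

theorem count2 {x : V} (hx : C.Pt x) {Pr : Ω → Prop} (hPr : C.Inv x Pr) {k : ℕ}
    (hk : Nat.card F ^ (finrank F (C.R ⊔ span F {x} : Submodule F V) + 1) = k * Nat.card P.Λ)
    {T₁ T₂ T₃ : Set (V × F)} {μ₁ μ₂ μ₃ : ℕ} (h12 : Disjoint T₁ T₂) (h13 : Disjoint T₁ T₃)
    (h23 : Disjoint T₂ T₃) (h1 : ∀ v ∈ T₁, μ₁ ≤ (C.ob2 Ω x Pr v).ncard)
    (h2 : ∀ v ∈ T₂, μ₂ ≤ (C.ob2 Ω x Pr v).ncard) (h3 : ∀ v ∈ T₃, μ₃ ≤ (C.ob2 Ω x Pr v).ncard) :
    μ₁ * T₁.ncard + μ₂ * T₂.ncard + μ₃ * T₃.ncard ≤ k * {ω | Pr ω}.ncard := by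
  have := C.finite_V
  have := Fintype.ofFinite (V × F)
  refine (three_le_sum _ h12 h13 h23 h1 h2 h3).trans_eq (sum_objs
    (fun a b h => by rw [D_congr hx h, E_congr hx h]) (fun a b h h' => hPr.rel hx h h')
    fun ω _ => ?_)
  apply Nat.eq_of_mul_eq_mul_right (Nat.card_pos (α := P.Λ))
  rw [Set.ncard_prod, ← Nat.card_coe_set_eq, ← Nat.card_coe_set_eq, SetLike.coe_sort_coe,
    SetLike.coe_sort_coe, card_D_mul_E, hk]
  ring

theorem count2_two {x : V} (hx : C.Pt x) {Pr : Ω → Prop} (hPr : C.Inv x Pr) {k : ℕ}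
    (hk : Nat.card F ^ (finrank F (C.R ⊔ span F {x} : Submodule F V) + 1) = k * Nat.card P.Λ)
    {T₁ T₂ : Set (V × F)} {μ₁ μ₂ : ℕ} (h12 : Disjoint T₁ T₂)
    (h1 : ∀ v ∈ T₁, μ₁ ≤ (C.ob2 Ω x Pr v).ncard) (h2 : ∀ v ∈ T₂, μ₂ ≤ (C.ob2 Ω x Pr v).ncard) :
    μ₁ * T₁.ncard + μ₂ * T₂.ncard ≤ k * {ω | Pr ω}.ncard := by
  simpa using count2 hx hPr hk (T₃ := ∅) (μ₃ := 0) h12 (by simp) (by simp) h1 h2 (by simp)

theorem count2_one {x : V} (hx : C.Pt x) {Pr : Ω → Prop} (hPr : C.Inv x Pr) {k : ℕ}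
    (hk : Nat.card F ^ (finrank F (C.R ⊔ span F {x} : Submodule F V) + 1) = k * Nat.card P.Λ)
    {T : Set (V × F)} {μ : ℕ} (h1 : ∀ v ∈ T, μ ≤ (C.ob2 Ω x Pr v).ncard) :
    μ * T.ncard ≤ k * {ω | Pr ω}.ncard := by
  simpa using count2_two hx hPr hk (T₂ := ∅) (μ₂ := 0) (by simp) h1 (by simp)

end Ctx

end CfsgLib.MinIdx
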