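import Mathlib
import Cfsg.Agent.Lib.MinIdx.PCount
import Cfsg.Agent.Lib.MinIdx.OClass
import Cfsg.Agent.Lib.RootMax.NDCases
import Cfsg.Agent.Lib.Unitary.Simple

/-!
Unitary groups acting on a small set: field lemmas, transitivity and transfer of weights.
-/

set_option autoImplicit false
set_option linter.unusedSectionVars false

namespace CfsgLib.MinIdx

open CfsgLib.Forms CfsgLib.RootMax CfsgLib.ClMax Module Submodule

universe u v

variable {F : Type u} [Field F] {σ : F →+* F} {V : Type v} [AddCommGroup V] [Module F V]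
  {P : PQ σ V}

section herm

variable (hH : P.IsHerm)
include hH

theorem hΛσ {c : F} (hc : c ∈ P.Λ) : σ c = -c := by
  linear_combination (hH.mem_Λ c).1 hc

theorem hmul_mem {r c : F} (hr : σ r = r) (hc : c ∈ P.Λ) : r * c ∈ P.Λ :=
  (hH.mem_Λ _).2 (by rw [map_mul, hr, hΛσ hH hc]; ring)

theorem hδ : ∃ δ ∈ P.Λ, δ ≠ 0 :=
  let ⟨δ, h1, h2⟩ := hH.exists_trace_zero
  ⟨δ, (hH.mem_Λ δ).2 h2, h1⟩

theorem hsplit {z : F} (hz : σ z ≠ z) (p : F) : ∃ c ∈ P.Λ, ∃ d ∈ P.Λ, p = c + d * z := by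
  have h1 : z - σ z ≠ 0 := sub_ne_zero.2 hz.symm
  have h2 : σ z - z ≠ 0 := sub_ne_zero.2 hz
  refine ⟨p - (p + σ p) / (z - σ z) * z, (hH.mem_Λ _).2 ?_, (p + σ p) / (z - σ z),
    (hH.mem_Λ _).2 ?_, by ring⟩
  · simp only [map_sub, map_mul, map_div₀, map_add, P.σσ]
    field_simp; ring
  · simp only [map_sub, map_div₀, map_add, P.σσ]
    field_simp; ring

theorem hζ : ∃ ζ : F, σ ζ * ζ = 1 ∧ ζ * ζ ≠ 1 := by
  have key : ∀ t : F, σ (t * t) ≠ t * t → ∃ ζ : F, σ ζ * ζ = 1 ∧ ζ * ζ ≠ 1 := fun t ht => by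
    have h0 : t ≠ 0 := by rintro rfl; simp at ht
    have h1 : σ t ≠ 0 := by simpa using h0
    refine ⟨t / σ t, by rw [map_div₀, P.σσ]; field_simp, fun h => ht ?_⟩
    rw [map_mul]
    field_simp at h
    linear_combination -h
  obtain ⟨t, ht⟩ := hH.exists_ne_conj
  by_cases h : σ (t * t) = t * t
  · refine key (t + 1) fun h' => ht ?_
    simp only [map_mul, map_add, map_one] at h h'
    have h2 : (σ t - t) * (σ t + t) = 0 := by linear_combination h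
    have h3 := (mul_eq_zero.1 h2).resolve_left (sub_ne_zero.2 ht)
    have h4 : (σ t - t) * 2 = 0 := by linear_combination h' - h
    have h5 := (mul_eq_zero.1 h4).resolve_left (sub_ne_zero.2 ht)
    linear_combination h3 - t * h5
  · exact key t h

theorem exists_ni_perp [FiniteDimensional F V] (hP : P.Nondeg) {U : Submodule F V} {z : V}
    (hz : z ∈ P.perp U) (hz' : z ∉ U) : ∃ e ∈ P.perp U, P.B e e ≠ 0 := by
  rw [← P.perp_perp hP U] at hz'
  obtain ⟨y, hy, h⟩ : ∃ y ∈ P.perp U, P.B y z ≠ 0 := by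
    by_contra h
    push Not at h
    exact hz' h
  exact hH.exists_nonisotropic _ hy hz h

theorem u_exists_sing [FiniteDimensional F V] (hP : P.Nondeg) (h5 : 5 ≤ finrank F V) {x w : V}
    (hx : P.Sing x) (hx0 : x ≠ 0) (hxw : P.B x w = 0) (hw : P.B w w ≠ 0) :
    ∃ z, P.Sing z ∧ z ∈ P.perp (span F {x, w}) ∧ z ∉ span F {x, w} := by
  have hwx := P.B_eq_zero_comm.1 hxw
  obtain ⟨x', -, h1, h2⟩ := P.exists_partner hP (span F {w}) hx (fun h => by
    obtain ⟨t, rfl⟩ := mem_span_singleton.1 h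
    rw [P.B_smul_right] at hwx
    exact hx0 (by rw [(mul_eq_zero.1 hwx).resolve_right hw, zero_smul])) fun h hh => by
      obtain ⟨t, rfl⟩ := mem_span_singleton.1 hh
      rw [P.B_smul_right, hxw, mul_zero]
  obtain ⟨z, hz, hz0, hz1⟩ := herm_exists_sing hH (Z := P.perp (span F {x, w, x'})) (by
    have := P.finrank_perp hP (span F {x, w, x'})
    have := finrank_three_le (F := F) x w x'
    omega)
  rw [PQ.mem_perp_span] at hz
  refine ⟨z, hz1, P.mem_perp_span.2 (by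
    rintro _ (rfl | rfl) <;> exact hz _ (by simp)), fun h => hz0 ?_⟩
  obtain ⟨a, b, rfl⟩ := mem_span_pair.1 h
  have k1 := hz x' (by simp)
  have k2 := hz w (by simp)
  simp only [map_add, map_smul, smul_eq_mul, h1, h2 w (mem_span_singleton_self w), hwx] at k1 k2
  have k3 : a = 0 := by simpa using k1
  have k4 : b = 0 := by simpa [hw] using k2
  simp [k3, k4]

theorem u_witt [FiniteDimensional F V] (hP : P.Nondeg) (h5 : 5 ≤ finrank F V) (T : Submodule F V)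
    (hT : finrank F T ≤ 1) {u u' : V} (hu : u ∉ T) (hu' : u' ∉ T)
    (hB : ∀ t ∈ T, P.B t u' = P.B t u) (hN : P.B u' u' = P.B u u) :
    ∃ g ∈ P.isom ⊓ SLV F V, (∀ t ∈ T, g t = t) ∧ g u = u' := by
  obtain ⟨g, hg, h1, h2⟩ := P.witt_step hP T hu hu' hB ((hH.N_sub_iff _ _).2 hN)
  obtain ⟨z, hz, hz'⟩ := exists_mem_notMem (W := P.perp (T ⊔ span F {u'})) (W' := T ⊔ span F {u'})
    (by
      have := P.finrank_perp hP (T ⊔ span F {u'})
      have := finrank_sup_le T (span F {u'})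
      have := finrank_one_le (F := F) u'
      omega)
  obtain ⟨b, hb, hb0⟩ := exists_ni_perp hH hP hz hz'
  obtain ⟨k, k1, k2, k3⟩ := herm_exists_qrefl hH hP hb0
    (CfsgLib.Unitary.conj_det_mul_det hP hg.symm)
  have k4 : ∀ v ∈ T ⊔ span F {u'}, k v = v := fun v hv => by
    rw [k3, P.B_eq_zero_comm.1 (hb v hv)]; simp
  refine ⟨k * g, ⟨k1.comp hg, mem_SLV.2 ?_⟩, fun t ht => ?_, ?_⟩
  · change LinearMap.det (k.toLinearMap ∘ₗ g.toLinearMap) = 1
    rw [LinearMap.det_comp, k2, LinearEquiv.det_symm_mul_det]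
  · change k (g t) = t
    rw [h1 t ht, k4 t (mem_sup_left ht)]
  · change k (g u) = u'
    rw [h2, k4 u' (mem_sup_right (mem_span_singleton_self _))]

variable [Finite F]

theorem L_mul {r s : F} (hr : σ r = r) (hs : s ∈ perp (pairM F) P.Λ) :
    r * s ∈ perp (pairM F) P.Λ := fun c hc => by
  have := hs _ (hmul_mem hH hr hc)
  rwa [pairM_apply, mul_comm r, mul_assoc] at this

theorem L_of_mul {r s : F} (hr : σ r = r) (hr0 : r ≠ 0) (hs : r * s ∈ perp (pairM F) P.Λ) :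
    s ∈ perp (pairM F) P.Λ := by
  have := L_mul hH (r := r⁻¹) (by rw [map_inv₀, hr]) hs
  rwa [inv_mul_cancel_left₀ hr0] at this

theorem L_cover {χ : F} (hχ : χ ∉ perp (pairM F) P.Λ) (s : F) :
    ∃ r, σ r = r ∧ ∃ l ∈ perp (pairM F) P.Λ, s = r * χ + l := by
  obtain ⟨δ, h1, h2⟩ := hδ hH
  have h3 : ∀ c ∈ P.Λ, σ (δ * c) = δ * c := fun c hc => by
    rw [map_mul, hΛσ hH h1, hΛσ hH hc]; ring
  let f : P.Λ × perp (pairM F) P.Λ → F := fun p => δ * p.1 * χ + p.2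
  have h4 : Function.Bijective f := by
    refine (Nat.bijective_iff_injective_and_card f).2 ⟨fun p p' h => ?_, by
      rw [Nat.card_prod, card_mul_card_perp (pairM F) Ctx.mul_nondeg]⟩
    have h5 : p.1.1 - p'.1.1 = 0 := by
      by_contra h5
      refine hχ (L_of_mul hH (h3 _ (sub_mem p.1.2 p'.1.2)) (mul_ne_zero h2 h5) ?_)
      convert sub_mem p'.2.2 p.2.2 using 1
      linear_combination h
    have h6 : p.1 = p'.1 := Subtype.ext (sub_eq_zero.1 h5)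
    refine Prod.ext h6 (Subtype.ext ?_)
    simpa [f, h6] using h
  obtain ⟨p, hp⟩ := h4.2 s
  exact ⟨_, h3 _ p.1.2, _, p.2.2, hp.symm⟩

theorem exists_δ {χ : F} (hχ : χ ∉ perp (pairM F) P.Λ) :
    ∃ δ : F, δ ≠ 0 ∧ ∀ z, (z - σ z) * χ ∈ κ F → δ * z ∈ κ F := by
  let M : AddSubgroup F :=
    { carrier := {z | (z - σ z) * χ ∈ κ F}
      zero_mem' := by simp
      add_mem' := fun {a b} ha hb => by
        change _ ∈ κ F
        convert (κ F).add_mem ha hb using 1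
        rw [map_add]; ring
      neg_mem' := fun {a} ha => by
        change _ ∈ κ F
        convert (κ F).neg_mem ha using 1
        rw [map_neg]; ring }
  by_contra h
  push Not at h
  obtain ⟨θ, hθ⟩ := hH.exists_trace_one
  refine hχ fun c hc => ?_
  have h1 : θ * c ∈ M := mem_of_forall_perp (pairM F) Ctx.mul_nondeg Ctx.mul_nondeg' fun δ hδ => by
    by_cases h0 : δ = 0
    · simp [h0]
    · obtain ⟨z, h2, h3⟩ := h δ h0
      exact absurd (mul_comm z δ ▸ hδ z h2) h3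
  have h2 : (θ * c - σ (θ * c)) * χ ∈ κ F := h1
  rwa [map_mul, hΛσ hH hc, show θ * c - σ θ * -c = c by linear_combination c * hθ] at h2

theorem card_fixed : Nat.card (σ.eqLocusField (RingHom.id F)) = Nat.card P.Λ := by
  obtain ⟨δ, h1, h2⟩ := hδ hH
  refine Nat.card_congr ⟨fun r => ⟨r * δ, hmul_mem hH r.2 h1⟩, fun c => ⟨c / δ, ?_⟩,
    fun r => Subtype.ext (by simp [h2]), fun c => Subtype.ext (by simp [h2])⟩
  change σ _ = _
  rw [map_div₀, hΛσ hH h1, hΛσ hH c.2]; simp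

theorem card_sq : Nat.card P.Λ + 1 ≤ 2 * {a : F | ∃ s, σ s = s ∧ s * s = a}.ncard ∧
    ((2 : F) = 0 → Nat.card P.Λ ≤ {a : F | ∃ s, σ s = s ∧ s * s = a}.ncard) := by
  obtain ⟨h1, h2⟩ := card_units_le (F := σ.eqLocusField (RingHom.id F)) 1 one_ne_zero
  set S := {s : σ.eqLocusField (RingHom.id F) | ∃ t, t ≠ 0 ∧ t * t * 1 = s} with hS
  have h3 : S.ncard + 1 ≤ {a : F | ∃ s, σ s = s ∧ s * s = a}.ncard := by
    rw [← Set.ncard_image_of_injective S Subtype.val_injective, ← Set.ncard_insert_of_notMem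
      (a := 0) (by rintro ⟨_, ⟨t, k1, rfl⟩, k2⟩; simp [k1] at k2)]
    refine Set.ncard_le_ncard ?_
    rintro _ (rfl | ⟨_, ⟨t, -, rfl⟩, rfl⟩)
    exacts [⟨0, by simp⟩, ⟨t, t.2, by simp⟩]
  rw [card_fixed hH] at h1 h2
  exact ⟨by omega, fun h => (h2 (Subtype.ext h)).trans h3⟩

theorem fixed_two (h2 : Nat.card P.Λ = 2) {r : F} (hr : σ r = r) : r = 0 ∨ r = 1 := by
  simpa [Subtype.ext_iff] using eq_zero_or_one_of_card ((card_fixed hH).trans h2) ⟨r, hr⟩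

end herm

namespace Ctx

variable {C : Ctx P} {Ω : Type*} [MulAction C.K Ω]

variable (C Ω) in
/-- The standing hypotheses for a unitary group acting on a small set. -/
structure UH (r c J : ℕ) : Prop where
  hH : P.IsHerm
  hR : C.R = ⊥
  hK : C.K = P.isom ⊓ SLV F V
  h5 : 5 ≤ finrank F V
  hq : Nat.card F = (r + 1) ^ 2
  hΛ : Nat.card P.Λ = r + 1
  hc : Nat.card F ^ (finrank F V - 1) = (r + 1) ^ 6 * c
  hJ : ∀ x, P.Sing x → x ≠ 0 → {v | P.B x v = 0 ∧ P.B v v = 0}.ncard = J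
  J1 : (r + 1) ^ 5 * c ≤ J + (r + 1) ^ 2 * r * c
  J2 : J ≤ (r + 1) ^ 5 * c + (r + 1) ^ 2 * r * c
  hN : r * (r + 2) * Nat.card Ω < r * (r + 2) * ((r + 1) ^ 5 * c) + J
  nt : ∃ (g : C.K) (ω : Ω), g • ω ≠ ω

variable {r c J : ℕ} (h : C.UH Ω r c J)
include h

theorem UH.mem_perp (a : V) : a ∈ P.perp C.R := by rw [h.hR, P.perp_bot]; trivial

theorem UH.pt {x : V} (hx : P.B x x = 0) : C.Pt x := ⟨(h.hH.sing_iff x).2 hx, h.mem_perp x⟩

theorem UH.val {x a : V} {d : F} (h1 : P.B x a = 0) (h2 : d + σ d = P.B a a) : C.Val x a d :=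
  ⟨h.mem_perp a, h1, (h.hH.mem_Λ _).2 (by
    rw [map_sub, P.σσ]; linear_combination h2 - h.hH.N_add_conj a)⟩

theorem UH.el_apply {x a : V} {d : F} (hx : C.Pt x) (ha : C.Val x a d) (v : V) :
    (C.el x a d).1 v = v + (P.B a v - d * P.B x v) • x - P.B x v • a := by
  rw [Ctx.el_apply hx ha, rt_def, h.hH.ε_eq, one_mul]

omit h in
theorem z_apply {y : V} {d : F} (hy : C.Pt y) (hd : d ∈ P.Λ) (v : V) :
    (C.el y 0 d).1 v = v - (d * P.B y v) • y := by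
  rw [Ctx.el_apply hy (val_zero_iff.2 hd), rt_def]
  simp [sub_eq_add_neg]

omit h in
theorem z_fix {y v : V} {d : F} (hy : C.Pt y) (hd : d ∈ P.Λ) (hv : P.B y v = 0) :
    (C.el y 0 d).1 v = v := by rw [z_apply hy hd, hv]; simp

theorem UH.memK {g : V ≃ₗ[F] V} (h1 : P.IsIso g) (h2 : LinearMap.det (g : V →ₗ[F] V) = 1) :
    g ∈ C.K := by rw [h.hK]; exact ⟨h1, mem_SLV.2 h2⟩

variable [Finite F] [FiniteDimensional F V]

theorem UH.r_pos : 1 ≤ r := by
  have := one_lt_q F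
  rw [h.hq] at this
  rcases r with _ | r
  · simp at this
  · omega

theorem UH.c_pos : 1 ≤ c := by
  have := pow_pos (Nat.card_pos (α := F)) (finrank F V - 1)
  rw [h.hc] at this
  exact Nat.pos_of_mul_pos_left this

theorem UH.card_L : Nat.card (perp (pairM F) P.Λ) = r + 1 := by
  have := card_mul_card_perp (pairM F) Ctx.mul_nondeg P.Λ
  rw [h.hΛ, h.hq, sq] at this
  exact Nat.eq_of_mul_eq_mul_left r.succ_pos this

theorem UH.witt (T : Submodule F V) (hT : finrank F T ≤ 1) {u u' : V} (hu : u ∉ T) (hu' : u' ∉ T)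
    (hB : ∀ t ∈ T, P.B t u' = P.B t u) (hN : P.B u' u' = P.B u u) :
    ∃ g : C.K, (∀ t ∈ T, g.1 t = t) ∧ g.1 u = u' :=
  let ⟨g, h1, h2⟩ := u_witt h.hH C.nondeg h.h5 T hT hu hu' hB hN
  ⟨⟨g, h.hK.ge h1⟩, h2⟩

theorem UH.tr0 {u u' : V} (hu : u ≠ 0) (hu' : u' ≠ 0) (hN : P.B u' u' = P.B u u) :
    ∃ g : C.K, g.1 u = u' :=
  let ⟨g, _, h1⟩ := h.witt ⊥ (by simp) hu hu' (by simp) hN
  ⟨g, h1⟩

theorem UH.tr1 {x u u' : V} (hu : u ∉ span F {x}) (hu' : u' ∉ span F {x}) (h1 : P.B x u = 0)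
    (h2 : P.B x u' = 0) (hN : P.B u' u' = P.B u u) : ∃ g : C.K, g.1 x = x ∧ g.1 u = u' :=
  let ⟨g, k1, k2⟩ := h.witt (span F {x}) (finrank_one_le x) hu hu' (fun t ht => by
    obtain ⟨s, rfl⟩ := mem_span_singleton.1 ht
    rw [P.B_smul_left, P.B_smul_left, h1, h2]) hN
  ⟨g, k1 x (mem_span_singleton_self x), k2⟩

theorem UH.tw {x : V} (hx : C.Pt x) (hx0 : x ≠ 0) {t : F} (ht : t ≠ 0) :
    ∃ g : C.K, g.1 x = t • x :=
  h.tr0 hx0 (smul_ne_zero ht hx0) (by rw [(hx.smul t).self_eq, hx.self_eq])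

theorem UH.exists_moved {x : V} (hx : C.Pt x) (hx0 : x ≠ 0) : ∃ ω : Ω, ¬ C.Fx x ω := by
  by_contra hn
  push Not at hn
  obtain ⟨g, ω, hg⟩ := h.nt
  have hg' := h.hK.le g.2
  obtain ⟨k, hk, hk'⟩ := h.hH.mem_of_transvections C.nondeg
    (T := (MulAction.stabilizer C.K ω).map C.K.subtype) (fun k y d hy hd hk => by
      have hd' : -d ∈ P.Λ := neg_mem ((h.hH.mem_Λ d).2 hd)
      refine ⟨C.el y 0 (-d), ?_, LinearEquiv.ext fun v => by
        rw [hk]; exact (z_apply (h.pt hy) hd' v).trans (by simp)⟩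
      by_cases hy0 : y = 0
      · rw [hy0]; exact tyF_zero ω _ _ (val_zero_iff.2 hd')
      obtain ⟨s, rfl⟩ := h.tr0 hx0 hy0 (by rw [hy, hx.self_eq])
      simpa using (mem_Z.1 (((hn (s⁻¹ • ω)).map hx s) _ hd')).2)
    (Or.inl (by have := h.h5; omega)) (by
      rintro _ ⟨t, -, rfl⟩
      have := h.hK.le t.2
      exact ⟨this.1, mem_SLV.1 this.2⟩) g.1 hg'.1 (mem_SLV.1 hg'.2)
  exact hg ((Subtype.ext hk' : k = g) ▸ hk)

theorem UH.hk {x : V} (hx0 : x ≠ 0) :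
    Nat.card F ^ (finrank F (C.R ⊔ span F {x} : Submodule F V) + 1) =
      (r + 1) ^ 3 * Nat.card P.Λ := by
  rw [h.hR, bot_sup_eq, finrank_span_singleton hx0, h.hq, h.hΛ]; ring

theorem UH.card_perp {x : V} (hx0 : x ≠ 0) : {v | P.B x v = 0}.ncard = (r + 1) ^ 6 * c := by
  have h1 := P.finrank_perp C.nondeg (span F {x})
  rw [finrank_span_singleton hx0] at h1
  rw [← h.hc, show finrank F V - 1 = finrank F (P.perp (span F {x})) by omega, ← ncard_submodule]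
  exact congrArg _ (Set.ext fun v => P.mem_perp_span_singleton.symm)

theorem UH.card_ni {x : V} (hx : C.Pt x) (hx0 : x ≠ 0) :
    {v | P.B x v = 0 ∧ P.B v v ≠ 0}.ncard + J = (r + 1) ^ 6 * c := by
  have := C.finite_V
  rw [← h.hJ x hx.1 hx0, ← h.card_perp hx0, ← Set.ncard_union_eq (Set.disjoint_left.2
    fun v k1 k2 => k1.2 k2.2)]
  congr 1
  ext v
  by_cases k : P.B v v = 0 <;> simp [k]

variable [Finite Ω] {x : V} {Pr : Ω → Prop}

theorem UH.tr (hx : C.Pt x) (hx0 : x ≠ 0) (hPr : C.Inv x Pr) {v v' : V} (hv : v ∉ span F {x})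
    (hv' : v' ∉ span F {x}) (h1 : P.B x v = 0) (h2 : P.B x v' = 0) {t : F} (ht : t ≠ 0)
    (hN : P.B v' v' = σ t * t * P.B v v) (s : F) :
    (C.ob2 Ω x Pr (v, s)).ncard ≤ (C.ob2 Ω x Pr (v', σ t * t * s)).ncard := by
  obtain ⟨g, hg⟩ := h.tw hx hx0 (inv_ne_zero ht)
  have h3 : t • g.1 x = x := by rw [hg, smul_smul, mul_inv_cancel₀ ht, one_smul]
  obtain ⟨k, k1, k2⟩ := h.tr1 (x := x) (u := t • g.1 v) (u' := v') (fun k => hv (by
      obtain ⟨a, ha⟩ := mem_span_singleton.1 k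
      refine mem_span_singleton.2 ⟨a, g.1.injective (smul_right_injective V ht ?_)⟩
      simp only [map_smul, ← ha]
      rw [smul_comm, h3])) hv'
    (by rw [← h3, P.B_smul_left, P.B_smul_right, B_map, h1]; simp) h2
    (by rw [hN, P.B_smul_left, P.B_smul_right, B_map, mul_assoc])
  exact (ob2_le hx ht hg hPr v s).trans (k2 ▸ ob2_le_fix hx k1 hPr _ _)

theorem UH.M_iso (hx : C.Pt x) (hx0 : x ≠ 0) (hPr : C.Inv x Pr) {w v : V} (hw : w ∉ span F {x})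
    (h1 : P.B x w = 0) (hw0 : P.B w w = 0) (h2 : P.B x v = 0) (hv0 : P.B v v = 0) (χ : F) {a l : F}
    (ha : σ a = a) (hl : l ∈ perp (pairM F) P.Λ) :
    (C.ob2 Ω x Pr (w, χ)).ncard ≤ (C.ob2 Ω x Pr (v, a * χ + l)).ncard := by
  have k1 : ∃ t, t ≠ 0 ∧ (a = 0 ∨ σ t * t = a) := by
    by_cases h0 : a = 0
    · exact ⟨1, one_ne_zero, Or.inl h0⟩
    · obtain ⟨t, ht⟩ := h.hH.norm_surj a ha
      exact ⟨t, by rintro rfl; exact h0 (by simpa using ht.symm), Or.inr ht⟩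
  obtain ⟨t, ht, k2⟩ := k1
  have k3 : ∀ v', (v' = v ∨ v ∈ span F {x}) → (C.ob2 Ω x Pr (v', σ t * t * χ)).ncard ≤
      (C.ob2 Ω x Pr (v, a * χ + l)).ncard := fun v' hv' => ob2_mono fun ω j1 j2 =>
    ⟨hv'.elim (· ▸ j1) fun j => mem_D_of_mem ω (mem_sup_right j),
      add_mem (k2.elim (fun j => by simp [j]) (· ▸ j2)) (mem_E_of_perp x ω hl)⟩
  by_cases hv : v ∈ span F {x}
  · exact (h.tr hx hx0 hPr hw hw h1 h1 ht (by simp [hw0]) χ).trans (k3 _ (Or.inr hv))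
  · exact (h.tr hx hx0 hPr hw hv h1 h2 ht (by simp [hw0, hv0]) χ).trans (k3 _ (Or.inl rfl))

omit h in
theorem notMem_of_ni (hx : C.Pt x) {w : V} (hw : P.B w w ≠ 0) : w ∉ span F {x} := fun k => by
  obtain ⟨t, rfl⟩ := mem_span_singleton.1 k
  exact hw (hx.smul t).self_eq

theorem UH.M_ni (hx : C.Pt x) (hx0 : x ≠ 0) (hPr : C.Inv x Pr) {w v : V}
    (h1 : P.B x w = 0) (hw0 : P.B w w ≠ 0) (h2 : P.B x v = 0) (hv0 : P.B v v ≠ 0) (χ : F) {k l : F}
    (hk : k ∈ ({0, 1, -1} : Set F)) (hl : l ∈ perp (pairM F) P.Λ) :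
    (C.ob2 Ω x Pr (w, χ)).ncard ≤ (C.ob2 Ω x Pr (v, k * (P.B v v / P.B w w) * χ + l)).ncard := by
  obtain ⟨t, ht⟩ := h.hH.norm_surj (P.B v v / P.B w w) (by rw [map_div₀, h.hH.conj, h.hH.conj])
  refine (h.tr hx hx0 hPr (notMem_of_ni hx hw0) (notMem_of_ni hx hv0) h1 h2 (t := t) (by
    rintro rfl; exact div_ne_zero hv0 hw0 (by simpa using ht.symm))
    (by rw [ht, div_mul_cancel₀ _ hw0]) χ).trans (ob2_mono fun ω j1 j2 =>
      ⟨j1, add_mem ?_ (mem_E_of_perp x ω hl)⟩)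
  rw [ht] at j2
  rcases hk with rfl | rfl | rfl
  · simp
  · simpa using j2
  · simpa using j2

end Ctx

end CfsgLib.MinIdx
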