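import Mathlib
import Cfsg.Agent.Lib.MinIdx.UBase

/-!
Unitary groups acting on a small set: the structure of the annihilators `D`.
-/

set_option autoImplicit false
set_option linter.unusedSectionVars false

namespace CfsgLib.MinIdx

open CfsgLib.Forms CfsgLib.RootMax CfsgLib.ClMax Module Submodule

universe u v

theorem uA1 {r c J N : ℕ} (hr : 1 ≤ r) (J1 : (r + 1) ^ 5 * c ≤ J + (r + 1) ^ 2 * r * c)
    (hN : r * (r + 2) * N < r * (r + 2) * ((r + 1) ^ 5 * c) + J)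
    (H : (r + 2) * (J * (r + 1) ^ 2) ≤ (r + 1) ^ 3 * N) : False := by
  have h1 : (r + 2) * J ≤ (r + 1) * N :=
    Nat.le_of_mul_le_mul_left (c := (r + 1) ^ 2) (by nlinarith) (by positivity)
  obtain ⟨k, rfl⟩ := Nat.exists_eq_add_of_le' hr
  have h2 := Nat.mul_le_mul_left ((k + 1) * (k + 3)) h1
  have h3 := Nat.mul_lt_mul_of_pos_left hN (show 0 < k + 2 by omega)
  have h4 := Nat.mul_le_mul_left (k ^ 3 + 7 * k ^ 2 + 14 * k + 7) J1
  nlinarith [Nat.zero_le (k ^ 7 * c), Nat.zero_le (k ^ 6 * c), Nat.zero_le (k ^ 5 * c),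
    Nat.zero_le (k ^ 4 * c), Nat.zero_le (k ^ 3 * c), Nat.zero_le (k ^ 2 * c), Nat.zero_le (k * c)]

theorem uA2 {r c J N M : ℕ} (hr : 2 ≤ r) (J2 : J ≤ (r + 1) ^ 5 * c + (r + 1) ^ 2 * r * c)
    (hM : M + J = (r + 1) ^ 6 * c)
    (hN : r * (r + 2) * N < r * (r + 2) * ((r + 1) ^ 5 * c) + J)
    (H : 3 * (r + 2) * (M * (r + 1)) ≤ 2 * ((r + 1) ^ 3 * N)) : False := by
  have h1 : 3 * (r + 2) * M ≤ 2 * (r + 1) ^ 2 * N :=
    Nat.le_of_mul_le_mul_left (c := r + 1) (by nlinarith) (by positivity)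
  obtain ⟨k, rfl⟩ := Nat.exists_eq_add_of_le' hr
  have h2 := Nat.mul_le_mul_left ((k + 2) * (k + 4)) h1
  have h3 := Nat.mul_lt_mul_of_pos_left hN (show 0 < 2 * (k + 3) ^ 2 by positivity)
  have h4 := Nat.mul_le_mul_left (3 * (k + 2) * (k + 4) ^ 2 + 2 * (k + 3) ^ 2) J2
  have h5 := congrArg (3 * (k + 2) * (k + 4) ^ 2 * ·) hM
  nlinarith [Nat.zero_le (k ^ 9 * c), Nat.zero_le (k ^ 8 * c), Nat.zero_le (k ^ 7 * c),
    Nat.zero_le (k ^ 6 * c), Nat.zero_le (k ^ 5 * c),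
    Nat.zero_le (k ^ 4 * c), Nat.zero_le (k ^ 3 * c), Nat.zero_le (k ^ 2 * c), Nat.zero_le (k * c)]

theorem uA4 {r c J N : ℕ} (hr : 1 ≤ r) (J2 : J ≤ (r + 1) ^ 5 * c + (r + 1) ^ 2 * r * c)
    (hN : r * (r + 2) * N < r * (r + 2) * ((r + 1) ^ 5 * c) + J)
    (H : 2 * ((r + 1) ^ 6 * c * (r + 1)) + (r + 1) ^ 6 * c * ((r + 1) * r) ≤ (r + 1) ^ 3 * N) :
    False := by
  have h1 : (r + 2) * (r + 1) ^ 4 * c ≤ N :=
    Nat.le_of_mul_le_mul_left (c := (r + 1) ^ 3) (by nlinarith) (by positivity)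
  obtain ⟨k, rfl⟩ := Nat.exists_eq_add_of_le' hr
  have h2 := Nat.mul_le_mul_left ((k + 1) * (k + 3)) h1
  nlinarith [Nat.zero_le (k ^ 6 * c), Nat.zero_le (k ^ 5 * c),
    Nat.zero_le (k ^ 4 * c), Nat.zero_le (k ^ 3 * c), Nat.zero_le (k ^ 2 * c), Nat.zero_le (k * c)]

theorem uA5 {r J N : ℕ} (hr : 1 ≤ r) (hN : r * (r + 2) * N < J)
    (H : 2 * (J * (r + 1)) ≤ (r + 1) ^ 3 * N) : False := by
  have h1 : 2 * J ≤ (r + 1) ^ 2 * N :=
    Nat.le_of_mul_le_mul_left (c := r + 1) (by nlinarith) (by positivity)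
  obtain ⟨k, rfl⟩ := Nat.exists_eq_add_of_le' hr
  nlinarith [Nat.zero_le (k ^ 2 * N), Nat.zero_le (k * N)]

theorem uA6 {r c J N M : ℕ} (hr : 1 ≤ r) (J2 : J ≤ (r + 1) ^ 5 * c + (r + 1) ^ 2 * r * c)
    (hM : M + J = (r + 1) ^ 6 * c) (hN : r * (r + 2) * N < J)
    (H : 2 * (M * (r + 1)) ≤ (r + 1) ^ 3 * N) : False := by
  have h1 : 2 * M ≤ (r + 1) ^ 2 * N :=
    Nat.le_of_mul_le_mul_left (c := r + 1) (by nlinarith) (by positivity)
  obtain ⟨k, rfl⟩ := Nat.exists_eq_add_of_le' hr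
  have h2 := Nat.mul_le_mul_left ((k + 1) * (k + 3)) h1
  have h3 := Nat.mul_lt_mul_of_pos_left hN (show 0 < (k + 2) ^ 2 by positivity)
  have h4 := Nat.mul_le_mul_left (2 * (k + 1) * (k + 3) + (k + 2) ^ 2) J2
  have h5 := congrArg (2 * (k + 1) * (k + 3) * ·) hM
  nlinarith [Nat.zero_le (k ^ 8 * c), Nat.zero_le (k ^ 7 * c),
    Nat.zero_le (k ^ 6 * c), Nat.zero_le (k ^ 5 * c),
    Nat.zero_le (k ^ 4 * c), Nat.zero_le (k ^ 3 * c), Nat.zero_le (k ^ 2 * c), Nat.zero_le (k * c)]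

theorem uA7 {r c J N : ℕ} (hr : 1 ≤ r) (J2 : J ≤ (r + 1) ^ 5 * c + (r + 1) ^ 2 * r * c)
    (hN : r * (r + 2) * N < J) (H : (r + 1) ^ 6 * c * (r + 1) ≤ (r + 1) ^ 3 * N) : False := by
  have h1 : (r + 1) ^ 4 * c ≤ N :=
    Nat.le_of_mul_le_mul_left (c := (r + 1) ^ 3) (by nlinarith) (by positivity)
  obtain ⟨k, rfl⟩ := Nat.exists_eq_add_of_le' hr
  have h2 := Nat.mul_le_mul_left ((k + 1) * (k + 3)) h1
  nlinarith [Nat.zero_le (k ^ 6 * c), Nat.zero_le (k ^ 5 * c),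
    Nat.zero_le (k ^ 4 * c), Nat.zero_le (k ^ 3 * c), Nat.zero_le (k ^ 2 * c), Nat.zero_le (k * c)]

variable {F : Type u} [Field F] {σ : F →+* F} {V : Type v} [AddCommGroup V] [Module F V]
  {P : PQ σ V} [FiniteDimensional F V]

/-- An additive subgroup of `x^⊥` closed under enough transvections is all of `x^⊥`. -/
theorem u_gen (hH : P.IsHerm) (hP : P.Nondeg) (h5 : 5 ≤ finrank F V) {x : V} (hx : P.Sing x)
    (hx0 : x ≠ 0) {D : AddSubgroup V} (h1 : ∀ v ∈ D, P.B x v = 0)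
    (hR : ∀ w ∈ D, P.B w w ≠ 0 → ∀ y, P.B y y = 0 → P.B x y = 0 → P.B w y = 0 → ∀ u ∈ D,
      ∀ d ∈ P.Λ, (d * P.B y u) • y ∈ D) {w u : V} (hw : w ∈ D) (hw0 : P.B w w ≠ 0) (hu : u ∈ D)
    (hu' : u ∉ span F {x, w}) {v : V} (hv : P.B x v = 0) : v ∈ D := by
  have bz := fun {a b : V} (k : P.B a b = 0) => P.B_eq_zero_comm.1 k
  have b1 := fun {a b : V} (k : P.B a b = 1) => show P.B b a = 1 by rw [← hH.conj, k, map_one]
  have pp := fun {w y : V} (k : y ∈ P.perp (span F {x, w})) =>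
    And.intro (P.mem_perp_span.1 k x (by simp)) (P.mem_perp_span.1 k w (by simp))
  have R2 : ∀ w ∈ D, P.B w w ≠ 0 → ∀ y, P.B y y = 0 → P.B x y = 0 → P.B w y = 0 → ∀ u ∈ D,
      ∀ u' ∈ D, ∀ z, P.B y u ≠ 0 → σ z ≠ z → P.B y u' = z * P.B y u → ∀ t : F, t • y ∈ D := by
    intro w hw hw0 y k1 k2 k3 u hu u' hu' z k4 k5 k6 t
    obtain ⟨a, ha, b, hb, k7⟩ := hsplit hH k5 (t / P.B y u)
    have := add_mem (hR w hw hw0 y k1 k2 k3 u hu a ha) (hR w hw hw0 y k1 k2 k3 u' hu' b hb)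
    rwa [← add_smul, k6, ← mul_assoc, ← add_mul, ← k7, div_mul_cancel₀ _ k4] at this
  have R3 : ∀ w ∈ D, P.B w w ≠ 0 → ∀ y, P.B y y = 0 → P.B x y = 0 → P.B w y = 0 → ∀ u,
      (∀ t : F, t • u ∈ D) → P.B y u ≠ 0 → ∀ t : F, t • y ∈ D := by
    intro w hw hw0 y k1 k2 k3 u hu k4
    obtain ⟨z, hz⟩ := hH.exists_ne_conj
    exact R2 w hw hw0 y k1 k2 k3 u (by simpa using hu 1) _ (hu z) z k4 hz (P.B_smul_right _ _ _)
  have part : ∀ w y, P.B y y = 0 → P.B x y = 0 → P.B w y = 0 → y ∉ span F {x, w} →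
      ∃ y', P.B y' y' = 0 ∧ P.B y' y = 1 ∧ P.B x y' = 0 ∧ P.B w y' = 0 := by
    intro w y k1 k2 k3 k4
    obtain ⟨y', j1, j2, j3⟩ := P.exists_partner hP _ ((hH.sing_iff y).2 k1) k4 fun a ha => by
      obtain ⟨s, t, rfl⟩ := mem_span_pair.1 ha
      simp [bz k2, bz k3]
    exact ⟨y', j1.self_eq, j2, bz (j3 x (subset_span (by simp))), bz (j3 w (subset_span (by simp)))⟩
  have UI : ∀ w ∈ D, P.B w w ≠ 0 → ∀ y y', P.B y y = 0 → P.B x y = 0 → P.B w y = 0 →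
      P.B y' y = 1 → P.B x y' = 0 → P.B w y' = 0 → (∀ t : F, t • y ∈ D) →
      ∀ v, P.B x v = 0 → P.B w v = 0 → v ∈ D := by
    intro w hw hw0 y y' k1 k2 k3 k4 k5 k6 k7
    have key : ∀ v, P.B x v = 0 → P.B w v = 0 → P.B v y ≠ 0 → v ∈ D := fun v j1 j2 j3 => by
      have := R3 w hw hw0 _ (sing_add_smul ((hH.sing_iff y).2 k1) j3).self_eq (by simp [j1, k2])
        (by simp [j2, k3]) y k7 (by simpa [k1] using j3) 1
      rw [one_smul] at this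
      exact (D.add_mem_cancel_right (k7 _)).1 this
    intro v j1 j2
    by_cases j3 : P.B v y = 0
    · simpa using sub_mem (key (v + y') (by simp [j1, k5]) (by simp [j2, k6]) (by simp [j3, k4]))
        (key y' k5 k6 (by simp [k4]))
    · exact key v j1 j2 j3
  obtain ⟨δ, hδ1, hδ0⟩ := hδ hH
  have σδ := hΛσ hH hδ1
  obtain ⟨θ, hθ⟩ := hH.exists_trace_one
  have σθ : σ θ = 1 - θ := by linear_combination hθ
  obtain ⟨z, hz, hz1, hz2⟩ := u_exists_sing hH hP h5 hx hx0 (h1 w hw) hw0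
  obtain ⟨y, hy, hy1, hyu, hy2⟩ := exists_sing_not_orth' hP hz hz1 hz2 hu'
  obtain ⟨xy, wy⟩ := pp hy1
  have yy := hy.self_eq
  obtain ⟨y', yy', y'y, xy', wy'⟩ := part w y yy xy wy hy2
  have m1 := hR w hw hw0 y yy xy wy u hu δ hδ1
  set μ := δ * P.B y u with hμ
  have hμ0 : μ ≠ 0 := mul_ne_zero hδ0 hyu
  have σμ0 : σ μ ≠ 0 := by simpa using hμ0
  have m2 := hR w hw hw0 y' yy' xy' wy' _ m1 δ hδ1
  rw [P.B_smul_right, y'y, mul_one] at m2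
  set h := P.B w w with hh
  have σh : σ h = h := hH.conj w w
  set b := δ * (σ μ * μ) with hb
  have hb0 : b ≠ 0 := mul_ne_zero hδ0 (mul_ne_zero σμ0 hμ0)
  have σb : σ b = -b := by simp only [hb, map_mul, σδ, P.σσ]; ring
  set w' := w + μ • y with hw'
  have m3 : w' ∈ D := add_mem hw m1
  have w'w' : P.B w' w' = h := by simp [hw', wy, bz wy, yy, hh]
  have xw' := h1 w' m3
  set y₂ := (-(b / h)) • w + (σ θ * σ b / h * μ) • y + (δ * μ) • y' with hy₂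
  have e1 : P.B y₂ y = -δ * σ μ := by simp [hy₂, wy, yy, y'y, σδ]
  have e2 : P.B y₂ y' = θ * b / h * σ μ := by simp [hy₂, wy', yy', b1 y'y, P.σσ, σh]
  have e3 : P.B y₂ w = b := by simp [hy₂, bz wy, bz wy', ← hh, σb, σh, hw0]
  have y₂y₂ : P.B y₂ y₂ = 0 := by
    nth_rewrite 2 [hy₂]
    simp only [map_add, map_smul, smul_eq_mul, e1, e2, e3, σb, σθ]
    rw [hb]; field_simp; ring
  have xy₂ : P.B x y₂ = 0 := by simp [hy₂, xy, xy', h1 w hw]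
  have w'y₂ : P.B w' y₂ = 0 := bz (by
    rw [hw', map_add, map_smul, e1, e3, hb, smul_eq_mul]; ring)
  have m4 := R2 w' m3 (w'w' ▸ hw0) y₂ y₂y₂ xy₂ w'y₂ _ m1 _ m2 (-(θ * b / h)) (by
    rw [P.B_smul_right, e1]; simp [hμ0, hδ0]) (by
      rw [map_neg, map_div₀, map_mul, σθ, σb, σh]
      intro k
      field_simp at k
      simp at k) (by rw [P.B_smul_right, P.B_smul_right, e1, e2]; ring)
  obtain ⟨z', z'z', z'z, xz', wz'⟩ := part w' y₂ y₂y₂ xy₂ w'y₂ fun k => by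
    obtain ⟨s, t, k⟩ := mem_span_pair.1 k
    have := congrArg (P.B y) k
    rw [← hH.conj y₂, e1] at this
    simp [hw', bz xy, bz wy, yy, hμ0, hδ0] at this
  have m5 := UI w' m3 (w'w' ▸ hw0) y₂ z' y₂y₂ xy₂ w'y₂ z'z xz' wz' m4
  obtain ⟨ν, hν⟩ := hH.norm_surj h σh
  have hν0 : ν ≠ 0 := by rintro rfl; exact hw0 (by simpa using hν.symm)
  set w₃ := y₂ + θ • z' with hw₃
  set w₄ := y₂ - σ θ • z' with hw₄
  have xw₄ : P.B x w₄ = 0 := by simp [hw₄, xy₂, xz']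
  have ww₄ : P.B w' w₄ = 0 := by simp [hw₄, w'y₂, wz']
  have w₄w₄ : P.B w₄ w₄ = -1 := by
    simp [hw₄, y₂y₂, z'z', z'z, b1 z'z, P.σσ]; linear_combination -hθ
  have m6 : ∀ t : F, t • w₄ ∈ D := fun t => m5 _ (by simp [xw₄]) (by simp [ww₄])
  have m7 := R3 w₃ (m5 _ (by simp [hw₃, xy₂, xz']) (by simp [hw₃, w'y₂, wz'])) (by
      simp [hw₃, y₂y₂, z'z', z'z, b1 z'z, σθ]) (w' + ν • w₄) (by
      simp [w'w', ww₄, bz ww₄, w₄w₄]; linear_combination -hν) (by simp [xw', xw₄]) (by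
      simp [hw₃, hw₄, bz w'y₂, bz wz', y₂y₂, z'z', z'z, b1 z'z, mul_comm]) w₄ m6 (by simp [ww₄, w₄w₄, hν0])
  have m8 : (P.B w' v / h) • w' ∈ D := by
    have := sub_mem (m7 (P.B w' v / h)) (m6 (P.B w' v / h * ν))
    rwa [smul_add, smul_smul, add_sub_cancel_right] at this
  simpa using add_mem (m5 (v - (P.B w' v / h) • w') (by simp [hv, xw']) (by simp [w'w', hw0])) m8

end CfsgLib.MinIdx
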