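import Mathlib
import Cfsg.Agent.Lib.MinIdx.UGen

/-!
Unitary groups acting on a small set: points moved by transvections.
-/

set_option autoImplicit false
set_option linter.unusedSectionVars false

namespace CfsgLib.MinIdx

open CfsgLib.Forms CfsgLib.RootMax CfsgLib.ClMax Module Submodule

universe u v

variable {F : Type u} [Field F] {σ : F →+* F} {V : Type v} [AddCommGroup V] [Module F V]
  {P : PQ σ V} [Finite F] [FiniteDimensional F V]

namespace Ctx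

variable {C : Ctx P} {Ω : Type*} [MulAction C.K Ω] {x : V} {Pr : Ω → Prop}

theorem D_of_rel2 (hx : C.Pt x) {g g' : C.K} (hg : g.1 x = x) (hg' : g'.1 x = x) {ω : Ω}
    (h : C.rel Ω x (g • ω) (g' • ω)) {u : V} (hu : u ∈ C.D x ω) : (g'⁻¹).1 (g.1 u) ∈ C.D x ω :=
  D_of_map' hx hg' (D_congr hx h ▸ D_fix hx hg hu)

variable [Finite Ω] {r c J : ℕ} (h : C.UH Ω r c J)
include h

theorem UH.ncard_L : (perp (pairM F) P.Λ : Set F).ncard = r + 1 := h.card_L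

theorem UH.img_iso (hx : C.Pt x) (hPr : C.Inv x Pr) {ω : Ω} (h0 : Pr ω) {s : F}
    (hs : s ∈ C.E x ω) (hiso : ∀ v ∈ C.D x ω, P.B v v = 0) {w u : V} (hw : w ∈ C.D x ω)
    (hw' : w ∉ span F {x}) (hu : u ∈ C.D x ω) (hu' : u ∉ span F {x, w}) :
    ∃ w' ∈ C.D x ω, w' ∉ span F {x} ∧ r + 2 ≤ (C.ob2 Ω x Pr (w', s)).ncard := by
  have bz := fun {a b : V} (k : P.B a b = 0) => P.B_eq_zero_comm.1 k
  by_cases H : ∀ a ∈ C.D x ω, ∀ b ∈ C.D x ω, P.B a b = 0
  · have hxD : x ∈ C.D x ω := by simpa using smul_mem_D x ω (1 : F)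
    obtain ⟨y, k1, k2, k3⟩ := P.exists_partner C.nondeg _ ((h.hH.sing_iff u).2 (hiso u hu)) hu'
      fun a ha => by
        obtain ⟨s, t, rfl⟩ := mem_span_pair.1 ha
        simp [H u hu x hxD, H u hu w hw]
    have py := h.pt k1.self_eq
    have pu := h.pt (hiso u hu)
    have uy : P.B u y = 1 := by rw [← h.hH.conj, k2, map_one]
    obtain ⟨δ, hδ1, hδ0⟩ := hδ h.hH
    have hδ2 : -δ⁻¹ ∈ P.Λ := (h.hH.mem_Λ _).2 (by simp [hΛσ h.hH hδ1])
    let g : Option P.Λ → C.K := fun o =>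
      o.elim (C.el u 0 (-δ⁻¹) * C.el y 0 δ) fun d => C.el y 0 d
    have gfix : ∀ v ∈ C.D x ω, v ∈ span F {x, w} → ∀ o, (g o).1 v = v := by
      rintro v hv hv' (_ | d)
      · exact (congrArg _ (z_fix py hδ1 (k3 v hv'))).trans (z_fix pu hδ2 (H u hu v hv))
      · exact z_fix py d.2 (k3 v hv')
    have gx := gfix x hxD (subset_span (by simp))
    have g1 : (g none).1 u = -δ • y := by
      change (C.el u 0 (-δ⁻¹)).1 ((C.el y 0 δ).1 u) = _
      rw [z_apply py hδ1, z_apply pu hδ2]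
      simp [k2, uy, hiso u hu, hδ0]
    have g2 : ∀ d : P.Λ, (g (some d)).1 u = u - d.1 • y := fun d =>
      (z_apply py d.2 u).trans (by rw [k2, mul_one])
    refine ⟨w, hw, hw', ?_⟩
    have := card_le_ob2 hx hPr (mk_mem_ob2 h0 hw hs) g gx (gfix w hw (subset_span (by simp)))
      fun i j hij => by
        have k4 := H _ (D_of_rel2 hx (gx i) (gx j) hij hu) u hu
        rw [← B_map (g j), apply_inv'] at k4
        rcases i with _ | i <;> rcases j with _ | j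
        · rfl
        · simp [g1, g2, k2, k1.self_eq, hδ0] at k4
        · simp [g1, g2, uy, k1.self_eq, hδ0] at k4
        · simp only [g2, map_sub, map_smul, LinearMap.sub_apply, LinearMap.smul_apply,
            map_smulₛₗ, k2, uy, hiso u hu, k1.self_eq, hΛσ h.hH i.2, smul_eq_mul] at k4
          exact congrArg some (Subtype.ext (by linear_combination k4))
    rwa [Finite.card_option, h.hΛ] at this
  push Not at H
  obtain ⟨a, ha, b, hb, hab⟩ := H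
  have xa := D_orth hx ha
  have xb := D_orth hx hb
  obtain ⟨z, hz, hz'⟩ := exists_mem_notMem (W := P.perp (span F {x, a, b})) (W' := span F {x}) (by
    have := P.finrank_perp C.nondeg (span F {x, a, b})
    have := finrank_three_le (F := F) x a b
    have := finrank_one_le (F := F) x
    have := h.h5
    omega)
  obtain ⟨e, he, he0⟩ := exists_ni_perp h.hH C.nondeg hz fun k => hz' (by
    obtain ⟨α, β, γ, rfl⟩ := mem_span_triple.1 k
    have k1 := P.mem_perp_span.1 hz a (by simp)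
    have k2 := P.mem_perp_span.1 hz b (by simp)
    have k3 : P.B b a ≠ 0 := fun j => hab (bz j)
    simp [bz xa, bz xb, hiso a ha, hiso b hb, hab, k3] at k1 k2
    simp [k1, k2, smul_mem, mem_span_singleton_self])
  rw [PQ.mem_perp_span] at he
  have ae := he a (by simp)
  have pa := h.pt (hiso a ha)
  have va : ∀ t : F, C.Val a (t • e) (σ (P.N (t • e))) := fun t =>
    val_self (h.mem_perp _) (by simp [ae])
  have gx : ∀ t : F, (C.el a (t • e) (σ (P.N (t • e)))).1 x = x := fun t =>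
    el_apply_of_orth pa (va t) (bz xa) (by simp [bz (he x (by simp))])
  refine ⟨a, ha, fun k => ?_, ?_⟩
  · obtain ⟨t, rfl⟩ := mem_span_singleton.1 k
    simp [xb] at hab
  have := card_le_ob2 hx hPr (mk_mem_ob2 h0 ha hs) _ gx (fun t => el_apply_self pa (va t))
    fun i j hij => by
      have k4 := hiso _ (sub_mem (D_of_rel2 hx (gx i) (gx j) hij hb) hb)
      rw [← B_map (C.el a (j • e) _), map_sub, apply_inv', h.el_apply pa (va i),
        h.el_apply pa (va j)] at k4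
      have k5 : ∀ α α' : F, b + α • a - P.B a b • i • e - (b + α' • a - P.B a b • j • e) =
          (α - α') • a + (P.B a b * (j - i)) • e := fun _ _ => by module
      rw [k5] at k4
      simp [hiso a ha, ae, bz ae, he0, hab, sub_eq_zero] at k4
      rcases k4 with k | k
      exacts [(σ.injective k).symm, k.symm]
  rw [h.hq] at this
  have := h.r_pos
  nlinarith

theorem UH.tor (hx : C.Pt x) (hPr : C.Inv x Pr) {w y : V} {χ : F} {ω : Ω}
    (hω : Quotient.mk _ ω ∈ C.ob2 Ω x Pr (w, χ)) (hy : C.Pt y) (xy : P.B x y = 0)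
    (wy : P.B w y = 0) (hy' : y ∉ span F {x, w}) {d : F} (hd : d ∈ P.Λ)
    (hn : ¬ C.rel Ω x (C.el y 0 d • ω) ω) :
    {a : F | ∃ s, σ s = s ∧ s * s = a}.ncard ≤ (C.ob2 Ω x Pr (w, χ)).ncard := by
  have bz := fun {a b : V} (k : P.B a b = 0) => P.B_eq_zero_comm.1 k
  have hs : ∀ m ∈ (C.zfam y).X, ∀ a b, C.rel Ω x a b →
      C.rel Ω x ((C.zfam y).t m • a) ((C.zfam y).t m • b) := fun m hm a b =>
    (rel_fix hx (z_fix hy hm (bz xy)) a b).1
  obtain ⟨ξ, h1, h2⟩ : ∃ ξ ∈ perp (pairM F) ((C.zfam y).cls _ hs ω), ξ ∉ perp (pairM F) P.Λ := by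
    by_contra k
    push Not at k
    exact hn (mem_of_forall_perp (pairM F) mul_nondeg mul_nondeg' fun t ht => k t ht d hd).2
  obtain ⟨y', k1, k2, k3⟩ := P.exists_partner C.nondeg _ hy.1 hy' fun a ha => by
    obtain ⟨s, t, rfl⟩ := mem_span_pair.1 ha
    simp [bz xy, bz wy]
  set S := {a : F | ∃ s, σ s = s ∧ s * s = a} with hS
  have h3 := Fam.ncard_chars_le (C.zfam y) hs (S := C.ob2 Ω x Pr (w, χ))
    (fun ω' k m hm => mk_smul_mem_ob2 hx hPr k (z_fix hy hm (bz xy)) (z_fix hy hm (bz wy)))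
    (T := (fun p : F × F => p.1 * ξ + p.2) '' S ×ˢ (perp (pairM F) P.Λ : Set F)) (by
      rintro _ ⟨⟨_, l⟩, ⟨⟨s, j1, rfl⟩, hl⟩, rfl⟩
      by_cases hs0 : s = 0
      · exact ⟨ω, hω, fun m hm => by simpa [hs0] using hl m hm.1⟩
      obtain ⟨g, j2, j3, j4, j5⟩ := exists_dil C.nondeg hy.1 k1 k2 hs0
      let g' : C.K := ⟨g, h.memK j2 (by rw [j3, j1, mul_inv_cancel₀ hs0])⟩
      have gx : g'.1 x = x := j5 x (bz xy) (k3 x (subset_span (by simp)))
      refine ⟨g'⁻¹ • ω, mk_smul_mem_ob2 hx hPr hω (inv_apply_eq' gx)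
        (inv_apply_eq' (j5 w (bz wy) (k3 w (subset_span (by simp))))), fun m hm => ?_⟩
      have j6 := (rel_fix hx gx _ _).1 hm.2
      have j7 := el_conj g' hy (val_zero_iff.2 hm.1)
      rw [map_zero, show g'.1 y = s • y from j4, el_smul_left hy (val_zero_iff.2 hm.1),
        smul_zero] at j7
      rw [smul_inv_smul, ← mul_smul, ← mul_smul] at j6
      have j8 := h1 (σ s * s * m) ⟨P.Λ_smul s m hm.1, by
        change C.rel Ω x (C.el y 0 _ • ω) ω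
        rw [← j7]; exact j6⟩
      convert (κ F).add_mem j8 (hl m hm.1) using 1
      simp only [pairM_apply, j1]; ring)
  rw [Set.ncard_image_of_injOn, Set.ncard_prod, mul_comm] at h3
  · exact Nat.le_of_mul_le_mul_left h3 Nat.card_pos
  · rintro ⟨_, l⟩ ⟨⟨s, j1, rfl⟩, hl⟩ ⟨_, l'⟩ ⟨⟨s', j2, rfl⟩, hl'⟩ k
    have k4 : s * s - s' * s' = 0 := by
      by_contra k4
      refine h2 (L_of_mul h.hH (by simp [j1, j2]) k4 ?_)
      convert sub_mem hl' hl using 1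
      linear_combination k
    rw [sub_eq_zero] at k4
    simpa [k4] using k

theorem UH.cnt_ni (hx : C.Pt x) (hx0 : x ≠ 0) (hPr : C.Inv x Pr) {w : V} (xw : P.B x w = 0)
    (hw0 : P.B w w ≠ 0) {χ : F} (hχ : χ ∉ perp (pairM F) P.Λ) {T : Set (V × F)} {μ : ℕ}
    (hT : ∀ p ∈ T, P.B p.1 p.1 = 0) (hμ : ∀ p ∈ T, μ ≤ (C.ob2 Ω x Pr p).ncard) :
    (C.ob2 Ω x Pr (w, χ)).ncard * ({v | P.B x v = 0 ∧ P.B v v ≠ 0}.ncard *
      (({0, 1, -1} : Set F).ncard * (r + 1))) + μ * T.ncard ≤ (r + 1) ^ 3 * {ω | Pr ω}.ncard := by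
  have := C.finite_V
  have h1 := count2_two hx hPr (h.hk hx0) (T₁ := (fun p : V × F × F =>
    (p.1, p.2.1 * (P.B p.1 p.1 / P.B w w) * χ + p.2.2)) '' {v | P.B x v = 0 ∧ P.B v v ≠ 0} ×ˢ
      ({0, 1, -1} : Set F) ×ˢ (perp (pairM F) P.Λ : Set F)) (T₂ := T) (Set.disjoint_left.2 (by
        rintro _ ⟨p, hp, rfl⟩ k
        exact hp.1.2 (hT _ k))) (by
      rintro _ ⟨p, hp, rfl⟩
      exact h.M_ni hx hx0 hPr xw hw0 hp.1.1 hp.1.2 χ hp.2.1 hp.2.2) hμ
  rwa [Set.ncard_image_of_injOn, Set.ncard_prod, Set.ncard_prod, h.ncard_L] at h1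
  rintro ⟨v, k, l⟩ ⟨hv, hk, hl⟩ ⟨v', k', l'⟩ ⟨-, hk', hl'⟩ e
  obtain ⟨rfl, e⟩ := Prod.ext_iff.1 e
  have σk : ∀ k ∈ ({0, 1, -1} : Set F), σ k = k := by rintro _ (rfl | rfl | rfl) <;> simp
  have k4 : k - k' = 0 := by
    by_contra k4
    refine hχ (L_of_mul h.hH (r := (k - k') * (P.B v v / P.B w w)) (by
      simp [σk k hk, σk k' hk', h.hH.conj]) (mul_ne_zero k4 (div_ne_zero hv.2 hw0)) ?_)
    convert sub_mem hl' hl using 1
    linear_combination e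
  rw [sub_eq_zero] at k4
  simpa [k4] using e

theorem UH.cnt_iso (hx : C.Pt x) (hx0 : x ≠ 0) (hPr : C.Inv x Pr) {w : V} (hw : w ∉ span F {x})
    (xw : P.B x w = 0) (hw0 : P.B w w = 0) {χ : F} (hχ : χ ∉ perp (pairM F) P.Λ) :
    ∀ p ∈ {v | P.B x v = 0 ∧ P.B v v = 0} ×ˢ (Set.univ : Set F),
      (C.ob2 Ω x Pr (w, χ)).ncard ≤ (C.ob2 Ω x Pr p).ncard := by
  rintro ⟨v, s⟩ ⟨hv, -⟩
  obtain ⟨a, ha, l, hl, rfl⟩ := L_cover h.hH hχ s
  exact h.M_iso hx hx0 hPr hw xw hw0 hv.1 hv.2 χ ha hl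

theorem UH.card_D (ω : Ω) {χ : F} (h1 : χ ∈ C.E x ω) (hχ : χ ∉ perp (pairM F) P.Λ) :
    (r + 1) ^ 5 ≤ Nat.card (C.D x ω) := by
  obtain ⟨δ, hδ0, hδ⟩ := exists_δ h.hH hχ
  have h2 := pow_le_card_D_sq (C := C) (x := x) (ω := ω) hδ0 fun a ha a' ha' => hδ _ (by
    have := mem_E.1 h1 _ (comm_mem_Z ha' ha)
    rwa [h.hH.ε_eq, one_mul, one_mul, ← h.hH.conj a' a] at this)
  rw [h.hq, ← pow_mul, mul_comm, pow_mul] at h2
  exact (Nat.pow_le_pow_right r.succ_pos h.h5).trans ((Nat.pow_le_pow_iff_left two_ne_zero).1 h2)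

theorem UH.exists_notMem (ω : Ω) {χ : F} (h1 : χ ∈ C.E x ω) (hχ : χ ∉ perp (pairM F) P.Λ) (w : V) :
    ∃ u ∈ C.D x ω, u ∉ span F {x, w} := by
  by_contra k
  push Not at k
  have h2 := (h.card_D ω h1 hχ).trans ((card_le_pow k).trans
    (Nat.pow_le_pow_right Nat.card_pos (finrank_two_le x w)))
  rw [h.hq, ← pow_mul] at h2
  exact absurd ((Nat.pow_le_pow_iff_right (by have := h.r_pos; omega)).1 h2) (by norm_num)

theorem UH.exists_iso (hx : C.Pt x) (hx0 : x ≠ 0) (hr : r = 1) {ω : Ω} {χ : F} (h1 : χ ∈ C.E x ω)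
    (hχ : χ ∉ perp (pairM F) P.Λ) {w : V} (hw : w ∈ C.D x ω) (hw0 : P.B w w ≠ 0) :
    ∃ u ∈ C.D x ω, u ∉ span F {x} ∧ P.B u u = 0 := by
  have := C.finite_V
  subst hr
  obtain ⟨δ, hδ1, hδ0⟩ := hδ h.hH
  let f : V →+ P.Λ := AddMonoidHom.mk' (fun v => ⟨(P.B w v + P.B v w) * δ,
    hmul_mem h.hH (by rw [map_add, h.hH.conj, h.hH.conj, add_comm]) hδ1⟩) fun a b =>
      Subtype.ext (by simp; ring)
  have h2 := (h.card_D ω h1 hχ).trans (card_le_card_inf_ker f _)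
  have h3 : (span F {x} : Set V).ncard = 4 := by
    rw [ncard_submodule, finrank_span_singleton hx0, h.hq]; norm_num
  obtain ⟨v, hv, hv'⟩ := Set.exists_mem_notMem_of_ncard_lt_ncard
    (s := (span F {x} : Set V) ∪ (· - w) '' (span F {x} : Set V))
    (t := (C.D x ω ⊓ f.ker : AddSubgroup V)) (by
      refine ((Set.ncard_union_le _ _).trans (Nat.add_le_add_left (Set.ncard_image_le) _)).trans_lt ?_
      rw [h3, ← Nat.card_coe_set_eq, SetLike.coe_sort_coe]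
      rw [h.hΛ] at h2
      omega)
  have h4 : P.B w v + P.B v w = 0 := by
    simpa [f, hδ0] using congrArg Subtype.val (AddMonoidHom.mem_ker.1 hv.2)
  rcases fixed_two h.hH h.hΛ (h.hH.conj v v) with k | k
  · exact ⟨v, hv.1, fun j => hv' (Or.inl j), k⟩
  refine ⟨v + w, add_mem hv.1 hw, fun j => hv' (Or.inr ⟨_, j, by simp⟩), ?_⟩
  have k2 := (fixed_two h.hH h.hΛ (h.hH.conj w w)).resolve_left hw0
  have k3 : (1 : F) + 1 = 0 := (fixed_two h.hH h.hΛ (by simp)).resolve_right (by simp)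
  simp only [map_add, LinearMap.add_apply, k, k2]
  linear_combination h4 + k3

theorem UH.rel_z (hx : C.Pt x) (hx0 : x ≠ 0) {ω : Ω} (hm : ¬ C.Fx x ω) {w y : V}
    (hw : w ∈ C.D x ω) (hw0 : P.B w w ≠ 0) (hy : C.Pt y) (xy : P.B x y = 0)
    (wy : P.B w y = 0) (hy' : y ∉ span F {x, w}) {d : F} (hd : d ∈ P.Λ) :
    C.rel Ω x (C.el y 0 d • ω) ω := by
  by_contra hn
  obtain ⟨χ, h1, hχ⟩ := exists_E_of_not_fx hm
  have h2 := h.tor hx (inv_not_fx hx) (mk_mem_ob2 hm hw h1) hy xy wy hy' hd hn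
  obtain ⟨h3, h4⟩ := card_sq h.hH
  rw [h.hΛ] at h3 h4
  have h5 := h.card_ni hx hx0
  have h6 : 2 ≤ ({0, 1, -1} : Set F).ncard := (Set.ncard_pair (zero_ne_one' F)).ge.trans
    (Set.ncard_le_ncard (by rintro _ (rfl | rfl) <;> simp))
  have hN := ncard_le_card' {ω : Ω | ¬ C.Fx x ω}
  rcases h.r_pos.eq_or_lt with hr | hr
  · obtain ⟨u, k1, k2, k3⟩ := h.exists_iso hx hx0 hr.symm h1 hχ hw hw0
    have k0 : 1 ≤ (C.ob2 Ω x (fun ω => ¬ C.Fx x ω) (u, χ)).ncard :=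
      (Set.ncard_pos (Set.toFinite _)).2 ⟨_, mk_mem_ob2 hm k1 h1⟩
    have k4 := h.cnt_ni hx hx0 (inv_not_fx (Ω := Ω) hx) (D_orth hx hw) hw0 hχ
      (T := {v | P.B x v = 0 ∧ P.B v v = 0} ×ˢ (Set.univ : Set F)) (fun p hp => hp.1.2)
      fun p hp => k0.trans (h.cnt_iso hx hx0 (inv_not_fx hx) k2 (D_orth hx k1) k3 hχ p hp)
    rw [Set.ncard_prod, h.hJ x hx.1 hx0, Set.ncard_univ, h.hq] at k4
    have k5 := h.J2
    have k6 := h.hN
    subst hr
    have k7 := Nat.mul_le_mul (le_trans (show 2 ≤ _ by omega) h2)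
      (Nat.mul_le_mul_left {v | P.B x v = 0 ∧ P.B v v ≠ 0}.ncard (Nat.mul_le_mul_right 2 h6))
    norm_num at k4 k5 k6 k7 h5
    omega
  have k4 := h.cnt_ni hx hx0 (inv_not_fx (Ω := Ω) hx) (D_orth hx hw) hw0 hχ (μ := 0) (T := ∅)
    (by simp) (by simp)
  have k5 : 3 * (r + 2) ≤ 2 * ((C.ob2 Ω x (fun ω => ¬ C.Fx x ω) (w, χ)).ncard *
      ({0, 1, -1} : Set F).ncard) := by
    by_cases k : (2 : F) = 0
    · have := Nat.mul_le_mul ((h4 k).trans h2) h6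
      omega
    · rw [Set.ncard_eq_three.2 ⟨0, 1, -1, by simp, by simp, fun j => k (by linear_combination j),
        rfl⟩]
      omega
  refine uA2 hr h.J2 h5 h.hN ?_
  nlinarith [Nat.mul_le_mul_right ({v | P.B x v = 0 ∧ P.B v v ≠ 0}.ncard * (r + 1)) k5,
    Nat.mul_le_mul_left ((r + 1) ^ 3) hN]

theorem UH.z_mem (hx : C.Pt x) {ω : Ω} {w y : V} (hw : w ∈ C.D x ω) (hw0 : P.B w w ≠ 0)
    (hy : P.B y y = 0) (xy : P.B x y = 0) (wy : P.B w y = 0) {u : V} (hu : u ∈ C.D x ω) {d : F}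
    (hd : d ∈ P.Λ) (H : y ∉ span F {x, w} → C.rel Ω x (C.el y 0 d • ω) ω) :
    (d * P.B y u) • y ∈ C.D x ω := by
  by_cases hy' : y ∈ span F {x, w}
  · obtain ⟨s, t, rfl⟩ := mem_span_pair.1 hy'
    have : t = 0 := by simpa [P.B_eq_zero_comm.1 (D_orth hx hw), hw0] using wy
    simpa [this, smul_smul] using smul_mem_D x ω _
  · have := D_of_rel hx (z_fix (h.pt hy) hd (P.B_eq_zero_comm.1 xy)) (H hy') hu
    rw [z_apply (h.pt hy) hd] at this
    simpa using sub_mem hu this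

theorem UH.big (hx : C.Pt x) (hx0 : x ≠ 0) {ω : Ω} (hm : ¬ C.Fx x ω) {v : V} (hv : P.B x v = 0) :
    v ∈ C.D x ω := by
  obtain ⟨χ, h1, hχ⟩ := exists_E_of_not_fx hm
  by_cases H : ∀ w ∈ C.D x ω, P.B w w = 0
  · exfalso
    obtain ⟨w, k1, k2⟩ := h.exists_notMem ω h1 hχ x
    rw [Set.pair_eq_singleton] at k2
    obtain ⟨u, k3, k4⟩ := h.exists_notMem ω h1 hχ w
    obtain ⟨w', k5, k6, k7⟩ := h.img_iso hx (inv_not_fx hx) hm h1 H k1 k2 k3 k4
    have k8 := count2_one hx (inv_not_fx (Ω := Ω) hx) (h.hk hx0) fun p hp => k7.trans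
      (h.cnt_iso hx hx0 (inv_not_fx hx) k6 (D_orth hx k5) (H _ k5) hχ p hp)
    rw [Set.ncard_prod, h.hJ x hx.1 hx0, Set.ncard_univ, h.hq] at k8
    exact uA1 h.r_pos h.J1 h.hN (k8.trans (Nat.mul_le_mul_left _ (ncard_le_card' _)))
  push Not at H
  obtain ⟨w, hw, hw0⟩ := H
  obtain ⟨u, hu, hu'⟩ := h.exists_notMem ω h1 hχ w
  exact u_gen h.hH C.nondeg h.h5 hx.1 hx0 (fun _ => D_orth hx) (fun w hw hw0 y k1 k2 k3 u hu d hd =>
    h.z_mem hx hw hw0 k1 k2 k3 hu hd fun k => h.rel_z hx hx0 hm hw hw0 (h.pt k1) k2 k3 k hd)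
    hw hw0 hu hu' hv

end Ctx

end CfsgLib.MinIdx
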