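import Mathlib
import Cfsg.Agent.Lib.MinIdx.UClass

/-!
A point stabiliser in a small transitive action of a unitary group of dimension at least five
fixes a one-dimensional subspace.
-/

set_option autoImplicit false
set_option linter.unusedSectionVars false

namespace CfsgLib.MinIdx

open CfsgLib.Forms CfsgLib.RootMax CfsgLib.ClMax Module Submodule

universe u v

variable {F : Type u} [Field F] {σ : F →+* F} {V : Type v} [AddCommGroup V] [Module F V]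
  {P : PQ σ V} [Finite F] [FiniteDimensional F V]

namespace Ctx

variable {C : Ctx P} {Ω : Type*} [MulAction C.K Ω] {x : V} {Pr : Ω → Prop}

theorem el_mem_range {a : V} {d : F} (h : C.Val x a d) : C.el x a d ∈ (C.heisHom x).range :=
  ⟨⟨(a, d), h⟩, rfl⟩

theorem conj_mem_range (hx : C.Pt x) {g : C.K} {t : F} (ht : t ≠ 0) (hg : g.1 x = t • x) {k : C.K}
    (hk : k ∈ (C.heisHom x).range) : g * k * g⁻¹ ∈ (C.heisHom x).range := by
  obtain ⟨⟨⟨a, d⟩, h1⟩, rfl⟩ := hk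
  have h2 := h1.map g
  rw [hg] at h2
  change g * C.el x a d * g⁻¹ ∈ _
  rw [el_conj g hx h1, hg, el_smul_left hx (h2.of_smul ht)]
  exact el_mem_range ((h2.of_smul ht).smul t)

theorem TyT.eq_one {ω : Ω} (h : C.TyT x ω) {k : C.K} (hk : k ∈ (C.heisHom x).range)
    (h1 : k • ω = ω) : k = 1 := by
  obtain ⟨⟨⟨a, d⟩, h2⟩, rfl⟩ := hk
  exact h a d h2 h1

theorem Val.sub_self {a : V} {d : F} (hx : C.Pt x) {t : F} (h : C.Val x (a + t • x) d) :
    C.Val x a (d - (σ t - P.ε * t)) ∧ C.el x (a + t • x) d = C.el x a (d - (σ t - P.ε * t)) := by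
  have h1 : C.Val x a (d - (σ t - P.ε * t)) := by
    have := h.add (val_smul_self hx (-t))
    rw [P.B_smul_right, P.B_eq_zero_comm.1 h.2.1] at this
    convert this using 1
    · module
    · rw [map_neg]; ring
  exact ⟨h1, by rw [← el_add_self hx h1 t, sub_add_cancel]⟩

theorem tyT_of (hx : C.Pt x) {ω : Ω} (hR : C.R = ⊥) (hD : ∀ v, P.B x v = 0 → v ∈ C.D x ω)
    (hE : ∀ s, s ∈ C.E x ω) : C.TyT x ω := by
  intro a d ha hω
  have h2 : a ∈ span F {x} := by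
    rw [← P.perp_perp C.nondeg (span F {x})]
    exact fun v hv => P.B_eq_zero_comm.1 (B_zero_of_mem_A
      (fun s hs => hD s (P.mem_perp_span_singleton.1 hs)) ⟨d, ha, hω⟩ hv)
  obtain ⟨t, rfl⟩ := mem_span_singleton.1 h2
  rw [← zero_add (t • x)] at ha hω ⊢
  obtain ⟨h3, h4⟩ := ha.sub_self hx
  rw [h4] at hω ⊢
  rw [eq_zero_of_forall_mul_mem_κ (c := d - _) fun s => by
    rw [mul_comm]; exact mem_E.1 (hE s) _ (mem_Z.2 ⟨val_zero_iff.1 h3, hω⟩), el_zero]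

theorem Fx.el_smul {ω : Ω} (hf : C.Fx x ω) {U : Submodule F V} (hD : ∀ v ∈ C.D x ω, v ∈ U)
    {a : V} {d : F} (ha : C.Val x a d) (hU : a ∈ P.perp U) : C.el x a d • ω = ω :=
  el_smul_of_mem_A hf (mem_A_of_orth fun v hv => P.B_eq_zero_comm.1 (hU v (hD v hv))) ha

theorem TyT.not_fx {ω : Ω} (h : C.TyT x ω) (hx : C.Pt x) (hx0 : x ≠ 0) {δ : F} (h1 : δ ∈ P.Λ)
    (h2 : δ ≠ 0) : ¬ C.Fx x ω := fun k =>
  h2 (eq_zero_of_el_eq_one hx hx0 h1 (h _ _ (val_zero_iff.2 h1) (mem_Z.1 (k δ h1)).2))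

variable [Finite Ω] {r c J : ℕ} (h : C.UH Ω r c J)
include h

theorem UH.exists_E (hx : C.Pt x) (hx0 : x ≠ 0) {ω : Ω} (hm : ¬ C.Fx x ω) (s : F) :
    ∃ ω' : Ω, ¬ C.Fx x ω' ∧ s ∈ C.E x ω' := by
  obtain ⟨χ, h1, hχ⟩ := exists_E_of_not_fx hm
  obtain ⟨a, ha, l, hl, rfl⟩ := L_cover h.hH hχ s
  by_cases h0 : a = 0
  · exact ⟨ω, hm, by simpa [h0] using mem_E_of_perp x ω hl⟩
  obtain ⟨t, rfl⟩ := h.hH.norm_surj a ha
  have ht : t ≠ 0 := by rintro rfl; simp at h0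
  obtain ⟨g, hg⟩ := h.tw hx hx0 (inv_ne_zero ht)
  exact ⟨g • ω, inv_not_fx hx g _ ω (inv_ne_zero ht) hg hm,
    add_mem (E_twist hx ht hg h1) (mem_E_of_perp x _ hl)⟩

theorem UH.one_le (hx : C.Pt x) (hx0 : x ≠ 0) {v : V} (hv : P.B x v = 0) (s : F) :
    1 ≤ (C.ob2 Ω x (fun ω => ¬ C.Fx x ω) (v, s)).ncard := by
  obtain ⟨ω, hm⟩ := h.exists_moved hx hx0
  obtain ⟨ω', h1, h2⟩ := h.exists_E hx hx0 hm s
  exact (Set.ncard_pos (Set.toFinite _)).2 ⟨_, mk_mem_ob2 h1 (h.big hx hx0 h1 hv) h2⟩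

theorem UH.rel_of_moved (hx : C.Pt x) (hx0 : x ≠ 0) {ω ω' : Ω} (hm : ¬ C.Fx x ω)
    (hm' : ¬ C.Fx x ω') : C.rel Ω x ω ω' := by
  by_contra hn
  have h1 := count2_two hx (inv_not_fx (Ω := Ω) hx) (h.hk hx0)
    (T₁ := {v | P.B x v = 0} ×ˢ (perp (pairM F) P.Λ : Set F))
    (T₂ := {v | P.B x v = 0} ×ˢ (perp (pairM F) P.Λ : Set F)ᶜ) (μ₁ := 2)
    (Set.disjoint_left.2 fun p k1 k2 => k2.2 k1.2) (fun p hp => by
      by_contra k
      exact hn (rel_of_ncard_le_one (Nat.le_of_lt_succ (not_le.1 k))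
        (mk_mem_ob2 hm (h.big hx hx0 hm hp.1) (mem_E_of_perp x ω hp.2))
        (mk_mem_ob2 hm' (h.big hx hx0 hm' hp.1) (mem_E_of_perp x ω' hp.2))))
    fun p hp => h.one_le hx hx0 hp.1 p.2
  rw [Set.ncard_prod, Set.ncard_prod, Set.ncard_compl, h.card_perp hx0, h.ncard_L, h.hq,
    show (r + 1) ^ 2 - (r + 1) = (r + 1) * r from Nat.sub_eq_of_eq_add (by ring), one_mul] at h1
  exact uA4 h.r_pos h.J2 h.hN (h1.trans (Nat.mul_le_mul_left _ (ncard_le_card' _)))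

theorem UH.tyT (hx : C.Pt x) (hx0 : x ≠ 0) {ω : Ω} (hm : ¬ C.Fx x ω) : C.TyT x ω :=
  tyT_of hx h.hR (fun _ => h.big hx hx0 hm) fun s =>
    let ⟨_, h1, h2⟩ := h.exists_E hx hx0 hm s
    E_congr hx (h.rel_of_moved hx hx0 h1 hm) ▸ h2

theorem UH.card_fx (hx : C.Pt x) (hx0 : x ≠ 0) : r * (r + 2) * {ω : Ω | C.Fx x ω}.ncard < J := by
  have h1 := count2_one hx (inv_not_fx (Ω := Ω) hx) (h.hk hx0)
    (T := {v | P.B x v = 0} ×ˢ (Set.univ : Set F)) fun p hp => h.one_le hx hx0 hp.1 p.2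
  rw [Set.ncard_prod, Set.ncard_univ, h.card_perp hx0, h.hq] at h1
  have h2 : (r + 1) ^ 5 * c ≤ {ω : Ω | ¬ C.Fx x ω}.ncard :=
    Nat.le_of_mul_le_mul_left (c := (r + 1) ^ 3) (by nlinarith) (by positivity)
  have h3 := ncard_add_ncard_le (S := {ω : Ω | C.Fx x ω}) (T := {ω : Ω | ¬ C.Fx x ω})
    (Set.disjoint_left.2 fun _ k1 k2 => k2 k1)
  have h4 := h.hN
  nlinarith [Nat.mul_le_mul_left (r * (r + 2)) ((Nat.add_le_add_left h2 _).trans h3)]

theorem UH.ty (hx : C.Pt x) (hx0 : x ≠ 0) (ω : Ω) :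
    C.TyF x ω ∨ C.TyT x ω ∨ ∃ w, C.TyL x ω w := by
  have := C.finite_V
  by_cases hf : C.Fx x ω
  swap
  · exact Or.inr (Or.inl (h.tyT hx hx0 hf))
  by_cases H : ∀ w ∈ C.D x ω, w ∈ span F {x}
  · exact Or.inl fun a d ha => hf.el_smul H ha (P.mem_perp_span_singleton.2 ha.2.1)
  push Not at H
  obtain ⟨w, hw, hw'⟩ := H
  have hN := h.card_fx hx hx0
  have i1 : ∀ w ∈ C.D x ω, w ∉ span F {x} → P.B w w = 0 →
      ∀ p ∈ {v | P.B x v = 0 ∧ P.B v v = 0} ×ˢ (perp (pairM F) P.Λ : Set F),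
      (C.ob2 Ω x (C.Fx x) (w, 0)).ncard ≤ (C.ob2 Ω x (C.Fx x) p).ncard := fun w k1 k2 k3 p hp => by
    simpa using h.M_iso hx hx0 (inv_fx (Ω := Ω) hx) k2 (D_orth hx k1) k3 hp.1.1 hp.1.2 0
      (map_zero σ) hp.2
  have i2 : ∀ w ∈ C.D x ω, P.B w w ≠ 0 →
      ∀ p ∈ {v | P.B x v = 0 ∧ P.B v v ≠ 0} ×ˢ (perp (pairM F) P.Λ : Set F),
      (C.ob2 Ω x (C.Fx x) (w, 0)).ncard ≤ (C.ob2 Ω x (C.Fx x) p).ncard := fun w k1 k3 p hp => by
    simpa using h.M_ni hx hx0 (inv_fx (Ω := Ω) hx) (D_orth hx k1) k3 hp.1.1 hp.1.2 0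
      (k := 0) (by simp) hp.2
  have i3 : ∀ w ∈ C.D x ω, 1 ≤ (C.ob2 Ω x (C.Fx x) (w, 0)).ncard := fun w k =>
    (Set.ncard_pos (Set.toFinite _)).2 ⟨_, mk_mem_ob2 hf k (zero_mem _)⟩
  have key : ∀ u ∈ C.D x ω, u ∈ span F {x, w} := by
    intro u hu
    by_contra hu'
    by_cases H : ∀ v ∈ C.D x ω, P.B v v = 0
    · obtain ⟨w', k1, k2, k3⟩ := h.img_iso hx (inv_fx hx) hf (zero_mem _) H hw hw' hu hu'
      have k4 := count2_one hx (inv_fx (Ω := Ω) hx) (h.hk hx0) fun p hp =>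
        ((show 2 ≤ r + 2 by omega).trans k3).trans (i1 w' k1 k2 (H _ k1) p hp)
      rw [Set.ncard_prod, h.hJ x hx.1 hx0, h.ncard_L] at k4
      exact uA5 h.r_pos hN k4
    push Not at H
    obtain ⟨w', k1, k2⟩ := H
    have both : ∀ v ∈ C.D x ω, v ∉ span F {x} → P.B v v ≠ 0 := fun v j1 j2 j3 => by
      have j4 := count2_two hx (inv_fx (Ω := Ω) hx) (h.hk hx0)
        (Set.disjoint_left.2 fun p a1 a2 => a1.1.2 a2.1.2)
        (fun p hp => (i3 _ k1).trans (i2 w' k1 k2 p hp))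
        fun p hp => (i3 _ j1).trans (i1 v j1 j2 j3 p hp)
      rw [Set.ncard_prod, Set.ncard_prod, h.hJ x hx.1 hx0, h.ncard_L, one_mul, one_mul, ← add_mul,
        h.card_ni hx hx0] at j4
      exact uA7 h.r_pos h.J2 hN j4
    have hw0 := both w hw hw'
    obtain ⟨z, hz, hz1, hz2⟩ := u_exists_sing h.hH C.nondeg h.h5 hx.1 hx0 (D_orth hx hw) hw0
    obtain ⟨y, hy, hy1, hyu, hy2⟩ := exists_sing_not_orth' C.nondeg hz hz1 hz2 hu'
    have xy := P.mem_perp_span.1 hy1 x (by simp)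
    have wy := P.mem_perp_span.1 hy1 w (by simp)
    obtain ⟨δ, hδ1, hδ0⟩ := hδ h.hH
    have py := h.pt hy.self_eq
    refine both _ (h.z_mem hx hw hw0 hy.self_eq xy wy hu hδ1 fun _ => ?_) (fun k => hy2
      (span_mono (by simp) ((smul_mem_iff _ (mul_ne_zero hδ0 hyu)).1 k))) (hy.smul _).self_eq
    refine rel_of_ncard_le_one ?_ (mk_smul_mem_ob2 hx (inv_fx hx) (mk_mem_ob2 hf hw (zero_mem _))
      (z_fix py hδ1 (P.B_eq_zero_comm.1 xy)) (z_fix py hδ1 (P.B_eq_zero_comm.1 wy)))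
      (mk_mem_ob2 hf hw (zero_mem _))
    by_contra k
    have k4 := count2_one hx (inv_fx (Ω := Ω) hx) (h.hk hx0) (μ := 2) fun p hp =>
      (not_le.1 k).trans_le (i2 w hw hw0 p hp)
    rw [Set.ncard_prod, h.ncard_L] at k4
    exact uA6 h.r_pos h.J2 (h.card_ni hx hx0) hN k4
  exact Or.inr (Or.inr ⟨w, D_orth hx hw, by rwa [h.hR, bot_sup_eq], fun a d ha haw =>
    hf.el_smul key ha (P.mem_perp_span.2 (by rintro _ (rfl | rfl); exacts [ha.2.1, haw])),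
    fun g hg hgx => mem_sup_right (key _ (hg ▸ D_fix hx hgx hw))⟩)

theorem UH.exists_sing (y : V) :
    ∃ z, P.Sing z ∧ z ∈ P.perp (span F {y}) ∧ z ∉ span F {y} := by
  obtain ⟨Z, h1, h2, h3⟩ := exists_sub_perp C.nondeg (span F {y})
  obtain ⟨z, k1, k2, k3⟩ := herm_exists_sing h.hH (Z := Z) (by
    have := finrank_one_le (F := F) y
    have := h.h5
    omega)
  exact ⟨z, k3, h1 k1, fun k => k2 (disjoint_def.1 h2 z k1 k)⟩

theorem UH.hrel (hx : C.Pt x) (hx0 : x ≠ 0) {ω : Ω} (hT : C.TyT x ω) {g : C.K} {t : F}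
    (ht : t ≠ 0) (hg : g.1 x = t • x) : ∃ a d, C.Val x a d ∧ (C.el x a d * g) • ω = ω := by
  obtain ⟨δ, hδ1, hδ0⟩ := hδ h.hH
  have hm := hT.not_fx hx hx0 hδ1 hδ0
  simpa only [mul_smul] using
    rel_iff.1 (h.rel_of_moved hx hx0 hm (inv_not_fx hx g t ω ht hg hm))

theorem UH.not_allT {ω : Ω} (hT : ∀ x, C.Pt x → x ≠ 0 → C.TyT x ω) : False := by
  have bz := fun {a b : V} (k : P.B a b = 0) => P.B_eq_zero_comm.1 k
  obtain ⟨x, hx, -, hx0⟩ := h.exists_sing 0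
  rw [span_zero_singleton, mem_bot] at hx0
  obtain ⟨y, hy, xy, hyx⟩ := h.exists_sing x
  rw [PQ.mem_perp_span_singleton] at xy
  have px := h.pt hx.self_eq
  have py := h.pt hy.self_eq
  obtain ⟨y', y'1, y'y, y'x⟩ := P.exists_partner C.nondeg _ hy hyx fun a ha => by
    obtain ⟨t, rfl⟩ := mem_span_singleton.1 ha
    simp [bz xy]
  replace y'x := y'x x (mem_span_singleton_self x)
  obtain ⟨x', x'1, x'x, x'y⟩ := P.exists_partner C.nondeg (span F {y}) hx (fun k => by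
    obtain ⟨t, rfl⟩ := mem_span_singleton.1 k
    exact hx0 (by simp [show t = 0 by simpa [y'y] using y'x])) fun a ha => by
      obtain ⟨t, rfl⟩ := mem_span_singleton.1 ha
      simp [xy]
  replace x'y := x'y y (mem_span_singleton_self y)
  obtain ⟨δ, hδ1, hδ0⟩ := hδ h.hH
  have σδ := hΛσ h.hH hδ1
  obtain ⟨a, d, ha, hs⟩ := h.hrel px hx0 (hT x px hx0) (g := C.el y 0 δ) one_ne_zero
    (by rw [z_fix py hδ1 (bz xy), one_smul])
  obtain ⟨ζ, hζ1, hζ2⟩ := hζ h.hH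
  have hζ0 : ζ ≠ 0 := by rintro rfl; simp at hζ1
  obtain ⟨g₁, a1, a2, a3, a4⟩ := exists_dil C.nondeg hx x'1 x'x hζ0
  obtain ⟨g₂, b1, b2, b3, b4⟩ := exists_dil C.nondeg hy y'1 y'y (inv_ne_zero hζ0)
  let g : C.K := ⟨g₁ * g₂, h.memK (a1.comp b1) (by
    change LinearMap.det (g₁.toLinearMap ∘ₗ g₂.toLinearMap) = 1
    have : σ ζ ≠ 0 := by simpa using hζ0
    rw [LinearMap.det_comp, a2, b2, map_inv₀]; field_simp)⟩
  have gx : g.1 x = ζ • x := (congrArg g₁ (b4 x (bz xy) y'x)).trans a3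
  have gy : g.1 y = ζ⁻¹ • y := (congrArg g₁ b3).trans (by rw [map_smul, a4 y xy x'y])
  obtain ⟨b, e, hb, hk⟩ := h.hrel px hx0 (hT x px hx0) hζ0 gx
  have gz : g * C.el y 0 δ * g⁻¹ = C.el y 0 δ := by
    rw [el_conj g py (val_zero_iff.2 hδ1), gy, map_zero, el_smul_left py (val_zero_iff.2 hδ1),
      smul_zero, map_inv₀, ← mul_inv, hζ1, inv_one, one_mul]
  have comm : C.el x b e * g * (C.el x a d * C.el y 0 δ) =
      C.el x a d * C.el y 0 δ * (C.el x b e * g) := by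
    rw [← mul_inv_eq_one]
    refine (hT x px hx0).eq_one ?_ (mul_mem (mul_mem (MulAction.mem_stabilizer_iff.2 hk) hs)
      (inv_mem (mul_mem (MulAction.mem_stabilizer_iff.2 hs) hk)))
    convert mul_mem (mul_mem (mul_mem (el_mem_range hb)
      (conj_mem_range px hζ0 gx (el_mem_range ha)))
      (conj_mem_range px one_ne_zero (by rw [z_fix py hδ1 (bz xy), one_smul])
        (inv_mem (el_mem_range hb)))) (inv_mem (el_mem_range ha)) using 1
    conv_rhs => enter [1, 2, 1, 1]; rw [← gz]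
    group
  have ev : ∀ v, P.B x v = 0 → P.B y v = 0 → P.B a (g.1 v) = ζ * P.B a v := fun v k1 k2 => by
    have k3 : P.B x (g.1 v) = 0 := by
      have := B_map g x v
      rw [gx, P.B_smul_left, k1] at this
      simpa [hζ0] using this
    have k4 : P.B y (g.1 v) = 0 := by
      have := B_map g y v
      rw [gy, P.B_smul_left, k2] at this
      simpa [hζ0] using this
    have := congrArg (fun k : C.K => P.B x' (k.1 v)) comm
    simp only [mul_apply', z_apply py hδ1, h.el_apply px ha, h.el_apply px hb, map_add, map_sub,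
      map_smul, k1, k2, k3, k4, gx, hx.self_eq, bz xy, bz ha.2.1, bz hb.2.1, x'x, mul_zero, zero_smul,
      sub_zero, smul_eq_mul, add_zero, mul_one] at this
    linear_combination -this
  have ay : P.B a y = 0 := by
    have := ev y xy hy.self_eq
    rw [gy, P.B_smul_right] at this
    refine (mul_eq_zero.1 (show (ζ * ζ - 1) * _ = 0 from ?_)).resolve_left (sub_ne_zero.2 hζ2)
    field_simp at this
    linear_combination -this
  obtain ⟨α, β, rfl⟩ := mem_span_pair.1 (show a ∈ span F {x, y} by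
    rw [← P.perp_perp C.nondeg (span F {x, y})]
    intro v hv
    have k1 := P.mem_perp_span.1 hv x (by simp)
    have k2 := P.mem_perp_span.1 hv y (by simp)
    have k3 : P.B x (v - P.B x' v • x - P.B y' v • y) = 0 := by simp [k1, hx.self_eq, xy]
    have k4 : P.B y (v - P.B x' v • x - P.B y' v • y) = 0 := by simp [k2, hy.self_eq, bz xy]
    have k5 := ev _ k3 k4
    rw [show g.1 _ = _ from (congrArg g₁ (b4 _ k4 (by simp [y'x, y'y]))).trans
      (a4 _ k3 (by simp [x'x, x'y]))] at k5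
    have k6 : 1 - ζ ≠ 0 := fun k => hζ2 (by rw [← sub_eq_zero.1 k, one_mul])
    simp only [map_sub, map_smul, ay, bz ha.2.1, smul_zero, sub_zero] at k5
    exact bz ((mul_eq_zero.1 (by linear_combination k5)).resolve_left k6))
  rw [add_comm] at ha hs
  obtain ⟨ha', e1⟩ := ha.sub_self px
  rw [e1] at hs
  generalize d - (σ α - P.ε * α) = d' at ha' hs
  have σd := hΛσ h.hH (by simpa using ha'.sub_mem (val_of_sing (py.smul β) ha'.2.1 (zero_mem _)) :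
    d' ∈ P.Λ)
  obtain ⟨μ, hμ⟩ := h.hH.norm_surj (σ (σ β / δ) * (σ β / δ) - d' / δ) (by
    simp only [map_sub, map_mul, map_div₀, P.σσ, σδ, σd, map_neg]; field_simp)
  have pp : C.Pt (y + (μ - σ β / δ) • x) := py.add (px.smul _) (by simp [bz xy])
  have vp : C.Val (y + (μ - σ β / δ) • x) ((-δ * μ) • x) δ :=
    val_of_sing (px.smul _) (by simp [bz xy, hx.self_eq]) hδ1
  have e2 : C.el x (β • y) d' * C.el y 0 δ = C.el (y + (μ - σ β / δ) • x) ((-δ * μ) • x) δ :=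
    ext' fun v => by
      rw [mul_apply', h.el_apply px ha', h.el_apply pp vp, z_apply py hδ1]
      simp only [map_sub, map_add, map_smul, map_smulₛₗ, LinearMap.add_apply, LinearMap.smul_apply,
        hy.self_eq, xy, smul_eq_mul, map_mul, map_neg, map_div₀, σδ, P.σσ] at hμ ⊢
      match_scalars
      · ring
      · field_simp; ring
      · field_simp at hμ ⊢
        linear_combination (-P.B x v) * hμ
  rw [e2] at hs
  have e3 := hT _ pp (P.ne_zero_of_B_ne' (a := y') (by simp [y'y, y'x])) _ _ vp hs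
  rw [← e2] at e3
  have e4 := congrArg (fun k : C.K => P.B y' (k.1 y')) e3
  have yy' : P.B y y' = 1 := by rw [← h.hH.conj, y'y, map_one]
  simp [mul_apply', h.el_apply px ha', z_apply py hδ1, y'x, y'y, bz y'x, xy, yy', hδ0] at e4

theorem UH.main [MulAction.IsPretransitive C.K Ω] (ω : Ω) :
    ∃ v, v ≠ 0 ∧ ∀ g : C.K, g • ω = ω → g.1 v ∈ span F {v} := by
  have := geo (C := C) ω (fun y => by rw [h.hR, bot_sup_eq]; exact h.exists_sing y)
    (Or.inl ⟨h.hR, herm_Λ_ne h.hH⟩) (fun x _ hx => by rwa [h.hR] at hx)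
    (fun x hx hx0 => h.ty hx hx0 ω) (fun x y y' hx hx0 hT hy hy' h1 h2 h3 h4 => ?_) ?_ ?_
  · simpa only [h.hR, bot_sup_eq, mem_bot] using this
  · rw [h.hR, bot_sup_eq] at h3 h4
    obtain ⟨g, k1, k2⟩ := h.tr1 h3 h4 h1 h2 (by rw [hy.self_eq, hy'.self_eq])
    obtain ⟨a, d, k3, k4⟩ := h.hrel hx hx0 hT one_ne_zero (by rw [k1, one_smul])
    exact ⟨_, _, k4, by rw [mul_apply', k2, Ctx.el_apply hx k3, rt_of_orth_left P _ _ h2]⟩
  · obtain ⟨x, hx, -, hx0⟩ := h.exists_sing 0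
    rw [span_zero_singleton, mem_bot] at hx0
    have px := h.pt hx.self_eq
    obtain ⟨ω', h1⟩ := h.exists_moved px hx0
    obtain ⟨g, rfl⟩ := MulAction.exists_smul_eq C.K ω' ω
    refine ⟨_, px.map g, fun k => h1 fun d hd => ?_⟩
    have := (k.map (px.map g) g⁻¹) 0 d (val_zero_iff.2 hd)
    rw [inv_apply', inv_smul_smul] at this
    exact mem_Z.2 ⟨hd, this⟩
  · by_contra hall
    push Not at hall
    exact h.not_allT hall

end Ctx

end CfsgLib.MinIdx
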