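import Mathlib
import Cfsg.Agent.Lib.MinIdx.UMain
import Cfsg.Agent.Lib.MinIdx.OFinal
import Cfsg.Agent.Lib.RootMax.GL
import Cfsg.Agent.Lib.Forms.StabMat
import Cfsg.Agent.Lib.Unitary.Center

/-!
The minimal index of a proper subgroup of a unitary group of dimension at least five.
-/

set_option autoImplicit false
set_option linter.unusedSectionVars false

namespace CfsgLib.MinIdx

open CfsgLib.Forms CfsgLib.RootMax CfsgLib.ClMax CfsgLib.Unitary Module Submodule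

universe u v

section abstract

variable {F : Type u} [Field F] {σ : F →+* F} {V : Type v} [AddCommGroup V] [Module F V]
  {P : PQ σ V} [FiniteDimensional F V] [Finite F]

theorem ncard_sing_off (hP : P.Nondeg) {x : V} (hx : P.Sing x) (hx0 : x ≠ 0) {d : ℕ}
    (hd : finrank F V = d + 2) : {v | P.Sing v ∧ P.B x v ≠ 0}.ncard =
      (Nat.card F - 1) * (Nat.card F ^ d * Nat.card P.Λ) := by
  obtain ⟨y, -, hy, -⟩ := P.exists_partner hP ⊥ hx hx0 (by simp)
  have b1 : ∀ {z}, P.B z x = 1 → P.B x z = P.ε := P.B_eq_ε_of_B_eq_one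
  rw [← P.card_partners hP ⊥ hx (by simp) hy (by simp) (by rw [finrank_bot]; omega),
    ← Nat.card_units, ← Nat.card_prod, ← Nat.card_coe_set_eq]
  symm
  refine Nat.card_congr (Equiv.ofBijective (fun p => ⟨p.1.1 • p.2.1, p.2.2.1.smul _, by
    simp [b1 p.2.2.2.1, P.ε_ne]⟩) ⟨fun p p' h => ?_, fun v => ?_⟩)
  · have h1 : p.1.1 • p.2.1 = p'.1.1 • p'.2.1 := congrArg Subtype.val h
    have h2 := congrArg (P.B x) h1
    simp only [map_smul, b1 p.2.2.2.1, b1 p'.2.2.2.1, smul_eq_mul, mul_left_inj' P.ε_ne] at h2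
    rw [h2] at h1
    exact Prod.ext (Units.ext h2) (Subtype.ext (smul_right_injective V p'.1.ne_zero h1))
  · have h1 : P.ε * P.B x v ≠ 0 := mul_ne_zero P.ε_ne v.2.2
    have h2 : σ (P.B x v) ≠ 0 := by simpa using v.2.2
    refine ⟨⟨Units.mk0 _ h1, (P.ε * P.B x v)⁻¹ • v.1, v.2.1.smul _, ?_, by simp⟩,
      Subtype.ext (smul_inv_smul₀ h1 _)⟩
    rw [P.B_smul_left, P.symm x, map_inv₀, map_mul, P.σε]
    exact inv_mul_cancel₀ (mul_ne_zero P.ε_ne h2)

theorem su_index_lineStab (hH : P.IsHerm) (hP : P.Nondeg) (h5 : 5 ≤ finrank F V) {v : V}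
    (hv : v ≠ 0) : (lineStab (P.isom ⊓ SLV F V).subtype v).index *
      {c : F | c ≠ 0 ∧ σ c * c * P.B v v = P.B v v}.ncard = {u | u ≠ 0 ∧ P.B u u = P.B v v}.ncard := by
  have h2 : ∀ u, (∃ g, (P.isom ⊓ SLV F V).subtype g v = u) ↔ u ≠ 0 ∧ P.B u u = P.B v v := fun u =>
    ⟨by rintro ⟨g, rfl⟩; exact ⟨fun h => hv (g.1.map_eq_zero_iff.1 h), g.2.1.B_eq v v⟩, fun h =>
      let ⟨g, k1, _, k2⟩ := u_witt hH hP h5 ⊥ (by simp) hv h.1 (by simp) h.2
      ⟨⟨g, k1⟩, k2⟩⟩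
  have h1 := index_lineStab_mul (P.isom ⊓ SLV F V).subtype hv
  simp only [h2, P.B_smul_left, P.B_smul_right, ne_eq, smul_eq_zero, hv, or_false] at h1
  simpa only [mul_assoc, mul_left_comm (σ _)] using h1

end abstract

variable {F : Type u} [Field F] [Fintype F] {q n : ℕ} (hF : Fintype.card F = q ^ 2)

theorem su_index_iso (h5 : 5 ≤ n) {v : Fin n → F} (hv : v ≠ 0) (hv0 : (uPQ hF n).B v v = 0) :
    (lineStab ((uPQ hF n).isom ⊓ SLV F (Fin n → F)).subtype v).index * (q ^ 2 - 1) + 1 =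
      Nat.card {u : Fin n → F // Cfsg.hermForm n F q u u = 0} := by
  have h1 := su_index_lineStab (uPQ_isHerm hF n) (uPQ_nondeg hF n) (by simpa) hv
  have h2 : {c : F | c ≠ 0 ∧ conj hF c * c * (uPQ hF n).B v v = (uPQ hF n).B v v} = {0}ᶜ := by
    ext c; simp [hv0]
  rw [h2, Set.ncard_compl, Set.ncard_singleton, Nat.card_eq_fintype_card, hF, hv0] at h1
  rw [h1, ← Set.ncard_insert_of_notMem (a := 0) (by simp), ← Nat.card_coe_set_eq]
  refine Nat.card_congr (Equiv.subtypeEquivRight fun u => ?_)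
  by_cases h : u = 0 <;> simp [h, uPQ_B, herm_zero_left]

theorem su_index_ni (h5 : 5 ≤ n) {v : Fin n → F} (hv : (uPQ hF n).B v v ≠ 0) :
    (lineStab ((uPQ hF n).isom ⊓ SLV F (Fin n → F)).subtype v).index * (q + 1) =
      if Even n then q ^ (n - 1) * (q ^ n - 1) else q ^ (n - 1) * (q ^ n + 1) := by
  have h1 := su_index_lineStab (uPQ_isHerm hF n) (uPQ_nondeg hF n) (by simpa)
    ((uPQ hF n).ne_zero_of_B_ne hv)
  rw [← card_norm_ne_zero hF n (herm_self_pow_q hF v) hv, ← card_norm_one hF]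
  convert h1 using 1
  · congr 1
    refine Nat.card_congr (Equiv.subtypeEquivRight fun c => ?_)
    simp only [Set.mem_ofPred_eq, mul_eq_right₀ hv, conj_apply, ← pow_succ]
    exact (and_iff_right_of_imp (by rintro h rfl; simp at h)).symm
  · refine Nat.card_congr (Equiv.subtypeEquivRight fun u => ?_)
    exact (and_iff_right_of_imp (by rintro h rfl; exact hv (h.symm.trans (herm_zero_left _)))).symm

theorem su_lower (h5 : 5 ≤ n) {d : ℕ}
    (hs : d * (q ^ 2 - 1) + 1 ≤ Nat.card {u : Fin n → F // Cfsg.hermForm n F q u u = 0})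
    (hn : d * (q + 1) ≤ if Even n then q ^ (n - 1) * (q ^ n - 1) else q ^ (n - 1) * (q ^ n + 1))
    (H : Subgroup ((uPQ hF n).isom ⊓ SLV F (Fin n → F) :)) (hH : H ≠ ⊤) : d ≤ H.index := by
  by_contra hlt
  push Not at hlt
  have hK := rootGroup_su hF n (Or.inl (by omega))
  have hP := uPQ_nondeg hF n
  have hfin : Finite ((uPQ hF n).isom ⊓ SLV F (Fin n → F) :) := Ctx.finite_K (C := ctxOf hP hK)
  have hq := two_le_q hF
  obtain ⟨r, rfl⟩ : ∃ r, q = r + 1 := ⟨q - 1, by omega⟩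
  obtain ⟨m, rfl⟩ : ∃ m, n = m + 5 := ⟨n - 5, by omega⟩
  have hc : Nat.card F = (r + 1) ^ 2 := by rw [Nat.card_eq_fintype_card, hF]
  have e1 : (r + 1) ^ 2 - 1 = r * (r + 2) := Nat.sub_eq_of_eq_add (by ring)
  set n0 := Nat.card {u : Fin (m + 5) → F // Cfsg.hermForm (m + 5) F (r + 1) u u = 0} with hn0
  set a := (r + 1) ^ m with ha
  have ha1 : 1 ≤ a := Nat.one_le_pow _ _ r.succ_pos
  have e2 : n0 + r * (r + 1) ^ 4 * a = (r + 1) ^ 9 * a ^ 2 ∨
      n0 = (r + 1) ^ 9 * a ^ 2 + r * (r + 1) ^ 4 * a := by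
    have h1 := card_norm_zero_int hF (m + 5)
    rw [← hn0, pow_add] at h1
    have h2 : ((r + 1 : ℕ) : ℤ) ≠ 0 := by positivity
    have h3 : ((r + 1 : ℕ) : ℤ) ^ m = a := by rw [ha]; norm_cast
    rw [h3] at h1
    zify
    push_cast at h1 h2
    rcases neg_one_pow_eq_or ℤ (m + 5) with h | h <;> rw [h] at h1
    · exact Or.inr (mul_left_cancel₀ h2 (by linear_combination h1))
    · exact Or.inl (mul_left_cancel₀ h2 (by linear_combination h1))
  have e3 : r * (r + 1) ^ 4 * a ≤ r * (r + 1) ^ 4 * a ^ 2 :=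
    Nat.mul_le_mul_left _ (Nat.le_self_pow two_ne_zero a)
  have e4 : ∀ x, (uPQ hF (m + 5)).Sing x → x ≠ 0 →
      {v | (uPQ hF (m + 5)).B x v = 0 ∧ (uPQ hF (m + 5)).B v v = 0}.ncard +
        r * (r + 2) * ((r + 1) ^ 7 * a ^ 2) = n0 := fun x hx hx0 => by
    have h1 := ncard_sing_off hP hx hx0 (d := m + 3) (by simp)
    rw [hc, card_uPQ_Λ, e1, show ((r + 1) ^ 2) ^ (m + 3) * (r + 1) = (r + 1) ^ 7 * a ^ 2 by
      rw [ha, ← pow_mul]; ring] at h1
    rw [← h1, ← Set.ncard_union_eq (Set.disjoint_left.2 fun v k1 k2 => k2.2 k1.1),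
      ← Nat.card_coe_set_eq]
    refine Nat.card_congr (Equiv.subtypeEquivRight fun u => ?_)
    by_cases h : (uPQ hF (m + 5)).B x u = 0 <;>
      simp [h, (uPQ_isHerm hF (m + 5)).sing_iff, ← uPQ_B hF]
  obtain ⟨x, -, hx0, hx⟩ := herm_exists_sing (uPQ_isHerm hF (m + 5)) (Z := ⊤) (by simp)
  have e5 := e4 x hx hx0
  have hr : 0 < r * (r + 2) := Nat.mul_pos (by omega) (by omega)
  have h : (ctxOf hP hK).UH (_ ⧸ H) r ((r + 1) ^ 2 * a ^ 2)
      (n0 - r * (r + 2) * ((r + 1) ^ 7 * a ^ 2)) :=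
    { hH := uPQ_isHerm hF _
      hR := rfl
      hK := rfl
      h5 := by simp
      hq := hc
      hΛ := card_uPQ_Λ hF
      hc := by rw [hc, ha, ← pow_mul]; simp; ring
      hJ := fun x h1 h2 => Nat.eq_sub_of_add_eq (e4 x h1 h2)
      J1 := by rw [← e5, Nat.add_sub_cancel]; rcases e2 with h | h <;>
        nlinarith [Nat.zero_le (r * (r + 1) ^ 4 * a)]
      J2 := by rw [← e5, Nat.add_sub_cancel]; rcases e2 with h | h <;>
        nlinarith [Nat.zero_le (r * (r + 1) ^ 4 * a)]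
      hN := by
        have := Nat.mul_lt_mul_of_pos_left hlt hr
        rw [e1] at hs
        rw [← e5, Nat.add_sub_cancel]
        change r * (r + 2) * H.index < _
        nlinarith
      nt := by
        obtain ⟨y, -, h1⟩ := ctxOf_not_tyF hP hK hH (QuotientGroup.mk 1)
        by_contra k
        push Not at k
        exact h1 fun _ _ _ => k _ _ }
  obtain ⟨v, hv, h1⟩ := h.main (QuotientGroup.mk 1)
  have h2 := (index_le_of_le (le_lineStab_of hv h1)).trans_lt hlt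
  by_cases hv0 : (uPQ hF (m + 5)).B v v = 0
  · rw [hn0, ← su_index_iso hF h5 hv hv0, e1, Nat.add_le_add_iff_right] at hs
    exact absurd (Nat.le_of_mul_le_mul_right hs hr) (not_le.2 h2)
  · rw [← su_index_ni hF h5 hv0] at hn
    exact absurd (Nat.le_of_mul_le_mul_right hn (by omega)) (not_le.2 h2)

theorem psu_min (h5 : 5 ≤ n) {d : ℕ}
    (h1 : ∀ H : Subgroup ((uPQ hF n).isom ⊓ SLV F (Fin n → F) :), H ≠ ⊤ → d ≤ H.index)
    {v : Fin n → F} (h2 : (lineStab ((uPQ hF n).isom ⊓ SLV F (Fin n → F)).subtype v).index = d) :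
    (∀ H : Subgroup (Cfsg.PSU n F q), H ≠ ⊤ → d ≤ H.index) ∧
      ∃ H : Subgroup (Cfsg.PSU n F q), H.index = d := by
  let e : Cfsg.SU n F q →* ((uPQ hF n).isom ⊓ SLV F (Fin n → F) :) :=
    (matEquiv (suMat n F q)).codRestrict _ fun A => ⟨su_isIso hF n A, mem_SLV.2 (su_det n A)⟩
  have he : Function.Bijective e := ⟨fun A B h => matEquiv_injective _ (suMat_injective n)
    (congrArg Subtype.val h), fun g =>
      let ⟨A, hA⟩ := exists_su_of_equiv hF n g.1 g.2.1 (mem_SLV.1 g.2.2)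
      ⟨A, Subtype.ext (LinearEquiv.ext hA)⟩⟩
  let e' := MulEquiv.ofBijective e he
  refine min_index_of_surjective ((QuotientGroup.mk' _).comp e'.symm.toMonoidHom)
    ((QuotientGroup.mk'_surjective _).comp e'.symm.surjective) h1 ⟨_, fun g hg => ?_, h2⟩
  obtain ⟨A, rfl⟩ := e'.surjective g
  obtain ⟨a, ha⟩ := (mem_center_SU_iff hF (by omega)).1
    (show A ∈ Subgroup.center _ by simpa using hg)
  have h3 : ∀ u, (e' A).1 u = a • u := fun u =>
    (congrArg (Matrix.mulVec · u) ha).trans (by simp [Matrix.smul_mulVec])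
  refine ⟨a, ?_, h3 v⟩
  rintro rfl
  exact one_ne_zero (congrFun ((e' A).1.map_eq_zero_iff.1 ((h3 1).trans (zero_smul _ _)))
    ⟨0, by omega⟩)

end CfsgLib.MinIdx
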